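import Mathlib.NumberTheory.LegendreSymbol.Basic
import Mathlib.Algebra.Field.ZMod
import Mathlib.RingTheory.IntegralDomain
import Mathlib.Tactic.Linarith
import Mathlib.Tactic.Ring
import Mathlib.Tactic.LinearCombination
import Mathlib.Algebra.BigOperators.Fin

/-!
# A parameter making two quadratics squares

For a prime `p ≥ 263` with `p ≡ 3 (mod 4)`, `p ≡ 2 (mod 3)` and any `m ≠ 0`, some `i` makes both
`i ^ 2 - (1 ± m) ^ 2` nonzero squares and avoids thirty eight degenerate values.  Only the second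
moment of the cubic sums and their six-fold symmetry are used.
-/

set_option autoImplicit false

namespace CfsgLib.Perm.ItoTwoQ

open Finset

variable {p : ℕ} [Fact p.Prime]

/-- The quadratic character of `ZMod p`. -/
noncomputable abbrev qc (x : ZMod p) : ℤ := quadraticChar (ZMod p) x

theorem qc_mul (x y : ZMod p) : qc (x * y) = qc x * qc y :=
  map_mul (quadraticChar (ZMod p)) x y

theorem qc_inv (x : ZMod p) : qc x⁻¹ = qc x := by
  rcases eq_or_ne x 0 with h | h
  · simp [h]
  · have h1 : qc x⁻¹ * qc x = 1 := by rw [← qc_mul, inv_mul_cancel₀ h]; simp [qc]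
    rcases quadraticChar_dichotomy h with e | e <;> simp only [qc] at h1 ⊢ <;> rw [e] at h1 ⊢ <;>
      omega

theorem ringChar_ne_two (hp : p ≠ 2) : ringChar (ZMod p) ≠ 2 := by
  rw [ZMod.ringChar_zmod_n]
  exact hp

theorem qc_mul_self {x : ZMod p} (hx : x ≠ 0) : qc x * qc x = 1 := by
  rw [← sq]
  exact quadraticChar_sq_one hx

theorem qc_sq_le (x : ZMod p) : qc x ^ 2 ≤ 1 := by
  rcases eq_or_ne x 0 with h | h
  · simp [qc, h]
  · exact le_of_eq (quadraticChar_sq_one h)

theorem qc_le (x : ZMod p) : -1 ≤ qc x ∧ qc x ≤ 1 := by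
  have := qc_sq_le x
  constructor <;> nlinarith

theorem neg_one_not_square (hp3 : p % 4 = 3) : ¬ IsSquare (-1 : ZMod p) :=
  fun h => ZMod.exists_sq_eq_neg_one_iff.1 h hp3

theorem qc_neg (hp3 : p % 4 = 3) (x : ZMod p) : qc (-x) = -qc x := by
  have hn : qc (-1 : ZMod p) = -1 := quadraticChar_neg_one_iff_not_isSquare.2 (neg_one_not_square hp3)
  rw [show -x = -1 * x by ring, qc_mul, hn]
  ring

theorem qc_sq {x : ZMod p} (hx : x ≠ 0) (hs : IsSquare x) : qc x = 1 :=
  (quadraticChar_one_iff_isSquare hx).2 hs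

theorem sum_qc (hp : p ≠ 2) : ∑ x : ZMod p, qc x = 0 :=
  quadraticChar_sum_zero (ringChar_ne_two hp)

theorem sum_qc_pair (hp : p ≠ 2) {d : ZMod p} (hd : d ≠ 0) :
    ∑ x : ZMod p, qc x * qc (x + d) = -1 := by
  have hbij : Function.Bijective fun y : ZMod p => 1 + d * y⁻¹ :=
    (add_right_injective (1 : ZMod p)).comp
      ((mul_right_injective₀ hd).comp inv_injective) |> Finite.injective_iff_bijective.1
  have hz : ∑ y : ZMod p, qc (1 + d * y⁻¹) = 0 := by
    rw [Fintype.sum_bijective _ hbij (fun y => qc (1 + d * y⁻¹)) qc (fun _ => rfl)]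
    exact sum_qc hp
  have hpt : ∀ y : ZMod p, qc y * qc (y + d) = qc (1 + d * y⁻¹) - if y = 0 then 1 else 0 := by
    intro y
    rcases eq_or_ne y 0 with hy | hy
    · simp [qc, hy]
    · have e : y + d = y * (1 + d * y⁻¹) := by field_simp
      rw [if_neg hy, sub_zero, e, qc_mul, ← mul_assoc, qc_mul_self hy, one_mul]
  rw [Fintype.sum_congr _ _ hpt, sum_sub_distrib, hz]
  simp

theorem sum_qc_shift (hp : p ≠ 2) (x y : ZMod p) :
    ∑ c : ZMod p, qc (x + c) * qc (y + c) = (if x = y then (p : ℤ) else 0) - 1 := by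
  rcases eq_or_ne x y with h | h
  · subst h
    rw [if_pos rfl]
    have hpt : ∀ c : ZMod p, qc (x + c) * qc (x + c) = 1 - if c = -x then 1 else 0 := by
      intro c
      rcases eq_or_ne (x + c) 0 with hc | hc
      · have : c = -x := by linear_combination hc
        simp [qc, hc, this]
      · have : c ≠ -x := fun e => hc (by rw [e, add_neg_cancel])
        rw [qc_mul_self hc, if_neg this, sub_zero]
    rw [Fintype.sum_congr _ _ hpt, sum_sub_distrib]
    simp [ZMod.card]
  · rw [if_neg h, zero_sub]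
    rw [← sum_qc_pair hp (d := y - x) (sub_ne_zero.2 (Ne.symm h))]
    refine Fintype.sum_equiv (Equiv.addLeft x) _ _ fun c => ?_
    simp only [Equiv.coe_addLeft]
    rw [show x + c + (y - x) = y + c by ring]

/-- The cubic sum attached to `c`. -/
noncomputable def cubicSum (c : ZMod p) : ℤ := ∑ x : ZMod p, qc x * qc (x + 1) * qc (x + c)

theorem sum_cubicSum_sq (hp : p ≠ 2) :
    ∑ c : ZMod p, cubicSum c ^ 2 ≤ (p : ℤ) * (p - 1) := by
  set g : ZMod p → ℤ := fun x => qc x * qc (x + 1) with hg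
  have h1 : ∑ c : ZMod p, cubicSum c ^ 2 =
      ∑ x : ZMod p, ∑ y : ZMod p, g x * g y * ∑ c : ZMod p, qc (x + c) * qc (y + c) := by
    simp only [cubicSum, sq, sum_mul, mul_sum]
    rw [sum_comm]
    refine sum_congr rfl fun x _ => ?_
    rw [sum_comm]
    refine sum_congr rfl fun y _ => ?_
    exact sum_congr rfl fun c _ => by simp only [hg]; ring
  have h2 : ∑ c : ZMod p, cubicSum c ^ 2 = (p : ℤ) * ∑ x, g x ^ 2 - (∑ x, g x) ^ 2 := by
    rw [h1]
    simp only [sum_qc_shift hp, mul_sub, mul_one, sum_sub_distrib, mul_ite, mul_zero, sum_ite_eq,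
      mem_univ, if_true]
    congr 1
    · rw [mul_sum]
      exact sum_congr rfl fun x _ => by ring
    · rw [sq, sum_mul_sum]
  have h3 : ∑ x, g x ^ 2 ≤ (p : ℤ) - 1 := by
    calc ∑ x, g x ^ 2 ≤ ∑ x : ZMod p, (if x = 0 then (0 : ℤ) else 1) := by
            refine sum_le_sum fun x _ => ?_
            rcases eq_or_ne x 0 with h | h
            · simp [hg, qc, h]
            · rw [if_neg h, hg]
              simp only [mul_pow]
              calc qc x ^ 2 * qc (x + 1) ^ 2 ≤ 1 * 1 :=
                    mul_le_mul (qc_sq_le x) (qc_sq_le _) (sq_nonneg _) zero_le_one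
                _ = 1 := one_mul 1
      _ = ∑ x : ZMod p, ((1 : ℤ) - if x = 0 then 1 else 0) :=
            sum_congr rfl fun x _ => by split_ifs <;> simp
      _ = (p : ℤ) - 1 := by simp [sum_sub_distrib, ZMod.card]
  have h4 : (p : ℤ) * ∑ x, g x ^ 2 ≤ (p : ℤ) * (p - 1) :=
    mul_le_mul_of_nonneg_left h3 (Int.natCast_nonneg p)
  nlinarith [sq_nonneg (∑ x, g x)]

theorem cubicSum_scale {a b : ZMod p} (ha : a ≠ 0) :
    ∑ u : ZMod p, qc u * qc (u + a) * qc (u + b) = qc a * cubicSum (b * a⁻¹) := by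
  unfold cubicSum
  rw [mul_sum]
  symm
  refine Fintype.sum_equiv (Equiv.mulLeft₀ a ha) _ _ fun x => ?_
  have e1 : a * x + a = a * (x + 1) := by ring
  have e2 : a * x + b = a * (x + b * a⁻¹) := by field_simp
  simp only [Equiv.mulLeft₀_apply, e1, e2, qc_mul]
  calc qc a * (qc x * qc (x + 1) * qc (x + b * a⁻¹)) =
      (qc a * qc a) * (qc a * (qc x * qc (x + 1) * qc (x + b * a⁻¹))) := by
        rw [qc_mul_self ha, one_mul]
    _ = _ := by ring

theorem cubicSum_inv {c : ZMod p} (hc : c ≠ 0) : cubicSum c⁻¹ = qc c * cubicSum c := by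
  have h : cubicSum c = qc c * cubicSum c⁻¹ := by
    conv_rhs => rw [← one_mul c⁻¹, ← cubicSum_scale (b := 1) hc]
    unfold cubicSum
    exact Fintype.sum_congr _ _ fun x => by ring
  rw [h, ← mul_assoc, qc_mul_self hc, one_mul]

theorem cubicSum_one_sub (hp3 : p % 4 = 3) (c : ZMod p) : cubicSum (1 - c) = -cubicSum c := by
  unfold cubicSum
  rw [← sum_neg_distrib]
  refine Fintype.sum_equiv (Equiv.subLeft (-1 : ZMod p)) _ _ fun x => ?_
  rw [show (Equiv.subLeft (-1 : ZMod p)) x = -1 - x from rfl]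
  have e1 : qc (-1 - x) = -qc (x + 1) := by rw [← qc_neg hp3]; congr 1; ring
  have e2 : qc (-1 - x + 1) = -qc x := by rw [← qc_neg hp3]; congr 1; ring
  have e3 : qc (-1 - x + c) = -qc (x + (1 - c)) := by rw [← qc_neg hp3]; congr 1; ring
  rw [e1, e2, e3]
  ring

theorem quad_ne_zero (hp3 : p % 3 = 2) (c : ZMod p) : c ^ 2 - c + 1 ≠ 0 := by
  intro h
  have h3 : (-c) ^ 3 = 1 := by linear_combination (-(c + 1)) * h
  have hc0 : c ≠ 0 := fun e => by rw [e] at h; simp at h
  have hne : -c ≠ 1 := by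
    intro e
    have hc : c = -1 := by linear_combination -e
    rw [hc] at h
    have h30 : ((3 : ℕ) : ZMod p) = 0 := by push_cast; linear_combination h
    have := (ZMod.natCast_eq_zero_iff 3 p).1 h30
    have hp1 := (Fact.out : p.Prime).two_le
    rcases (Nat.dvd_prime Nat.prime_three).1 this with e' | e' <;> omega
  have ho : orderOf (-c) = 3 := by
    haveI := Fact.mk Nat.prime_three
    exact orderOf_eq_prime h3 hne
  have hd := ZMod.orderOf_dvd_card_sub_one (neg_ne_zero.2 hc0)
  rw [ho] at hd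
  omega

/-- A bound for a single cubic sum. -/
theorem six_mul_cubicSum_sq (hp3 : p % 4 = 3) (hp3' : p % 3 = 2) {c : ZMod p} (hc0 : c ≠ 0)
    (hc1 : c ≠ 1) : 6 * cubicSum c ^ 2 ≤ (p : ℤ) * (p - 1) := by
  have hp2 : p ≠ 2 := by omega
  set T : ZMod p → ℤ := fun x => cubicSum x ^ 2 with hT
  have hinv : ∀ x : ZMod p, x ≠ 0 → T x⁻¹ = T x := by
    intro x hx
    simp only [hT, cubicSum_inv hx, mul_pow, sq (qc x), qc_mul_self hx, one_mul]
  have hsub : ∀ x : ZMod p, T (1 - x) = T x := by
    intro x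
    simp only [hT, cubicSum_one_sub hp3, neg_sq]
  have hneg : T (-1) = 0 := by
    have h := cubicSum_inv (neg_ne_zero.2 (one_ne_zero (α := ZMod p)))
    have hn : qc (-1 : ZMod p) = -1 :=
      quadraticChar_neg_one_iff_not_isSquare.2 (neg_one_not_square hp3)
    rw [inv_neg, inv_one, hn] at h
    simp only [hT, show cubicSum (-1 : ZMod p) = 0 by linarith]
    norm_num
  have hp0 : 0 ≤ (p : ℤ) * (p - 1) := by
    have : (3 : ℤ) ≤ p := by
      have : 3 ≤ p := by omega
      exact_mod_cast this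
    nlinarith
  by_cases h1 : c = -1
  · subst h1; show 6 * T _ ≤ _; rw [hneg]; simpa using hp0
  by_cases h2 : c = 2
  · subst h2
    show 6 * T _ ≤ _
    rw [show (2 : ZMod p) = 1 - (-1) by ring, hsub, hneg]; simpa using hp0
  by_cases h3 : c⁻¹ = 2
  · show 6 * T _ ≤ _
    rw [← hinv c hc0, h3, show (2 : ZMod p) = 1 - (-1) by ring, hsub, hneg]; simpa using hp0
  have hq := quad_ne_zero hp3' c
  have hs : (1 : ZMod p) - c ≠ 0 := sub_ne_zero.2 (Ne.symm hc1)
  have hi1 : c⁻¹ ≠ 1 := fun e => hc1 (inv_eq_one.1 e)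
  have hs' : (1 : ZMod p) - c⁻¹ ≠ 0 := sub_ne_zero.2 (Ne.symm hi1)
  let c2 := c⁻¹
  let c3 := 1 - c
  let c4 := (1 - c)⁻¹
  let c5 := 1 - c⁻¹
  let c6 := (1 - c⁻¹)⁻¹
  have n12 : c ≠ c2 := fun e => by
    have : c * c = 1 := by nth_rewrite 2 [e]; exact mul_inv_cancel₀ hc0
    exact (mul_self_eq_one_iff.1 this).elim hc1 h1
  have n13 : c ≠ c3 := fun e => h3 (inv_eq_of_mul_eq_one_right (by
    simp only [c3] at e; linear_combination e))
  have n14 : c ≠ c4 := fun e => by
    simp only [c4] at e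
    field_simp at e
    exact hq (by first | linear_combination e | linear_combination -e)
  have n15 : c ≠ c5 := fun e => by
    simp only [c5] at e
    field_simp at e
    exact hq (by first | linear_combination e | linear_combination -e)
  have n16 : c ≠ c6 := fun e => h2 (by
    simp only [c6] at e
    have : c * (1 - c⁻¹) = 1 := by nth_rewrite 1 [e]; exact inv_mul_cancel₀ hs'
    field_simp at this
    linear_combination this)
  have n23 : c2 ≠ c3 := fun e => by
    simp only [c2, c3] at e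
    field_simp at e
    exact hq (by first | linear_combination e | linear_combination -e)
  have n24 : c2 ≠ c4 := fun e => n13 (inv_injective e)
  have n25 : c2 ≠ c5 := fun e => h2 (by
    simp only [c2, c5] at e
    field_simp at e
    first | linear_combination e | linear_combination -e)
  have n26 : c2 ≠ c6 := fun e => n15 (inv_injective e)
  have n35 : c3 ≠ c5 := fun e => n12 (sub_right_injective e)
  have n46 : c4 ≠ c6 := fun e => n35 (inv_injective e)
  have n34 : c3 ≠ c4 := fun e => by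
    simp only [c3, c4] at e
    have : (1 - c) * (1 - c) = 1 := by nth_rewrite 2 [e]; exact mul_inv_cancel₀ hs
    rcases mul_self_eq_one_iff.1 this with h | h
    · exact hc0 (by linear_combination -h)
    · exact h2 (by linear_combination -h)
  have n56 : c5 ≠ c6 := fun e => by
    simp only [c5, c6] at e
    have : (1 - c⁻¹) * (1 - c⁻¹) = 1 := by nth_rewrite 2 [e]; exact mul_inv_cancel₀ hs'
    rcases mul_self_eq_one_iff.1 this with h | h
    · exact inv_ne_zero hc0 (by linear_combination -h)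
    · exact h3 (by linear_combination -h)
  have n36 : c3 ≠ c6 := fun e => by
    simp only [c3, c6] at e
    have : (1 - c) * (1 - c⁻¹) = 1 := by rw [e]; exact inv_mul_cancel₀ hs'
    field_simp at this
    exact hq (by first | linear_combination this | linear_combination -this)
  have n45 : c4 ≠ c5 := fun e => by
    simp only [c4, c5] at e
    have : (1 - c) * (1 - c⁻¹) = 1 := by rw [← e]; exact mul_inv_cancel₀ hs
    field_simp at this
    exact hq (by first | linear_combination this | linear_combination -this)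
  have hsum : ∑ x ∈ ({c, c2, c3, c4, c5, c6} : Finset (ZMod p)), T x ≤ (p : ℤ) * (p - 1) :=
    le_trans (sum_le_univ_sum_of_nonneg fun x => sq_nonneg _) (sum_cubicSum_sq hp2)
  rw [sum_insert (by simp [n12, n13, n14, n15, n16]), sum_insert (by simp [n23, n24, n25, n26]),
    sum_insert (by simp [n34, n35, n36]), sum_insert (by simp [n45, n46]),
    sum_pair n56] at hsum
  simp only [c2, c3, c4, c5, c6] at hsum
  rw [hinv c hc0, hsub c, hinv _ hs, hsub c, hinv _ hs', hsub, hinv c hc0] at hsum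
  show 6 * T c ≤ _
  linarith

theorem sum_over_squares (hp : p ≠ 2) (c : ZMod p → ℤ) :
    ∑ i : ZMod p, c (i ^ 2) = ∑ u : ZMod p, (qc u + 1) * c u := by
  rw [← Finset.sum_fiberwise Finset.univ (fun i : ZMod p => i ^ 2) (fun i => c (i ^ 2))]
  refine Fintype.sum_congr _ _ fun u => ?_
  have hcard := quadraticChar_card_sqrts (ringChar_ne_two hp) u
  rw [Set.toFinset_setOf] at hcard
  rw [sum_congr rfl (g := fun _ => c u) (fun i hi => by rw [(mem_filter.1 hi).2]), sum_const,
    nsmul_eq_mul, hcard]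

theorem sum_qc_sq_sub (hp : p ≠ 2) {a : ZMod p} (ha : a ≠ 0) :
    ∑ i : ZMod p, qc (i ^ 2 - a) = -1 := by
  rw [sum_over_squares hp fun u => qc (u - a)]
  simp only [add_mul, one_mul, sum_add_distrib]
  rw [Fintype.sum_equiv (Equiv.subRight a) (fun u => qc (u - a)) qc (fun _ => rfl), sum_qc hp,
    ← sum_qc_pair hp (d := -a) (neg_ne_zero.2 ha), add_zero]
  simp only [sub_eq_add_neg]

theorem sum_qc_two (hp3 : p % 4 = 3) {a b : ZMod p} (ha : a ≠ 0) (has : IsSquare a) (hab : a ≠ b) :
    ∑ i : ZMod p, qc (i ^ 2 - a) * qc (i ^ 2 - b) = -1 - cubicSum (b * a⁻¹) := by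
  have hp2 : p ≠ 2 := by omega
  rw [sum_over_squares hp2 fun u => qc (u - a) * qc (u - b)]
  simp only [add_mul, one_mul, sum_add_distrib]
  have h1 : ∑ u : ZMod p, qc (u - a) * qc (u - b) = -1 := by
    have h := sum_qc_pair hp2 (d := a - b) (sub_ne_zero.2 hab)
    rw [← h]
    refine Fintype.sum_equiv (Equiv.subRight a) _ _ fun u => ?_
    show _ = qc (u - a) * qc (u - a + (a - b))
    rw [sub_add_sub_cancel]
  have h2 : ∑ u : ZMod p, qc u * (qc (u - a) * qc (u - b)) = -cubicSum (b * a⁻¹) := by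
    have h := cubicSum_scale (b := b) ha
    rw [qc_sq ha has, one_mul] at h
    rw [← h, ← sum_neg_distrib]
    refine Fintype.sum_equiv (Equiv.neg (ZMod p)) _ _ fun u => ?_
    show _ = -(qc (-u) * qc (-u + a) * qc (-u + b))
    rw [qc_neg hp3, show -u + a = -(u - a) by ring, show -u + b = -(u - b) by ring, qc_neg hp3,
      qc_neg hp3]
    ring
  rw [h1, h2]
  ring

/-- A parameter for which the commutator of the inversion and the translation by `i` has two fixed
points and only generic short cycles. -/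
structure Good (m i : ZMod p) : Prop where
  ne_zero : i ≠ 0
  plus_ne : i ^ 2 - (1 + m) ^ 2 ≠ 0
  plus_sq : IsSquare (i ^ 2 - (1 + m) ^ 2)
  minus_ne : i ^ 2 - (1 - m) ^ 2 ≠ 0
  minus_sq : IsSquare (i ^ 2 - (1 - m) ^ 2)
  ne_one : i ≠ 1 ∧ i ≠ -1
  ne_m : i ≠ m ∧ i ≠ -m
  sq_ne : i ^ 2 ≠ 2 ∧ i ^ 2 ≠ 2 * m ^ 2 ∧ i ^ 2 ≠ 1 + m ^ 2
  pair : ∀ x ∈ ({0, 1, m} : Finset (ZMod p)), ∀ y ∈ ({0, 1, m} : Finset (ZMod p)), x ≠ y →
    (x - i) * (y - i) ≠ 1 ∧ (x - i) * (y - i) ≠ m ^ 2 ∧
    (x + i) * (y + i) ≠ 1 ∧ (x + i) * (y + i) ≠ m ^ 2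

theorem card_roots_le (x y c : ZMod p) :
    (univ.filter fun i : ZMod p => (x - i) * (y - i) = c).card ≤ 2 := by
  by_cases h : ∃ i₀ : ZMod p, (x - i₀) * (y - i₀) = c
  · obtain ⟨i₀, h₀⟩ := h
    refine (card_le_card (t := {i₀, x + y - i₀}) fun i hi => ?_).trans card_le_two
    rw [mem_filter] at hi
    have e : (i - i₀) * (i - (x + y - i₀)) = 0 := by linear_combination hi.2 - h₀
    rcases mul_eq_zero.1 e with e | e
    · simp [sub_eq_zero.1 e]
    · simp [sub_eq_zero.1 e]
  · push Not at h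
    rw [card_eq_zero.2 (filter_eq_empty_iff.2 fun i _ => h i)]
    omega

theorem card_sqrt_le (c : ZMod p) : (univ.filter fun i : ZMod p => i ^ 2 = c).card ≤ 2 := by
  refine le_trans (le_of_eq (congrArg Finset.card (filter_congr fun i _ => ?_))) (card_roots_le 0 0 c)
  constructor <;> intro h <;> linear_combination h

theorem exists_good (hp3 : p % 4 = 3) (hp3' : p % 3 = 2) (hp : 263 ≤ p) {m : ZMod p} (hm : m ≠ 0) :
    ∃ i, Good m i := by
  have hp2 : p ≠ 2 := by omega
  set a := (1 + m) ^ 2 with ha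
  set b := (1 - m) ^ 2 with hb
  by_contra hcon
  push Not at hcon
  let R : ZMod p → ZMod p → ZMod p → Finset (ZMod p) :=
    fun x y c => univ.filter fun i => (x - i) * (y - i) = c
  let L : List (Finset (ZMod p)) :=
    [{1, -1}, {m, -m}, {1 + m, -(1 + m)}, {1 - m, -(1 - m)},
      univ.filter (fun i => i ^ 2 = 2), univ.filter (fun i => i ^ 2 = 2 * m ^ 2),
      univ.filter (fun i => i ^ 2 = 1 + m ^ 2),
      R 0 1 1, R 0 1 (m ^ 2), R 0 m 1, R 0 m (m ^ 2), R 1 m 1, R 1 m (m ^ 2),
      R 0 (-1) 1, R 0 (-1) (m ^ 2), R 0 (-m) 1, R 0 (-m) (m ^ 2), R (-1) (-m) 1,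
      R (-1) (-m) (m ^ 2)]
  let E : Finset (ZMod p) := L.foldr (· ∪ ·) ∅
  have hE : ∀ (L : List (Finset (ZMod p))), (∀ s ∈ L, s.card ≤ 2) →
      (L.foldr (· ∪ ·) ∅).card ≤ 2 * L.length := by
    intro L
    induction L with
    | nil => simp
    | cons s L ih =>
      intro h
      have h1 := h s (List.mem_cons_self ..)
      have h2 := ih fun t ht => h t (List.mem_cons_of_mem _ ht)
      rw [List.foldr_cons, List.length_cons]
      have := card_union_le s (L.foldr (· ∪ ·) ∅)
      omega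
  have hEc : E.card ≤ 38 := by
    refine hE L fun s hs => ?_
    simp only [L, List.mem_cons, List.not_mem_nil, or_false] at hs
    rcases hs with rfl | rfl | rfl | rfl | rfl | rfl | rfl | rfl | rfl | rfl | rfl | rfl | rfl | rfl |
      rfl | rfl | rfl | rfl | rfl <;>
      first
        | exact card_le_two
        | exact card_sqrt_le _
        | exact card_roots_le _ _ _
  have hmem : ∀ i, (∃ s ∈ L, i ∈ s) → i ∈ E := by
    have : ∀ (L : List (Finset (ZMod p))) i, (∃ s ∈ L, i ∈ s) → i ∈ L.foldr (· ∪ ·) ∅ := by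
      intro L
      induction L with
      | nil => simp
      | cons s L ih =>
        rintro i ⟨t, ht, hit⟩
        rw [List.foldr_cons, mem_union]
        rcases List.mem_cons.1 ht with rfl | ht
        exacts [Or.inl hit, Or.inr (ih i ⟨t, ht, hit⟩)]
    exact this L
  have hbound : ∀ i : ZMod p,
      (1 + qc (i ^ 2 - a)) * (1 + qc (i ^ 2 - b)) ≤ if i ∈ E then 4 else 0 := by
    intro i
    have hA := qc_le (i ^ 2 - a)
    have hB := qc_le (i ^ 2 - b)
    by_cases hiE : i ∈ E
    · rw [if_pos hiE]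
      nlinarith
    rw [if_neg hiE]
    have hn : ∀ s ∈ L, i ∉ s := fun s hs h => hiE (hmem i ⟨s, hs, h⟩)
    simp only [L, List.mem_cons, List.not_mem_nil, or_false, forall_eq_or_imp, forall_eq, R,
      mem_filter, mem_univ, true_and, mem_insert, mem_singleton, not_or] at hn
    obtain ⟨e1, e2, e3, e4, e5, e6, e7, r1, r2, r3, r4, r5, r6, r7, r8, r9, r10, r11, r12⟩ := hn
    have hb0 : i ^ 2 - b ≠ 0 := fun h => by
      rcases sq_eq_sq_iff_eq_or_eq_neg.1 (sub_eq_zero.1 h) with h | h
      exacts [e4.1 h, e4.2 h]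
    have ha0 : i ^ 2 - a ≠ 0 := fun h => by
      rcases sq_eq_sq_iff_eq_or_eq_neg.1 (sub_eq_zero.1 h) with h | h
      exacts [e3.1 h, e3.2 h]
    rcases quadraticChar_dichotomy ha0 with hA1 | hA1
    swap
    · rw [show qc (i ^ 2 - a) = -1 from hA1]; simp
    rcases quadraticChar_dichotomy hb0 with hB1 | hB1
    swap
    · rw [show qc (i ^ 2 - b) = -1 from hB1]; simp
    rcases eq_or_ne i 0 with h0 | h0
    · exfalso
      subst h0
      have hx : (1 - m) ^ 2 ≠ 0 := fun h => hb0 (by rw [hb, h]; ring)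
      have h1 := qc_sq hx (IsSquare.sq (1 - m))
      have h2 : qc (-(1 - m) ^ 2) = 1 := by
        rw [show -(1 - m) ^ 2 = (0 : ZMod p) ^ 2 - b by rw [hb]; ring]
        exact hB1
      rw [qc_neg hp3, h1] at h2
      norm_num at h2
    exfalso
    refine hcon i ⟨h0, ha0, (quadraticChar_one_iff_isSquare ha0).1 hA1, hb0,
      (quadraticChar_one_iff_isSquare hb0).1 hB1, e1, e2, ⟨e5, e6, e7⟩, ?_⟩
    intro x hx y hy hxy
    simp only [mem_insert, mem_singleton] at hx hy
    have key : ∀ {x y c : ZMod p}, (x - i) * (y - i) ≠ c → (y - i) * (x - i) ≠ c := fun h => by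
      rwa [mul_comm]
    have key' : ∀ {x y c : ZMod p}, (-x - i) * (-y - i) ≠ c → (x + i) * (y + i) ≠ c := fun h e =>
      h (by linear_combination e)
    rw [← neg_zero] at r7 r8 r9 r10
    rcases hx with rfl | rfl | rfl <;> rcases hy with rfl | rfl | rfl
    all_goals first | exact absurd rfl hxy | skip
    · exact ⟨r1, r2, key' r7, key' r8⟩
    · exact ⟨r3, r4, key' r9, key' r10⟩
    · exact ⟨key r1, key r2, key' (key r7), key' (key r8)⟩
    · exact ⟨r5, r6, key' r11, key' r12⟩
    · exact ⟨key r3, key r4, key' (key r9), key' (key r10)⟩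
    · exact ⟨key r5, key r6, key' (key r11), key' (key r12)⟩
  have hle := sum_le_sum (s := univ) fun i (_ : i ∈ univ) => hbound i
  simp only [add_mul, one_mul, mul_add, mul_one, sum_add_distrib, sum_ite_mem, univ_inter, sum_const,
    card_univ, ZMod.card, nsmul_eq_mul] at hle
  have hEz : (E.card : ℤ) ≤ 38 := by exact_mod_cast hEc
  have hp' : (263 : ℤ) ≤ p := by exact_mod_cast hp
  rcases eq_or_ne a 0 with ha0 | ha0
  · have hb0 : b ≠ 0 := by
      intro h
      have e1 := pow_eq_zero_iff (two_ne_zero) |>.1 (ha ▸ ha0)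
      have e2 := pow_eq_zero_iff (two_ne_zero) |>.1 (hb ▸ h)
      have : (2 : ZMod p) = 0 := by linear_combination e1 + e2
      have := (ZMod.natCast_eq_zero_iff 2 p).1 (by exact_mod_cast this)
      have := Nat.le_of_dvd (by norm_num) this
      omega
    have h1 : ∑ i : ZMod p, qc (i ^ 2 - a) = (p : ℤ) - 1 := by
      rw [ha0]
      have : ∀ i : ZMod p, qc (i ^ 2 - 0) = 1 - if i = 0 then 1 else 0 := by
        intro i
        rcases eq_or_ne i 0 with h | h
        · simp [qc, h]
        · rw [if_neg h, sub_zero, sub_zero, qc_sq (pow_ne_zero 2 h) (IsSquare.sq i)]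
      rw [Fintype.sum_congr _ _ this, sum_sub_distrib]
      simp [ZMod.card]
    have h2' : -3 ≤ ∑ i : ZMod p, qc (i ^ 2 - a) * qc (i ^ 2 - b) := by
      have : ∀ i : ZMod p, qc (i ^ 2 - b) - (if i = 0 then (2 : ℤ) else 0) ≤
          qc (i ^ 2 - a) * qc (i ^ 2 - b) := by
        intro i
        rw [ha0, sub_zero]
        have hB := qc_le (i ^ 2 - b)
        rcases eq_or_ne i 0 with h | h
        · subst h; simp only [if_true]; simp [qc] at hB ⊢; linarith
        · rw [if_neg h, qc_sq (pow_ne_zero 2 h) (IsSquare.sq i)]; simp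
      have h3 := sum_le_sum (s := univ) fun i (_ : i ∈ univ) => this i
      rw [sum_sub_distrib, sum_ite_eq' univ (0 : ZMod p), if_pos (mem_univ _), sum_qc_sq_sub hp2 hb0] at h3
      linarith
    rw [h1, sum_qc_sq_sub hp2 hb0] at hle
    linarith
  · have hab : a ≠ b := by
      intro h
      have h4 : (4 : ZMod p) * m = 0 := by rw [ha, hb] at h; linear_combination h
      have : (4 : ZMod p) ≠ 0 := fun e => by
        have := (ZMod.natCast_eq_zero_iff 4 p).1 (by exact_mod_cast e)
        have := Nat.le_of_dvd (by norm_num) this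
        omega
      exact hm ((mul_eq_zero.1 h4).resolve_left this)
    rcases eq_or_ne b 0 with hb0 | hb0
    · rw [sum_qc_sq_sub hp2 ha0, hb0] at hle
      have h1 : ∑ i : ZMod p, qc (i ^ 2 - 0) = (p : ℤ) - 1 := by
        have : ∀ i : ZMod p, qc (i ^ 2 - 0) = 1 - if i = 0 then 1 else 0 := by
          intro i
          rcases eq_or_ne i 0 with h | h
          · simp [qc, h]
          · rw [if_neg h, sub_zero, sub_zero, qc_sq (pow_ne_zero 2 h) (IsSquare.sq i)]
        rw [Fintype.sum_congr _ _ this, sum_sub_distrib]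
        simp [ZMod.card]
      have h2' : -3 ≤ ∑ i : ZMod p, qc (i ^ 2 - a) * qc (i ^ 2 - 0) := by
        have : ∀ i : ZMod p, qc (i ^ 2 - a) - (if i = 0 then (2 : ℤ) else 0) ≤
            qc (i ^ 2 - a) * qc (i ^ 2 - 0) := by
          intro i
          rw [sub_zero]
          have hA := qc_le (i ^ 2 - a)
          rcases eq_or_ne i 0 with h | h
          · subst h; simp only [if_true]; simp [qc] at hA ⊢; linarith
          · rw [if_neg h, qc_sq (pow_ne_zero 2 h) (IsSquare.sq i)]; simp
        have h3 := sum_le_sum (s := univ) fun i (_ : i ∈ univ) => this i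
        rw [sum_sub_distrib, sum_ite_eq' univ (0 : ZMod p), if_pos (mem_univ _), sum_qc_sq_sub hp2 ha0] at h3
        linarith
      rw [h1] at hle
      linarith
    · rw [sum_qc_sq_sub hp2 ha0, sum_qc_sq_sub hp2 hb0,
        sum_qc_two hp3 ha0 (IsSquare.sq (1 + m)) hab] at hle
      set c := b * a⁻¹ with hc
      have hc0 : c ≠ 0 := mul_ne_zero hb0 (inv_ne_zero ha0)
      have hc1 : c ≠ 1 := fun h => hab ((mul_inv_eq_one₀ ha0).1 h).symm
      have h6 := six_mul_cubicSum_sq hp3 hp3' hc0 hc1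
      have hT : (p : ℤ) - 155 ≤ cubicSum c := by linarith
      have : ((p : ℤ) - 155) * (p - 155) ≤ cubicSum c ^ 2 := by
        rw [sq]
        exact mul_le_mul hT hT (by linarith) (by linarith)
      nlinarith

end CfsgLib.Perm.ItoTwoQ
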