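import Cfsg.Agent.Lib.Perm.ItoTwoQ.Arith
import Mathlib.Data.Fintype.Card

/-!
# Short cycles of the commutator of an inversion and a translation

`tfun m` is `x ↦ x⁻¹` on squares and `x ↦ m² x⁻¹` on nonsquares, `sfun m i` its conjugate by the
translation by `i`.  For a good parameter their product has two fixed points and `0`, `4` or `8`
further points of period two.
-/

set_option autoImplicit false

namespace CfsgLib.Perm.ItoTwoQ

open Finset
open scoped _root_.Classical

variable {p : ℕ} [Fact p.Prime]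

/-- The class of an element: whether it is a square. -/
noncomputable def cls (x : ZMod p) : Bool := decide (IsSquare x)

/-- The constant of a class. -/
def kap (m : ZMod p) (α : Bool) : ZMod p := if α then 1 else m ^ 2

/-- The inversion. -/
noncomputable def tfun (m x : ZMod p) : ZMod p := kap m (cls x) * x⁻¹

/-- The translated inversion. -/
noncomputable def sfun (m i x : ZMod p) : ZMod p := tfun m (x - i) + i

/-- The points of period two of the product which are not fixed by it. -/
noncomputable def cyc (m i : ZMod p) : Finset (ZMod p) :=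
  univ.filter fun x => tfun m (sfun m i x) = sfun m i (tfun m x) ∧ sfun m i x ≠ tfun m x

/-- The fixed points of the product. -/
noncomputable def fixd (m i : ZMod p) : Finset (ZMod p) :=
  univ.filter fun x => sfun m i x = tfun m x

variable {m : ZMod p}

theorem kap_ne_zero (hm : m ≠ 0) (α : Bool) : kap m α ≠ 0 := by
  cases α <;> simp [kap, hm]

theorem qc_kap (hm : m ≠ 0) (α : Bool) : qc (kap m α) = 1 := by
  refine qc_sq (kap_ne_zero hm α) ?_
  cases α <;> simp [kap, IsSquare.sq]

theorem cls_true {x : ZMod p} (hx : x ≠ 0) : cls x = true ↔ qc x = 1 := by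
  rw [cls, decide_eq_true_iff, quadraticChar_one_iff_isSquare hx]

theorem cls_false {x : ZMod p} (hx : x ≠ 0) : cls x = false ↔ qc x = -1 := by
  rw [cls, decide_eq_false_iff_not, quadraticChar_neg_one_iff_not_isSquare]

theorem cls_eq_iff {x y : ZMod p} (hx : x ≠ 0) (hy : y ≠ 0) : cls x = cls y ↔ qc x = qc y := by
  cases h : cls y
  · rw [(cls_false hy).1 h, cls_false hx]
  · rw [(cls_true hy).1 h, cls_true hx]

theorem cls_neg (hp3 : p % 4 = 3) {x : ZMod p} (hx : x ≠ 0) : cls (-x) = !cls x := by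
  cases h : cls x
  · rw [Bool.not_false, cls_true (neg_ne_zero.2 hx), qc_neg hp3, (cls_false hx).1 h]; ring
  · rw [Bool.not_true, cls_false (neg_ne_zero.2 hx), qc_neg hp3, (cls_true hx).1 h]

theorem tfun_zero : tfun m (0 : ZMod p) = 0 := by simp [tfun]

theorem mul_tfun {x : ZMod p} (hx : x ≠ 0) : x * tfun m x = kap m (cls x) := by
  rw [tfun]; field_simp

theorem tfun_ne_zero (hm : m ≠ 0) {x : ZMod p} (hx : x ≠ 0) : tfun m x ≠ 0 :=
  mul_ne_zero (kap_ne_zero hm _) (inv_ne_zero hx)

theorem cls_tfun (hm : m ≠ 0) (x : ZMod p) : cls (tfun m x) = cls x := by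
  rcases eq_or_ne x 0 with h | h
  · rw [h, tfun_zero]
  · rw [cls_eq_iff (tfun_ne_zero hm h) h, tfun, qc_mul, qc_kap hm, qc_inv, one_mul]

theorem tfun_tfun (hm : m ≠ 0) (x : ZMod p) : tfun m (tfun m x) = x := by
  rcases eq_or_ne x 0 with h | h
  · simp [h, tfun_zero]
  · have := cls_tfun hm x
    unfold tfun at this ⊢
    rw [this]
    field_simp [kap_ne_zero hm (cls x)]

theorem tfun_eq_of_mul {x y : ZMod p} (hx : x ≠ 0) (h : x * y = kap m (cls x)) : tfun m x = y :=
  mul_left_cancel₀ hx (by rw [mul_tfun hx, h])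

theorem sfun_sfun (hm : m ≠ 0) (i x : ZMod p) : sfun m i (sfun m i x) = x := by
  simp only [sfun, add_sub_cancel_right, tfun_tfun hm]
  ring

theorem hfun_iff (hm : m ≠ 0) (i x : ZMod p) :
    sfun m i (tfun m x) = x ↔ sfun m i x = tfun m x := by
  constructor
  · intro h
    conv_lhs => rw [← h]
    exact sfun_sfun hm i _
  · intro h
    rw [← h, sfun_sfun hm]

theorem hfun_hfun_iff (hm : m ≠ 0) (i x : ZMod p) :
    sfun m i (tfun m (sfun m i (tfun m x))) = x ↔ tfun m (sfun m i x) = sfun m i (tfun m x) := by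
  constructor
  · intro h
    have h1 := congrArg (sfun m i) h
    rw [sfun_sfun hm] at h1
    conv_lhs => rw [← h1]
    exact tfun_tfun hm _
  · intro h
    rw [← h, tfun_tfun hm, sfun_sfun hm]

theorem fix_tfun (hp3 : p % 4 = 3) (hms : cls m = false) {x : ZMod p} (h : tfun m x = x) :
    x ∈ ({0, 1, m} : Finset (ZMod p)) := by
  rcases eq_or_ne x 0 with hx | hx
  · simp [hx]
  have hm : m ≠ 0 := fun e => by rw [e] at hms; simp [cls] at hms
  have h1 : x * x = kap m (cls x) := by conv_lhs => arg 2; rw [← h]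
                                        exact mul_tfun hx
  cases hc : cls x
  · rw [hc, kap, if_neg (by simp)] at h1
    rcases sq_eq_sq_iff_eq_or_eq_neg.1 ((sq x).trans h1) with e | e
    · simp [e]
    · rw [e, cls_neg hp3 hm, hms] at hc
      exact absurd hc (by simp)
  · rw [hc, kap, if_pos rfl] at h1
    rcases mul_self_eq_one_iff.1 h1 with e | e
    · simp [e]
    · rw [e, cls_neg hp3 one_ne_zero] at hc
      simp [cls] at hc

variable {i : ZMod p}

theorem Good.neg (h : Good m i) : Good m (-i) where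
  ne_zero := neg_ne_zero.2 h.ne_zero
  plus_ne := by rw [neg_sq]; exact h.plus_ne
  plus_sq := by rw [neg_sq]; exact h.plus_sq
  minus_ne := by rw [neg_sq]; exact h.minus_ne
  minus_sq := by rw [neg_sq]; exact h.minus_sq
  ne_one := ⟨fun e => h.ne_one.2 (neg_eq_iff_eq_neg.1 e), fun e => h.ne_one.1 (neg_injective e)⟩
  ne_m := ⟨fun e => h.ne_m.2 (neg_eq_iff_eq_neg.1 e), fun e => h.ne_m.1 (neg_injective e)⟩
  sq_ne := by rw [neg_sq]; exact h.sq_ne
  pair := fun x hx y hy hxy => by
    obtain ⟨a, b, c, d⟩ := h.pair x hx y hy hxy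
    simp only [sub_neg_eq_add, ← sub_eq_add_neg]
    exact ⟨c, d, a, b⟩

theorem mem_cyc {x : ZMod p} :
    x ∈ cyc m i ↔ tfun m (sfun m i x) = sfun m i (tfun m x) ∧ sfun m i x ≠ tfun m x := by
  simp [cyc]

theorem mem_fixd {x : ZMod p} : x ∈ fixd m i ↔ sfun m i x = tfun m x := by simp [fixd]

theorem sfun_neg (i x : ZMod p) : sfun m (-i) (x - i) = tfun m x - i := by
  simp [sfun, sub_eq_add_neg, add_assoc]

theorem tfun_sub (i x : ZMod p) : tfun m (x - i) = sfun m i x - i := by simp [sfun]

theorem cyc_shift {x : ZMod p} (h : x ∈ cyc m i) : x - i ∈ cyc m (-i) := by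
  rw [mem_cyc] at h ⊢
  rw [sfun_neg, tfun_sub i x]
  refine ⟨?_, fun e => h.2 (by first | linear_combination e | linear_combination -e)⟩
  rw [tfun_sub, sfun_neg, h.1]

theorem fixd_shift {x : ZMod p} (h : x ∈ fixd m i) : x - i ∈ fixd m (-i) := by
  rw [mem_fixd] at h ⊢
  rw [sfun_neg, tfun_sub, h]

theorem cyc_tfun (hm : m ≠ 0) {x : ZMod p} (h : x ∈ cyc m i) : tfun m x ∈ cyc m i := by
  rw [mem_cyc] at h ⊢
  refine ⟨?_, fun e => ?_⟩
  · rw [← h.1, tfun_tfun hm, tfun_tfun hm]
  · rw [tfun_tfun hm] at e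
    exact h.2 ((hfun_iff hm i x).1 e)

theorem cyc_sfun (hm : m ≠ 0) {x : ZMod p} (h : x ∈ cyc m i) : sfun m i x ∈ cyc m i := by
  rw [mem_cyc] at h ⊢
  refine ⟨?_, fun e => ?_⟩
  · rw [h.1, sfun_sfun hm, sfun_sfun hm]
  · rw [sfun_sfun hm] at e
    have := congrArg (tfun m) e
    rw [tfun_tfun hm] at this
    exact h.2 this.symm

section

variable (hp3 : p % 4 = 3) (hms : cls m = false) (hg : Good m i)
include hp3 hms hg

theorem m_ne_zero : m ≠ 0 := fun e => by rw [e] at hms; simp [cls] at hms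

theorem pair_false {x z : ZMod p} (hx : x ∈ ({0, 1, m} : Finset (ZMod p)))
    (hz : z ∈ ({0, 1, m} : Finset (ZMod p))) (hxz : x ≠ z) : sfun m i x ≠ z := by
  intro h
  have hxi : x - i ≠ 0 := by
    intro e
    rw [sfun, e, tfun_zero, zero_add] at h
    exact hxz ((sub_eq_zero.1 e).trans h)
  have e : (x - i) * (z - i) = kap m (cls (x - i)) := by
    rw [← h, sfun, add_sub_cancel_right, mul_tfun hxi]
  obtain ⟨h1, h2, -, -⟩ := hg.pair x hx z hz hxz
  cases hc : cls (x - i) <;> rw [hc] at e <;> simp [kap] at e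
  exacts [h2 e, h1 e]

theorem tfun_ne_self {x : ZMod p} (h : x ∈ cyc m i) : tfun m x ≠ x := by
  intro e
  rw [mem_cyc, e] at h
  exact pair_false hp3 hms hg (fix_tfun hp3 hms e) (fix_tfun hp3 hms h.1) (Ne.symm h.2) rfl

theorem sfun_ne_self {x : ZMod p} (h : x ∈ cyc m i) : sfun m i x ≠ x := by
  intro e
  refine tfun_ne_self hp3 hms hg.neg (cyc_shift h) ?_
  rw [tfun_sub, e]

theorem cyc_ne_zero {x : ZMod p} (h : x ∈ cyc m i) : x ≠ 0 ∧ x - i ≠ 0 := by
  refine ⟨fun e => tfun_ne_self hp3 hms hg h (by rw [e, tfun_zero]), fun e => ?_⟩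
  exact sfun_ne_self hp3 hms hg h (by rw [sfun, e, tfun_zero, zero_add, sub_eq_zero.1 e])

end

/-- The classes attached to a point: its own, that of its `sfun` image, and the translated ones. -/
noncomputable def typ (m i x : ZMod p) : Bool × Bool × Bool × Bool :=
  (cls x, cls (sfun m i x), cls (x - i), cls (tfun m x - i))

theorem typ_tfun (hm : m ≠ 0) {x : ZMod p} (h : x ∈ cyc m i) {A B C D : Bool}
    (ht : typ m i x = (A, B, C, D)) : typ m i (tfun m x) = (A, B, D, C) := by
  simp only [typ, Prod.mk.injEq] at ht ⊢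
  rw [cls_tfun hm, ← (mem_cyc.1 h).1, cls_tfun hm, tfun_tfun hm]
  exact ⟨ht.1, ht.2.1, ht.2.2.2, ht.2.2.1⟩

theorem typ_sfun (hm : m ≠ 0) {x : ZMod p} (h : x ∈ cyc m i) {A B C D : Bool}
    (ht : typ m i x = (A, B, C, D)) : typ m i (sfun m i x) = (B, A, C, D) := by
  simp only [typ, Prod.mk.injEq] at ht ⊢
  rw [sfun_sfun hm, (mem_cyc.1 h).1, ← tfun_sub i x, cls_tfun hm, ← tfun_sub i (tfun m x),
    cls_tfun hm]
  exact ⟨ht.2.1, ht.1, ht.2.2.1, ht.2.2.2⟩

theorem typ_shift (hm : m ≠ 0) {x : ZMod p} (h : x ∈ cyc m i) {A B C D : Bool}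
    (ht : typ m i x = (A, B, C, D)) : typ m (-i) (x - i) = (C, D, A, B) := by
  simp only [typ, Prod.mk.injEq] at ht ⊢
  rw [sfun_neg, sub_neg_eq_add, sub_add_cancel, tfun_sub i x, sub_neg_eq_add, sub_add_cancel]
  exact ⟨ht.2.2.1, ht.2.2.2, ht.1, ht.2.1⟩

/-- The leading coefficient of the equation of a type. -/
def qA (i b d : ZMod p) : ZMod p := -i * (b + d - i ^ 2)

/-- The middle coefficient of the equation of a type. -/
def qB (i a b c d : ZMod p) : ZMod p :=
  a * b + b * i ^ 2 - i ^ 2 * a - (c - i ^ 2) * (d - i ^ 2)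

/-- The constant coefficient of the equation of a type. -/
def qC (i a b c : ZMod p) : ZMod p := -i * a * (b + c - i ^ 2)

section

variable (hp3 : p % 4 = 3) (hms : cls m = false) (hg : Good m i)
include hp3 hms hg

theorem cyc_equation {x : ZMod p} (h : x ∈ cyc m i) {A B C D : Bool}
    (ht : typ m i x = (A, B, C, D)) :
    qA i (kap m B) (kap m D) * x ^ 2 + qB i (kap m A) (kap m B) (kap m C) (kap m D) * x +
      qC i (kap m A) (kap m B) (kap m C) = 0 := by
  have hm := m_ne_zero hp3 hms hg
  simp only [typ, Prod.mk.injEq] at ht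
  obtain ⟨hA, hB, hC, hD⟩ := ht
  obtain ⟨hx, hxi⟩ := cyc_ne_zero hp3 hms hg h
  obtain ⟨hy, hyi⟩ := cyc_ne_zero hp3 hms hg (cyc_tfun hm h)
  obtain ⟨hz, -⟩ := cyc_ne_zero hp3 hms hg (cyc_sfun hm h)
  have e1 : x * tfun m x = kap m A := by rw [mul_tfun hx, hA]
  have e2 : (x - i) * (sfun m i x - i) = kap m C := by rw [← tfun_sub, mul_tfun hxi, hC]
  have e3 : sfun m i x * tfun m (sfun m i x) = kap m B := by rw [mul_tfun hz, hB]
  have e4 : (tfun m x - i) * (sfun m i (tfun m x) - i) = kap m D := by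
    rw [← tfun_sub, mul_tfun hyi, hD]
  rw [(mem_cyc.1 h).1] at e3
  generalize tfun m x = y at *
  generalize sfun m i x = z at *
  generalize sfun m i y = w at *
  generalize kap m A = a at *
  generalize kap m B = b at *
  generalize kap m C = c at *
  generalize kap m D = d at *
  have f1 : z * (x - i) = i * x + c - i ^ 2 := by linear_combination e2
  have f2 : w * (a - i * x) = i * a + (d - i ^ 2) * x := by
    linear_combination x * e4 + (i - w) * e1
  simp only [qA, qB, qC]
  linear_combination (x - i) * (a - i * x) * (-1 : ZMod p) * e3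
    + (w * (a - i * x)) * f1 + (i * x + c - i ^ 2) * f2

theorem qA_ne_zero (B D : Bool) : qA i (kap m B) (kap m D) ≠ 0 := by
  obtain ⟨h1, h2, h3⟩ := hg.sq_ne
  refine mul_ne_zero (neg_ne_zero.2 hg.ne_zero) fun e => ?_
  cases B <;> cases D <;> simp [kap] at e
  · exact h2 (by linear_combination -e)
  · exact h3 (by linear_combination -e)
  · exact h3 (by linear_combination -e)
  · exact h1 (by linear_combination -e)

omit hp3 hms hg in
theorem two_roots {A B C x z : ZMod p} (hx : A * x ^ 2 + B * x + C = 0)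
    (hz : A * z ^ 2 + B * z + C = 0) (hxz : x ≠ z) : B = -A * (x + z) ∧ C = A * x * z := by
  have h : (A * (x + z) + B) * (x - z) = 0 := by linear_combination hx - hz
  have hB : A * (x + z) + B = 0 := (mul_eq_zero.1 h).resolve_right (sub_ne_zero.2 hxz)
  exact ⟨by linear_combination hB, by linear_combination hx - x * hB⟩

omit hp3 hms hg in
theorem root_mem {A B C x z v : ZMod p} (hA : A ≠ 0) (hx : A * x ^ 2 + B * x + C = 0)
    (hz : A * z ^ 2 + B * z + C = 0) (hv : A * v ^ 2 + B * v + C = 0) (hxz : x ≠ z) :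
    v = x ∨ v = z := by
  obtain ⟨hB, hC⟩ := two_roots hx hz hxz
  have h : A * ((v - x) * (v - z)) = 0 := by rw [hB, hC] at hv; linear_combination hv
  rcases mul_eq_zero.1 ((mul_eq_zero.1 h).resolve_left hA) with e | e
  exacts [Or.inl (sub_eq_zero.1 e), Or.inr (sub_eq_zero.1 e)]

theorem sfun_ne_tfun {x : ZMod p} (h : x ∈ cyc m i) : tfun m x ≠ sfun m i x :=
  Ne.symm (mem_cyc.1 h).2

/-- No point has equal constants on both sides. -/
theorem not_both {x : ZMod p} (h : x ∈ cyc m i) {A B C D : Bool}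
    (ht : typ m i x = (A, B, C, D)) : ¬ (kap m A = kap m B ∧ kap m C = kap m D) := by
  rintro ⟨hab, hcd⟩
  have hm := m_ne_zero hp3 hms hg
  have e1 := cyc_equation hp3 hms hg h ht
  have e2 := cyc_equation hp3 hms hg (cyc_tfun hm h) (typ_tfun hm h ht)
  have e3 := cyc_equation hp3 hms hg (cyc_sfun hm h) (typ_sfun hm h ht)
  have hA := qA_ne_zero hp3 hms hg B D
  simp only [hab, hcd] at e1 e2 e3
  rcases root_mem (by rw [hcd] at *; exact hA) e1 e2 e3 (Ne.symm (tfun_ne_self hp3 hms hg h)) with e | e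
  · exact sfun_ne_self hp3 hms hg h e
  · exact sfun_ne_tfun hp3 hms hg h e.symm

/-- A point with `A = B` and oriented second pair forces two characters to agree. -/
theorem side_cond {x : ZMod p} (h : x ∈ cyc m i) {α : Bool}
    (ht : typ m i x = (α, α, true, false)) :
    qc (kap m α + 1 - i ^ 2) = qc (kap m α + m ^ 2 - i ^ 2) := by
  have hm := m_ne_zero hp3 hms hg
  have e1 := cyc_equation hp3 hms hg h ht
  have e3 := cyc_equation hp3 hms hg (cyc_sfun hm h) (typ_sfun hm h ht)
  obtain ⟨-, hC⟩ := two_roots e1 e3 (Ne.symm (sfun_ne_self hp3 hms hg h))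
  simp only [qA, qC] at hC
  have h2 : kap m α * (kap m α + 1 - i ^ 2) = (kap m α + m ^ 2 - i ^ 2) * (x * sfun m i x) := by
    refine mul_left_cancel₀ (neg_ne_zero.2 hg.ne_zero) ?_
    simp only [kap, if_true, Bool.false_eq_true, if_false] at hC ⊢
    linear_combination hC
  have hx := (cyc_ne_zero hp3 hms hg h).1
  have hz := (cyc_ne_zero hp3 hms hg (cyc_sfun hm h)).1
  have hq : qc (x * sfun m i x) = 1 := by
    simp only [typ, Prod.mk.injEq] at ht
    rw [qc_mul, (cls_eq_iff hz hx).1 (ht.2.1.trans ht.1.symm), qc_mul_self hx]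
  have := congrArg qc h2
  rwa [qc_mul, qc_kap hm, one_mul, qc_mul, hq, mul_one] at this

/-- Two oriented points of one side type share their orbit. -/
theorem side_unique {x v : ZMod p} (h : x ∈ cyc m i) (hv : v ∈ cyc m i) {α : Bool}
    (ht : typ m i x = (α, α, true, false)) (htv : typ m i v = (α, α, true, false)) :
    v = x ∨ v = sfun m i x := by
  have hm := m_ne_zero hp3 hms hg
  exact root_mem (qA_ne_zero hp3 hms hg _ _) (cyc_equation hp3 hms hg h ht)
    (cyc_equation hp3 hms hg (cyc_sfun hm h) (typ_sfun hm h ht))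
    (cyc_equation hp3 hms hg hv htv) (Ne.symm (sfun_ne_self hp3 hms hg h))

/-- The side types for `i` and `-i` exclude each other. -/
theorem side_exclusive {x v : ZMod p} (h : x ∈ cyc m i) (hv : v ∈ cyc m (-i)) {α : Bool}
    (ht : typ m i x = (α, α, true, false)) (htv : typ m (-i) v = (α, α, true, false)) : False := by
  have hm := m_ne_zero hp3 hms hg
  have e : qA i (kap m α) (kap m false) * (-v) ^ 2 +
      qB i (kap m α) (kap m α) (kap m true) (kap m false) * (-v) +
      qC i (kap m α) (kap m α) (kap m true) = 0 := by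
    have e0 := cyc_equation hp3 hms hg.neg hv htv
    simp only [qA, qB, qC] at e0 ⊢
    linear_combination -e0
  have hz := cyc_sfun hm h
  have hv0 := (cyc_ne_zero hp3 hms hg.neg hv).1
  have hcv : cls (-v) = !α := by
    simp only [typ, Prod.mk.injEq] at htv
    rw [cls_neg hp3 hv0, htv.1]
  simp only [typ, Prod.mk.injEq] at ht
  rcases root_mem (qA_ne_zero hp3 hms hg _ _)
      (cyc_equation hp3 hms hg h (by simp only [typ, Prod.mk.injEq]; exact ht))
      (cyc_equation hp3 hms hg hz (typ_sfun hm h (by simp only [typ, Prod.mk.injEq]; exact ht)))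
      e (Ne.symm (sfun_ne_self hp3 hms hg h)) with e' | e'
  · rw [e', ht.1] at hcv; simp at hcv
  · rw [e', ht.2.1] at hcv; simp at hcv

/-- A mixed point forces two characters to differ. -/
theorem mixed_cond {x : ZMod p} (h : x ∈ cyc m i) {A : Bool}
    (ht : typ m i x = (A, !A, A, !A)) :
    qc (kap m (!A) + kap m (!A) - i ^ 2) = -qc (1 + m ^ 2 - i ^ 2) ∧
      ∀ v ∈ cyc m i, typ m i v = (A, !A, A, !A) → v = x := by
  have hm := m_ne_zero hp3 hms hg
  have hN : ∀ v ∈ cyc m i, typ m i v = (A, !A, A, !A) →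
      (kap m (!A) + kap m (!A) - i ^ 2) * (v * (v - i)) = -kap m A * (1 + m ^ 2 - i ^ 2) := by
    intro v hv htv
    have e := cyc_equation hp3 hms hg hv htv
    simp only [qA, qB, qC] at e
    refine mul_left_cancel₀ (neg_ne_zero.2 hg.ne_zero) ?_
    cases A <;> simp only [kap, Bool.not_true, Bool.not_false, if_true, Bool.false_eq_true, if_false]
      at e ⊢ <;> linear_combination e
  obtain ⟨hx, hxi⟩ := cyc_ne_zero hp3 hms hg h
  refine ⟨?_, fun v hv htv => ?_⟩
  · have := congrArg qc (hN x h ht)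
    simp only [typ, Prod.mk.injEq] at ht
    rw [qc_mul, qc_mul x, (cls_eq_iff hxi hx).1 (ht.2.2.1.trans ht.1.symm), qc_mul_self hx, mul_one,
      qc_mul, qc_neg hp3, qc_kap hm] at this
    linear_combination this
  · have hne : kap m (!A) + kap m (!A) - i ^ 2 ≠ 0 := by
      obtain ⟨h1, h2, -⟩ := hg.sq_ne
      cases A <;> simp only [kap, Bool.not_true, Bool.not_false, if_true, Bool.false_eq_true,
        if_false] <;> intro e
      · exact h1 (by linear_combination -e)
      · exact h2 (by linear_combination -e)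
    have e : (v - x) * (v + x - i) = 0 := by
      have := mul_left_cancel₀ hne ((hN v hv htv).trans (hN x h ht).symm)
      linear_combination this
    refine (mul_eq_zero.1 e).elim sub_eq_zero.1 fun e' => absurd ?_ (show A ≠ !A by cases A <;> simp)
    simp only [typ, Prod.mk.injEq] at ht htv
    rw [show v = -(x - i) by linear_combination e', cls_neg hp3 hxi, ht.2.2.1] at htv
    exact htv.1.symm

end

/-- The orbit of a point. -/
noncomputable def orb (m i x : ZMod p) : Finset (ZMod p) :=
  {x, tfun m x, sfun m i x, tfun m (sfun m i x)}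

theorem self_mem_orb (x : ZMod p) : x ∈ orb m i x := by simp [orb]

theorem orb_eq (hm : m ≠ 0) {x v : ZMod p} (h : x ∈ cyc m i) (hv : v ∈ orb m i x) :
    orb m i v = orb m i x := by
  have h1 := (mem_cyc.1 h).1
  have h2 : sfun m i (tfun m (sfun m i x)) = tfun m x := by rw [h1, sfun_sfun hm]
  simp only [orb, mem_insert, mem_singleton] at hv
  rcases hv with rfl | rfl | rfl | rfl
  · rfl
  all_goals
    ext u
    simp only [orb, mem_insert, mem_singleton, tfun_tfun hm, sfun_sfun hm, ← h1, h2]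
    tauto

theorem orb_subset (hm : m ≠ 0) {x : ZMod p} (h : x ∈ cyc m i) : orb m i x ⊆ cyc m i := by
  intro v hv
  simp only [orb, mem_insert, mem_singleton] at hv
  rcases hv with rfl | rfl | rfl | rfl
  exacts [h, cyc_tfun hm h, cyc_sfun hm h, cyc_tfun hm (cyc_sfun hm h)]

theorem orb_typ (hm : m ≠ 0) {x : ZMod p} (h : x ∈ cyc m i) {A B C D : Bool}
    (ht : typ m i x = (A, B, C, D)) :
    ∀ T ∈ [(A, B, C, D), (A, B, D, C), (B, A, C, D), (B, A, D, C)],
      ∃ v ∈ orb m i x, typ m i v = T := by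
  intro T hT
  simp only [List.mem_cons, List.not_mem_nil, or_false] at hT
  rcases hT with rfl | rfl | rfl | rfl
  · exact ⟨x, self_mem_orb x, ht⟩
  · exact ⟨_, by simp [orb], typ_tfun hm h ht⟩
  · exact ⟨_, by simp [orb], typ_sfun hm h ht⟩
  · exact ⟨_, by simp [orb], typ_tfun hm (cyc_sfun hm h) (typ_sfun hm h ht)⟩

section

variable (hp3 : p % 4 = 3) (hms : cls m = false) (hg : Good m i)
include hp3 hms hg

theorem card_orb {x : ZMod p} (h : x ∈ cyc m i) : (orb m i x).card = 4 := by
  have hm := m_ne_zero hp3 hms hg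
  have hz := cyc_sfun hm h
  have hy := cyc_tfun hm h
  have a := Ne.symm (tfun_ne_self hp3 hms hg h)
  have b := Ne.symm (sfun_ne_self hp3 hms hg h)
  have c := sfun_ne_tfun hp3 hms hg h
  have d := Ne.symm (tfun_ne_self hp3 hms hg hz)
  have e : x ≠ tfun m (sfun m i x) := fun e => c (by
    have := congrArg (tfun m) e
    rwa [tfun_tfun hm] at this)
  have f : tfun m x ≠ tfun m (sfun m i x) := fun e => b (by
    have := congrArg (tfun m) e
    rwa [tfun_tfun hm, tfun_tfun hm] at this)
  rw [orb, card_insert_of_notMem (by simp [a, b, e]), card_insert_of_notMem (by simp [c, f]),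
    card_pair d]

theorem four_dvd_card_cyc : 4 ∣ (cyc m i).card := by
  have hm := m_ne_zero hp3 hms hg
  rw [card_eq_sum_card_image (orb m i) (cyc m i)]
  refine dvd_sum fun O hO => ?_
  obtain ⟨x, hx, rfl⟩ := mem_image.1 hO
  have : (cyc m i).filter (fun v => orb m i v = orb m i x) = orb m i x := by
    ext v
    rw [mem_filter]
    exact ⟨fun h => h.2 ▸ self_mem_orb v, fun h => ⟨orb_subset hm hx h, orb_eq hm hx h⟩⟩
  rw [this, card_orb hp3 hms hg hx]

/-- A point in a side type of either direction. -/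
def IsSide (m i : ZMod p) (α : Bool) (x : ZMod p) : Prop :=
  (∃ v ∈ orb m i x, typ m i v = (α, α, true, false)) ∨
    (∃ v ∈ orb m i x, typ m i v = (true, false, α, α))

theorem side_data {x : ZMod p} (h : x ∈ cyc m i) {α : Bool} (hs : IsSide m i α x) :
    qc (kap m α + 1 - i ^ 2) = qc (kap m α + m ^ 2 - i ^ 2) := by
  have hm := m_ne_zero hp3 hms hg
  rcases hs with ⟨v, hv, ht⟩ | ⟨v, hv, ht⟩
  · exact side_cond hp3 hms hg (orb_subset hm h hv) ht
  · have := side_cond hp3 hms hg.neg (cyc_shift (orb_subset hm h hv))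
      (typ_shift hm (orb_subset hm h hv) ht)
    rwa [neg_sq] at this

theorem side_orb {x y : ZMod p} (hx : x ∈ cyc m i) (hy : y ∈ cyc m i) {α : Bool}
    (hsx : IsSide m i α x) (hsy : IsSide m i α y) : y ∈ orb m i x := by
  have hm := m_ne_zero hp3 hms hg
  suffices H : ∀ v ∈ cyc m i, ∀ w ∈ cyc m i, v ∈ orb m i x → w ∈ orb m i y →
      (w = v ∨ w = sfun m i v ∨ w = tfun m v) → y ∈ orb m i x by
    rcases hsx with ⟨v, hv, ht⟩ | ⟨v, hv, ht⟩ <;> rcases hsy with ⟨w, hw, ht'⟩ | ⟨w, hw, ht'⟩
    · rcases side_unique hp3 hms hg (orb_subset hm hx hv) (orb_subset hm hy hw) ht ht' with e | e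
      exacts [H v (orb_subset hm hx hv) w (orb_subset hm hy hw) hv hw (Or.inl e),
        H v (orb_subset hm hx hv) w (orb_subset hm hy hw) hv hw (Or.inr (Or.inl e))]
    · exact (side_exclusive hp3 hms hg (orb_subset hm hx hv) (cyc_shift (orb_subset hm hy hw)) ht
        (typ_shift hm (orb_subset hm hy hw) ht')).elim
    · exact (side_exclusive hp3 hms hg (orb_subset hm hy hw) (cyc_shift (orb_subset hm hx hv)) ht'
        (typ_shift hm (orb_subset hm hx hv) ht)).elim
    · rcases side_unique hp3 hms hg.neg (cyc_shift (orb_subset hm hx hv))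
        (cyc_shift (orb_subset hm hy hw)) (typ_shift hm (orb_subset hm hx hv) ht)
        (typ_shift hm (orb_subset hm hy hw) ht') with e | e
      · exact H v (orb_subset hm hx hv) w (orb_subset hm hy hw) hv hw
          (Or.inl (sub_left_injective e))
      · rw [sfun_neg] at e
        exact H v (orb_subset hm hx hv) w (orb_subset hm hy hw) hv hw
          (Or.inr (Or.inr (sub_left_injective e)))
  intro v hv w hw hvx hwy e
  have hwv : w ∈ orb m i v := by
    rcases e with e | e | e <;> simp [orb, e]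
  rw [← orb_eq hm hx hvx, ← orb_eq hm hv hwv, orb_eq hm hy hwy]
  exact self_mem_orb y

theorem card_cyc_le : (cyc m i).card ≤ 8 := by
  have hm := m_ne_zero hp3 hms hg
  set S : Bool → Finset (ZMod p) := fun α => (cyc m i).filter fun x => IsSide m i α x with hS
  set M : Finset (ZMod p) :=
    (cyc m i).filter fun x => ∃ v ∈ orb m i x, typ m i v = (false, true, false, true) with hM
  have hcov : cyc m i ⊆ M ∪ (S true ∪ S false) := by
    intro x hx
    obtain ⟨A, B, C, D, ht⟩ : ∃ A B C D, typ m i x = (A, B, C, D) := ⟨_, _, _, _, rfl⟩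
    have hnb := not_both hp3 hms hg hx ht
    have ho := orb_typ hm hx ht
    simp only [List.mem_cons, List.not_mem_nil, or_false, forall_eq_or_imp, forall_eq] at ho
    rw [mem_union, mem_union]
    obtain ⟨o1, o2, o3, o4⟩ := ho
    revert hnb o1 o2 o3 o4
    cases A <;> cases B <;> cases C <;> cases D <;> intro hnb o1 o2 o3 o4 <;>
      first
        | exact absurd ⟨rfl, rfl⟩ hnb
        | exact Or.inl (mem_filter.2 ⟨hx, o1⟩)
        | exact Or.inl (mem_filter.2 ⟨hx, o2⟩)
        | exact Or.inl (mem_filter.2 ⟨hx, o3⟩)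
        | exact Or.inl (mem_filter.2 ⟨hx, o4⟩)
        | exact Or.inr (Or.inl (mem_filter.2 ⟨hx, Or.inl o1⟩))
        | exact Or.inr (Or.inl (mem_filter.2 ⟨hx, Or.inl o2⟩))
        | exact Or.inr (Or.inl (mem_filter.2 ⟨hx, Or.inr o1⟩))
        | exact Or.inr (Or.inl (mem_filter.2 ⟨hx, Or.inr o3⟩))
        | exact Or.inr (Or.inr (mem_filter.2 ⟨hx, Or.inl o1⟩))
        | exact Or.inr (Or.inr (mem_filter.2 ⟨hx, Or.inl o2⟩))
        | exact Or.inr (Or.inr (mem_filter.2 ⟨hx, Or.inr o1⟩))
        | exact Or.inr (Or.inr (mem_filter.2 ⟨hx, Or.inr o3⟩))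
  have hSc : ∀ α, (S α).card ≤ 4 := by
    intro α
    rcases (S α).eq_empty_or_nonempty with e | ⟨x, hx⟩
    · simp [e]
    rw [hS, mem_filter] at hx
    refine le_trans (card_le_card fun y hy => ?_) (card_orb hp3 hms hg hx.1).le
    rw [hS, mem_filter] at hy
    exact side_orb hp3 hms hg hx.1 hy.1 hx.2 hy.2
  rcases M.eq_empty_or_nonempty with e | ⟨x, hx⟩
  · rw [e, empty_union] at hcov
    calc (cyc m i).card ≤ (S true ∪ S false).card := card_le_card hcov
      _ ≤ (S true).card + (S false).card := card_union_le _ _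
      _ ≤ 8 := by have := hSc true; have := hSc false; omega
  rw [hM, mem_filter] at hx
  obtain ⟨hxc, v, hv, hvt⟩ := hx
  have hvc := orb_subset hm hxc hv
  obtain ⟨hP, huniq⟩ := mixed_cond hp3 hms hg hvc (A := false) hvt
  obtain ⟨hN, -⟩ := mixed_cond hp3 hms hg (cyc_tfun hm (cyc_sfun hm hvc)) (A := true)
    (typ_tfun hm (cyc_sfun hm hvc) (typ_sfun hm hvc hvt))
  have hne : (1 : ZMod p) + m ^ 2 - i ^ 2 ≠ 0 := fun e => hg.sq_ne.2.2 (by linear_combination -e)
  have hR := quadraticChar_dichotomy hne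
  have hSe : ∀ α, S α = ∅ := by
    intro α
    rw [hS, filter_eq_empty_iff]
    intro y hy hside
    have h := side_data hp3 hms hg hy hside
    cases α
    · simp only [kap, Bool.false_eq_true, if_false, Bool.not_true] at h hN
      rw [add_comm (m ^ 2) 1, hN] at h
      rcases hR with r | r <;> simp only [qc] at h <;> rw [r] at h <;> omega
    · simp only [kap, if_true, Bool.not_false] at h hP
      rw [hP] at h
      rcases hR with r | r <;> simp only [qc] at h <;> rw [r] at h <;> omega
  rw [hSe, hSe, union_empty, union_empty] at hcov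
  refine le_trans (card_le_card (hcov.trans fun y hy => ?_))
    (le_of_eq_of_le (card_orb hp3 hms hg hvc) (by norm_num))
  rw [hM, mem_filter] at hy
  obtain ⟨hyc, w, hw, hwt⟩ := hy
  rw [← huniq w (orb_subset hm hyc hw) hwt, orb_eq hm hyc hw]
  exact self_mem_orb y

theorem fixd_ne {x : ZMod p} (h : x ∈ fixd m i) :
    x ≠ 0 ∧ x - i ≠ 0 ∧ cls (x - i) ≠ cls x := by
  have hm := m_ne_zero hp3 hms hg
  rw [mem_fixd] at h
  have hne : tfun m x ≠ x := by
    intro e
    have hs : tfun m (x - i) = x - i := by rw [tfun_sub, h, e]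
    have h1 := fix_tfun hp3 hms e
    have h2 := fix_tfun hp3 hms hs
    have a := hg.ne_zero
    obtain ⟨b, b'⟩ := hg.ne_one
    obtain ⟨c, c'⟩ := hg.ne_m
    simp only [mem_insert, mem_singleton] at h1 h2
    rcases h1 with r | r | r <;> rcases h2 with r' | r' | r'
    · exact a (by linear_combination r - r')
    · exact b' (by linear_combination r - r')
    · exact c' (by linear_combination r - r')
    · exact b (by linear_combination r - r')
    · exact a (by linear_combination r - r')
    · exact hg.minus_ne (by rw [show i = 1 - m by linear_combination r - r']; ring)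
    · exact c (by linear_combination r - r')
    · exact hg.minus_ne (by rw [show i = m - 1 by linear_combination r - r']; ring)
    · exact a (by linear_combination r - r')
  have hx : x ≠ 0 := fun e => hne (by rw [e, tfun_zero])
  have hxi : x - i ≠ 0 := fun e => hne (by
    rw [← h, sfun, e, tfun_zero, zero_add, sub_eq_zero.1 e])
  refine ⟨hx, hxi, fun e => ?_⟩
  have e1 := mul_tfun (m := m) hx
  have e2 := mul_tfun (m := m) hxi
  rw [tfun_sub, h, e] at e2
  have e3 : i * (i - x - tfun m x) = 0 := by linear_combination e2 - e1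
  have e4 := (mul_eq_zero.1 e3).resolve_left hg.ne_zero
  have h5 : cls (tfun m (x - i)) = cls (x - i) := cls_tfun hm _
  rw [tfun_sub, h, show tfun m x - i = -x by linear_combination -e4, cls_neg hp3 hx, e] at h5
  simp at h5

/-- A fixed point lies in one of two cases, told apart by a character. -/
theorem fixd_case {x : ZMod p} (h : x ∈ fixd m i) (hx : cls x = true) :
    qc ((i + 1) ^ 2 - m ^ 2) = qc i ∧ x ^ 2 * i - (1 - m ^ 2 + i ^ 2) * x + i = 0 ∧
      cls (x - i) = false := by
  have hm := m_ne_zero hp3 hms hg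
  obtain ⟨hx0, hxi, hxc⟩ := fixd_ne hp3 hms hg h
  rw [hx] at hxc
  have hc : cls (x - i) = false := by cases hh : cls (x - i) <;> simp_all
  rw [mem_fixd] at h
  have e1 : x * tfun m x = 1 := by rw [mul_tfun hx0, hx]; simp [kap]
  have e2 : (x - i) * (tfun m x - i) = m ^ 2 := by
    rw [← h, ← tfun_sub, mul_tfun hxi, hc]; simp [kap]
  have e3 : x ^ 2 * i - (1 - m ^ 2 + i ^ 2) * x + i = 0 := by
    linear_combination (x - i) * e1 - x * e2
  refine ⟨?_, e3, hc⟩
  have hx1 : x + 1 ≠ 0 := fun e => by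
    rw [show x = -1 by linear_combination e, cls_neg hp3 one_ne_zero] at hx
    simp [cls] at hx
  have := congrArg qc (show (x + 1) ^ 2 * i = ((i + 1) ^ 2 - m ^ 2) * x by linear_combination e3)
  rw [qc_mul, qc_mul, qc_sq (pow_ne_zero 2 hx1) (IsSquare.sq _), (cls_true hx0).1 hx, one_mul,
    mul_one] at this
  exact this.symm

theorem qc_prod : qc ((i + 1) ^ 2 - m ^ 2) * qc ((-i + 1) ^ 2 - m ^ 2) = 1 := by
  rw [← qc_mul, show ((i + 1) ^ 2 - m ^ 2) * ((-i + 1) ^ 2 - m ^ 2) =
    (i ^ 2 - (1 + m) ^ 2) * (i ^ 2 - (1 - m) ^ 2) by ring, qc_mul, qc_sq hg.plus_ne hg.plus_sq,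
    qc_sq hg.minus_ne hg.minus_sq, mul_one]

theorem card_fixd_of_eq (he : qc ((i + 1) ^ 2 - m ^ 2) = qc i) : (fixd m i).card = 2 := by
  have hm := m_ne_zero hp3 hms hg
  have hi := hg.ne_zero
  have h2 : (2 : ZMod p) ≠ 0 := fun e => by
    have := (ZMod.natCast_eq_zero_iff 2 p).1 (by exact_mod_cast e)
    have := Nat.le_of_dvd (by norm_num) this
    have := (Fact.out : p.Prime).two_le
    omega
  have hcase : ∀ z ∈ fixd m i, cls z = true := by
    intro z hz
    by_contra hne
    obtain ⟨-, -, hzc⟩ := fixd_ne hp3 hms hg hz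
    have hz' : cls (z - i) = true := by
      cases h1 : cls (z - i) <;> cases h2 : cls z <;> simp_all
    have h := (fixd_case hp3 hms hg.neg (fixd_shift hz) hz').1
    have hprod := qc_prod hp3 hms hg
    rw [h, he, qc_neg hp3] at hprod
    nlinarith [qc_mul_self hi]
  obtain ⟨r, hr⟩ := hg.plus_sq
  obtain ⟨r', hr'⟩ := hg.minus_sq
  have hr0 : r * r' ≠ 0 := fun e => by
    rcases mul_eq_zero.1 e with e | e
    · exact hg.plus_ne (by rw [hr, e, mul_zero])
    · exact hg.minus_ne (by rw [hr', e, mul_zero])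
  set x := (1 - m ^ 2 + i ^ 2 + r * r') / (2 * i) with hx
  set y := (1 - m ^ 2 + i ^ 2 - r * r') / (2 * i) with hy
  have hxy : x * y = 1 := by
    rw [hx, hy]; field_simp
    linear_combination -(r' * r') * (0 : ZMod p) + (i ^ 2 - (1 - m) ^ 2) * hr + (r * r) * hr'
  have hsum : i * (x + y) = 1 - m ^ 2 + i ^ 2 := by rw [hx, hy]; field_simp; ring
  have hne : x ≠ y := by
    intro e
    apply hr0
    rw [hx, hy] at e
    field_simp at e
    have : (2 : ZMod p) * (r * r') = 0 := by linear_combination e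
    exact (mul_eq_zero.1 this).resolve_left h2
  have hroot : ∀ z w : ZMod p, z * w = 1 → i * (z + w) = 1 - m ^ 2 + i ^ 2 → z ∈ fixd m i := by
    intro z w hzw hs
    have hz0 : z ≠ 0 := fun e => by simp [e] at hzw
    have eL : (z + 1) ^ 2 * i = ((i + 1) ^ 2 - m ^ 2) * z := by
      linear_combination z * hs - i * hzw
    have hL : (i + 1) ^ 2 - m ^ 2 ≠ 0 := fun e => by
      have h0 := qc_prod hp3 hms hg
      simp [qc, e] at h0
    have hz1 : z + 1 ≠ 0 := fun e => by
      rw [e] at eL
      simp [hL, hz0] at eL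
    have hcz : cls z = true := by
      rw [cls_true hz0]
      have := congrArg qc eL
      rw [qc_mul, qc_mul, qc_sq (pow_ne_zero 2 hz1) (IsSquare.sq _), one_mul, he] at this
      have h1 := qc_mul_self hi
      linear_combination (-(qc i)) * this - (qc z - 1) * h1
    have euv : (z - i) * (w - i) = m ^ 2 := by linear_combination hzw - hs
    have hu0 : z - i ≠ 0 := fun e => by
      rw [e, zero_mul] at euv
      exact pow_ne_zero 2 hm euv.symm
    have eM : (z - i + m) ^ 2 * i = (1 - (i - m) ^ 2) * (z - i) := by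
      linear_combination (z - i) * hs - i * euv + (0 : ZMod p)
    have eP : ((i + 1) ^ 2 - m ^ 2) * (1 - (i - m) ^ 2) =
        -((i ^ 2 - (1 + m) ^ 2) * (i + 1 - m) ^ 2) := by ring
    have hb : i + 1 - m ≠ 0 := fun e => hg.minus_ne (by
      rw [show i ^ 2 - (1 - m) ^ 2 = (i + 1 - m) * (i - 1 + m) by ring, e, zero_mul])
    have hq : qc (1 - (i - m) ^ 2) = -qc i := by
      have := congrArg qc eP
      rw [qc_mul, qc_neg hp3, qc_mul, qc_sq hg.plus_ne hg.plus_sq,
        qc_sq (pow_ne_zero 2 hb) (IsSquare.sq _), he] at this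
      linear_combination qc i * this - qc (1 - (i - m) ^ 2) * qc_mul_self hi
    have hum : z - i + m ≠ 0 := by
      intro e
      rw [e] at eM
      have : (1 - (i - m) ^ 2) = 0 := by simpa [hu0] using eM.symm
      rw [this] at hq
      rcases quadraticChar_dichotomy hi with h | h <;> simp [qc, h] at hq
    have hcu : cls (z - i) = false := by
      rw [cls_false hu0]
      have := congrArg qc eM
      rw [qc_mul, qc_mul, qc_sq (pow_ne_zero 2 hum) (IsSquare.sq _), one_mul, hq] at this
      linear_combination qc i * this - (qc (z - i) + 1) * qc_mul_self hi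
    rw [mem_fixd, tfun_eq_of_mul hz0 (by rw [hzw, hcz]; simp [kap]), sfun,
      tfun_eq_of_mul hu0 (by rw [euv, hcu]; simp [kap]), sub_add_cancel]
  have hset : fixd m i = {x, y} := by
    ext z
    rw [mem_insert, mem_singleton]
    constructor
    · intro hz
      obtain ⟨-, e, -⟩ := fixd_case hp3 hms hg hz (hcase z hz)
      have : i * ((z - x) * (z - y)) = 0 := by linear_combination e - z * hsum + i * hxy
      rcases mul_eq_zero.1 ((mul_eq_zero.1 this).resolve_left hi) with e | e
      exacts [Or.inl (sub_eq_zero.1 e), Or.inr (sub_eq_zero.1 e)]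
    · rintro (rfl | rfl)
      · exact hroot _ _ hxy hsum
      · exact hroot _ x (by rw [mul_comm, hxy]) (by rw [add_comm, hsum])
  rw [hset, card_pair hne]

theorem card_fixd : (fixd m i).card = 2 := by
  by_cases he : qc ((i + 1) ^ 2 - m ^ 2) = qc i
  · exact card_fixd_of_eq hp3 hms hg he
  have he' : qc ((-i + 1) ^ 2 - m ^ 2) = qc (-i) := by
    have h := qc_prod hp3 hms hg
    rw [qc_neg hp3]
    have hne : (i + 1) ^ 2 - m ^ 2 ≠ 0 := fun e => by
      have h0 := qc_prod hp3 hms hg
      simp [qc, e] at h0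
    simp only [qc] at he h ⊢
    rcases quadraticChar_dichotomy hg.ne_zero with a | a <;>
      rcases quadraticChar_dichotomy hne with b | b <;> rw [a] at he ⊢ <;> rw [b] at he h <;> omega
  have h2 := card_fixd_of_eq hp3 hms hg.neg he'
  rw [← h2]
  refine card_nbij' (fun x => x - i) (fun x => x + i) (fun x hx => fixd_shift hx) (fun x hx => ?_)
    (fun x _ => sub_add_cancel x i) (fun x _ => add_sub_cancel_right x i)
  have := fixd_shift (Finset.mem_coe.1 hx)
  rwa [neg_neg, sub_neg_eq_add] at this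

/-- The two counts attached to a good parameter. -/
theorem counts_of_good :
    (fixd m i).card = 2 ∧
      (univ.filter fun x => sfun m i (tfun m (sfun m i (tfun m x))) = x).card ∈
        ({2, 6, 10} : Finset ℕ) := by
  have hm := m_ne_zero hp3 hms hg
  refine ⟨card_fixd hp3 hms hg, ?_⟩
  have : (univ.filter fun x => sfun m i (tfun m (sfun m i (tfun m x))) = x) =
      fixd m i ∪ cyc m i := by
    ext x
    rw [mem_filter, mem_union, mem_fixd, mem_cyc, hfun_hfun_iff hm]
    constructor
    · rintro ⟨-, h⟩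
      by_cases e : sfun m i x = tfun m x
      exacts [Or.inl e, Or.inr ⟨h, e⟩]
    · rintro (h | ⟨h, -⟩)
      · refine ⟨mem_univ _, ?_⟩
        rw [h, tfun_tfun hm]
        exact ((hfun_iff hm i x).2 h).symm
      · exact ⟨mem_univ _, h⟩
  rw [this, card_union_of_disjoint (disjoint_left.2 fun x h h' =>
    (mem_cyc.1 h').2 (mem_fixd.1 h)), card_fixd hp3 hms hg]
  have h4 := four_dvd_card_cyc hp3 hms hg
  have h8 := card_cyc_le hp3 hms hg
  simp only [mem_insert, mem_singleton]
  omega

end

end CfsgLib.Perm.ItoTwoQ
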