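import Cfsg.Agent.Lib.Perm.ItoTwoQ.Setup
import Mathlib

/-!
# Fusion at `q`, perfectness and fixed points in a group of degree `2 q + 1`
-/

set_option autoImplicit false
set_option linter.all false

namespace CfsgLib.Perm.ItoTwoQ

open Equiv MulAction Subgroup
open scoped _root_.Classical

namespace Hyp

variable {p q : ℕ} [Fact p.Prime] {G : Subgroup (Equiv.Perm (ZMod p))} (H : Hyp p q G)
include H

/-- The index of `Q` in its normalizer. -/
noncomputable def e : ℕ := fusionIndex H.Q

theorem normalizer_Q_fix {n : G} (hn : n ∈ normalizer (H.Q : Set G)) : n • (0 : ZMod p) = 0 := by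
  have h1 : n⁻¹ * H.scale * n ∈ H.Q := (mem_normalizer_iff''.1 hn _).1 (mem_zpowers _)
  have hne : n⁻¹ * H.scale * n ≠ 1 := fun e => by
    have e' : H.scale = 1 := by
      calc H.scale = n * (n⁻¹ * H.scale * n) * n⁻¹ := by group
        _ = 1 := by rw [e, mul_one, mul_inv_cancel]
    have := H.orderOf_scale
    rw [e', orderOf_one] at this
    have := H.qprime.two_le
    omega
  have h2 : (n⁻¹ * H.scale * n) • (0 : ZMod p) = 0 := (H.smul_Q_fix h1 hne 0).2 rfl
  rw [mul_smul, mul_smul, inv_smul_eq_iff] at h2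
  have h3 : H.scale ≠ 1 := fun e => by
    have := H.orderOf_scale
    rw [e, orderOf_one] at this
    have := H.qprime.two_le
    omega
  exact (H.smul_Q_fix (mem_zpowers _) h3 _).1 h2

theorem two_le_e : 2 ≤ H.e := by
  haveI := Fact.mk H.qprime
  by_contra hlt
  have hidx : fusionIndex H.Q = 1 := by
    have : fusionIndex H.Q ≠ 0 := Subgroup.index_ne_zero_of_finite
    rw [Hyp.e] at hlt
    omega
  let S : Sylow q G :=
    (IsPGroup.of_card (n := 1) (by rw [H.card_Q, pow_one]) : IsPGroup q H.Q).toSylow H.not_dvd_index_Q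
  have hle : normalizer ((S : Subgroup G) : Set G) ≤ centralizer ((S : Subgroup G) : Set G) :=
    Subgroup.relIndex_eq_one.1 hidx
  set K := (MonoidHom.transferSylow S hle).ker with hK
  have hcompl := MonoidHom.ker_transferSylow_isComplement' S hle
  have hKi : K.index = q := by
    rw [hK, hcompl.symm.index_eq_card]
    exact H.card_Q
  have hKq : ¬ q ∣ Nat.card K := MonoidHom.not_dvd_card_ker_transferSylow S hle
  -- the shift lies in `K`, so `K` is transitive
  have hs : H.shift ∈ K := by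
    have h1 : MonoidHom.transferSylow S hle H.shift = 1 := by
      rw [← orderOf_eq_one_iff]
      have hd : orderOf (MonoidHom.transferSylow S hle H.shift) ∣ p :=
        (orderOf_map_dvd _ _).trans (dvd_of_eq H.orderOf_shift)
      have hd' : orderOf (MonoidHom.transferSylow S hle H.shift) ∣ q :=
        (_root_.orderOf_dvd_natCard _).trans (dvd_of_eq H.card_Q)
      refine Nat.eq_one_of_dvd_coprimes ?_ hd hd'
      refine (Nat.coprime_primes Fact.out H.qprime).2 ?_
      have := H.pq; omega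
    rw [hK, MonoidHom.mem_ker]; exact h1
  have htr : IsPretransitive K (ZMod p) := ⟨fun x y => ⟨⟨H.shift ^ (y - x).val, pow_mem hs _⟩, by
    show H.shift ^ (y - x).val • x = y
    rw [H.shift_pow_smul, ZMod.natCast_zmod_val, add_sub_cancel]⟩⟩
  -- the stabilizer of a point in `K` is normal in the primitive stabilizer in `G`
  set T := stabilizer G (0 : ZMod p) with hT
  haveI : IsPretransitive T ↥(SubMulAction.ofStabilizer G (0 : ZMod p)) := by
    haveI := H.trans
    have h2 := (SubMulAction.ofStabilizer.isMultiplyPretransitive (G := G) (a := (0 : ZMod p))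
      (n := 1)).1 H.two
    exact MulAction.is_one_pretransitive_iff.1 h2
  have hKT : Nat.card (K ⊓ T : Subgroup G) * p = Nat.card K := by
    have h1 : Nat.card (stabilizer K (0 : ZMod p)) * p = Nat.card K := by
      rw [← (stabilizer K (0 : ZMod p)).card_mul_index, index_stabilizer_of_transitive, Nat.card_zmod]
    rw [← h1]
    congr 1
    refine Nat.card_congr ⟨fun k => ⟨⟨k.1, k.2.1⟩, k.2.2⟩, fun k => ⟨k.1.1, k.1.2, k.2⟩,
      fun k => rfl, fun k => rfl⟩
  have hGT : Nat.card T * p = Nat.card G := by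
    haveI := H.trans
    rw [← T.card_mul_index, hT, index_stabilizer_of_transitive, Nat.card_zmod]
  have hidx' : Nat.card (K ⊓ T : Subgroup G) * q = Nat.card T := by
    refine Nat.eq_of_mul_eq_mul_right (Fact.out : p.Prime).pos ?_
    rw [hGT, mul_right_comm, hKT, ← hKi, K.card_mul_index]
  let N0 : Subgroup T := (K ⊓ T).subgroupOf T
  haveI : N0.Normal := by
    have : N0 = K.subgroupOf T := by
      ext x
      simp [N0, Subgroup.mem_subgroupOf]
    rw [this]
    infer_instance
  have hN0 : Nat.card N0 = Nat.card (K ⊓ T : Subgroup G) :=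
    Nat.card_congr (Subgroup.subgroupOfEquivOfLe inf_le_right).toEquiv
  by_cases hbot : N0 = ⊥
  · rw [hbot, Subgroup.card_bot] at hN0
    rw [← hN0, one_mul] at hidx'
    have h1 : Nat.card ↥(SubMulAction.ofStabilizer G (0 : ZMod p)) ∣ Nat.card T := by
      obtain ⟨x⟩ : Nonempty ↥(SubMulAction.ofStabilizer G (0 : ZMod p)) :=
        ⟨⟨1, by simp [SubMulAction.mem_ofStabilizer_iff]⟩⟩
      rw [← index_stabilizer_of_transitive (G := T) x]
      exact Subgroup.index_dvd_card _
    rw [← hidx'] at h1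
    have h2 : Nat.card ↥(SubMulAction.ofStabilizer G (0 : ZMod p)) = 2 * q := by
      have := SubMulAction.nat_card_ofStabilizer_add_one_eq (G := G) (α := ZMod p) (0 : ZMod p)
      rw [Nat.card_zmod] at this
      have := H.pq; omega
    rw [h2] at h1
    have := Nat.le_of_dvd H.qprime.pos h1
    have := H.qprime.pos
    omega
  · -- a nontrivial normal subgroup of a primitive group is transitive
    haveI := H.prim_stabilizer
    have htr0 : IsPretransitive N0 ↥(SubMulAction.ofStabilizer G (0 : ZMod p)) := by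
      refine IsQuasiPreprimitive.isPretransitive_of_normal (G := T) fun h => hbot ?_
      rw [Subgroup.eq_bot_iff_forall]
      intro k hk
      refine Subtype.ext (ext_smul fun z => ?_)
      by_cases hz : z = 0
      · rw [hz]; exact k.2.trans (one_smul G _).symm
      · have := congrArg Subtype.val ((Set.eq_univ_iff_forall.1 h
          ⟨z, by simpa [SubMulAction.mem_ofStabilizer_iff] using hz⟩) ⟨k, hk⟩)
        exact this.trans (one_smul G _).symm
    obtain ⟨x⟩ : Nonempty ↥(SubMulAction.ofStabilizer G (0 : ZMod p)) :=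
      ⟨⟨1, by simp [SubMulAction.mem_ofStabilizer_iff]⟩⟩
    have h1 : Nat.card ↥(SubMulAction.ofStabilizer G (0 : ZMod p)) ∣ Nat.card N0 := by
      rw [← index_stabilizer_of_transitive (G := N0) x]
      exact Subgroup.index_dvd_card _
    have h2 : Nat.card ↥(SubMulAction.ofStabilizer G (0 : ZMod p)) = 2 * q := by
      have := SubMulAction.nat_card_ofStabilizer_add_one_eq (G := G) (α := ZMod p) (0 : ZMod p)
      rw [Nat.card_zmod] at this
      have := H.pq; omega
    rw [h2, hN0] at h1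
    exact hKq (((dvd_mul_left q 2).trans h1).trans (Dvd.intro p hKT))

theorem scale_ne_one : H.scale ≠ 1 := fun e => by
  have h1 := H.orderOf_scale
  rw [e, orderOf_one] at h1
  have := H.qprime.two_le
  omega

omit H in
theorem conj_pow_smul {n : G} {k : ℕ} {s : G} (h : n * s * n⁻¹ = s ^ k) (j : ℕ) :
    n ^ j * s * (n ^ j)⁻¹ = s ^ k ^ j := by
  induction j with
  | zero => simp
  | succ j ih =>
    calc n ^ (j + 1) * s * (n ^ (j + 1))⁻¹ = n ^ j * (n * s * n⁻¹) * (n ^ j)⁻¹ := by
          rw [pow_succ]; group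
      _ = (n ^ j * s * (n ^ j)⁻¹) ^ k := by rw [h, conj_pow]
      _ = _ := by rw [ih, ← pow_mul, ← pow_succ]

theorem exists_conj_scale {n : G} (hn : n ∈ normalizer (H.Q : Set G)) :
    ∃ k : ℕ, ¬ q ∣ k ∧ n * H.scale * n⁻¹ = H.scale ^ k := by
  have h1 : n * H.scale * n⁻¹ ∈ H.Q := (mem_normalizer_iff.1 hn _).1 (mem_zpowers _)
  obtain ⟨k, hk⟩ := (Submonoid.mem_powers_iff _ _).1 ((mem_powers_iff_mem_zpowers).2 h1)
  refine ⟨k, fun hd => H.scale_ne_one ?_, hk.symm⟩
  have h2 : H.scale ^ k = 1 := orderOf_dvd_iff_pow_eq_one.1 ((dvd_of_eq H.orderOf_scale).trans hd)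
  rw [h2] at hk
  exact conj_eq_one_iff.1 hk.symm

theorem mem_Q_of_commute {c : G} (h : c * H.scale * c⁻¹ = H.scale) : c ∈ H.Q := by
  rw [← H.centralizer_Q, mem_centralizer_iff]
  intro y hy
  obtain ⟨j, rfl⟩ := mem_zpowers_iff.1 hy
  have h1 : c * H.scale ^ j * c⁻¹ = H.scale ^ j := by rw [← conj_zpow, h]
  exact (mul_inv_eq_iff_eq_mul.1 h1).symm

theorem commutator_normalizer_Q {n m : G} (hn : n ∈ normalizer (H.Q : Set G))
    (hm : m ∈ normalizer (H.Q : Set G)) : n * m * n⁻¹ * m⁻¹ ∈ H.Q := by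
  refine H.mem_Q_of_commute ?_
  obtain ⟨k, -, hk⟩ := H.exists_conj_scale hn
  obtain ⟨l, -, hl⟩ := H.exists_conj_scale hm
  obtain ⟨k', -, hk'⟩ := H.exists_conj_scale (inv_mem hn)
  obtain ⟨l', -, hl'⟩ := H.exists_conj_scale (inv_mem hm)
  have hkk : H.scale ^ (k * k') = H.scale := by
    rw [pow_mul, ← hk, conj_pow, ← hk']; group
  have hll : H.scale ^ (l * l') = H.scale := by
    rw [pow_mul, ← hl, conj_pow, ← hl']; group
  calc n * m * n⁻¹ * m⁻¹ * H.scale * (n * m * n⁻¹ * m⁻¹)⁻¹
      = n * (m * (n⁻¹ * (m⁻¹ * H.scale * m⁻¹⁻¹) * n⁻¹⁻¹) * m⁻¹) * n⁻¹ := by group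
    _ = H.scale ^ (k * (l * (k' * l'))) := by
        simp only [hl', ← conj_pow, hk', ← pow_mul, hl, hk]
    _ = H.scale ^ ((k * k') * (l * l')) := by congr 1; ring
    _ = H.scale := by rw [pow_mul, hkk, hll]

theorem pow_normalizer_Q {n : G} (hn : n ∈ normalizer (H.Q : Set G)) : n ^ (q - 1) ∈ H.Q := by
  haveI := Fact.mk H.qprime
  refine H.mem_Q_of_commute ?_
  obtain ⟨k, hk0, hk⟩ := H.exists_conj_scale hn
  rw [conj_pow_smul hk, ← pow_mod_orderOf, H.orderOf_scale]
  have h1 : k ^ (q - 1) % q = 1 := by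
    have := ZMod.pow_card_sub_one_eq_one (a := (k : ZMod q))
      (fun e => hk0 ((ZMod.natCast_eq_zero_iff k q).1 e))
    rw [← Nat.cast_pow] at this
    have h2 := (ZMod.natCast_eq_natCast_iff' _ 1 q).1 (this.trans Nat.cast_one.symm)
    rwa [Nat.mod_eq_of_lt H.qprime.one_lt] at h2
  rw [h1, pow_one]

theorem exists_normalizer_not_commute :
    ∃ n ∈ normalizer (H.Q : Set G), ∃ k : ℕ, k % q ≠ 1 ∧ n * H.scale * n⁻¹ = H.scale ^ k := by
  by_contra hno
  push Not at hno
  have h1 : fusionIndex H.Q = 1 := by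
    refine Subgroup.relIndex_eq_one.2 fun n hn => ?_
    rw [H.centralizer_Q]
    refine H.mem_Q_of_commute ?_
    obtain ⟨k, -, hk⟩ := H.exists_conj_scale hn
    rw [hk, ← pow_mod_orderOf, H.orderOf_scale]
    by_cases h2 : k % q = 1
    · rw [h2, pow_one]
    · exact absurd hk (hno n hn k h2)
  have := H.two_le_e
  rw [Hyp.e, h1] at this
  omega

theorem scale_stabilizer : H.scale ∈ stabilizer G (0 : ZMod p) :=
  mem_stabilizer_iff.2 ((H.scale_smul 0).trans (mul_zero _))

theorem Q_le_stabilizer : H.Q ≤ stabilizer G (0 : ZMod p) := zpowers_le.2 H.scale_stabilizer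

theorem normalizer_Q_le_stabilizer : normalizer (H.Q : Set G) ≤ stabilizer G (0 : ZMod p) :=
  fun _ hn => mem_stabilizer_iff.2 (H.normalizer_Q_fix hn)

/-- A homomorphism to a commutative group kills `Q` already on the point stabilizer. -/
theorem hom_stabilizer_scale {A : Type*} [CommGroup A] (f : stabilizer G (0 : ZMod p) →* A) :
    f ⟨H.scale, H.scale_stabilizer⟩ = 1 := by
  obtain ⟨n, hn, k, hk, hnk⟩ := H.exists_normalizer_not_commute
  set s : stabilizer G (0 : ZMod p) := ⟨H.scale, H.scale_stabilizer⟩ with hs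
  set m : stabilizer G (0 : ZMod p) := ⟨n, H.normalizer_Q_le_stabilizer hn⟩ with hm
  have h1 : m * s * m⁻¹ = s ^ k := Subtype.ext hnk
  have h2 := congrArg f h1
  rw [map_mul, map_mul, map_inv, mul_inv_cancel_comm, map_pow] at h2
  have h3 : (f s) ^ q = 1 := by
    rw [← map_pow, show s ^ q = 1 from Subtype.ext (orderOf_dvd_iff_pow_eq_one.1 (dvd_of_eq H.orderOf_scale)),
      map_one]
  haveI := Fact.mk H.qprime
  by_contra h4
  have h5 := orderOf_eq_prime h3 h4
  refine hk ?_
  have h6 : (f s) ^ k = (f s) ^ 1 := by rw [pow_one]; exact h2.symm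
  rw [pow_inj_mod, h5, Nat.mod_eq_of_lt H.qprime.one_lt] at h6
  exact h6

theorem eq_one_of_hom {A : Type*} [CommGroup A] (f : G →* A) : f = 1 := by
  have hker : f.ker = ⊤ := by
    refine H.eq_top_of_normal ?_ ?_
    · rw [MonoidHom.mem_ker]
      have h1 := congrArg f H.scale_conj_shift
      rw [map_mul, map_mul, map_inv, mul_inv_cancel_comm, map_pow] at h1
      have h3 : f H.shift ^ 3 = 1 := mul_left_cancel (a := f H.shift) (by
        rw [mul_one, ← pow_succ']; exact h1.symm)
      have hd : orderOf (f H.shift) ∣ p := (orderOf_map_dvd _ _).trans (dvd_of_eq H.orderOf_shift)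
      have hd' : orderOf (f H.shift) ∣ 3 := orderOf_dvd_iff_pow_eq_one.2 h3
      rw [← orderOf_eq_one_iff]
      refine Nat.eq_one_of_dvd_coprimes ?_ hd hd'
      refine (Nat.coprime_primes Fact.out Nat.prime_three).2 ?_
      have := H.p23; omega
    · rw [MonoidHom.mem_ker]
      exact H.hom_stabilizer_scale (f.comp (stabilizer G (0 : ZMod p)).subtype)
  exact MonoidHom.ext fun g => (MonoidHom.mem_ker).1 (hker ▸ Subgroup.mem_top g)

theorem eq_triv_of_degree_one {χ : Cfsg.IrrCharacter G} (h : (χ : G → ℂ) 1 = 1) :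
    χ = CfsgLib.Char.trivChar G := by
  obtain ⟨l, hl⟩ := CfsgLib.Char.exists_linear_of_degree_one
    (CfsgLib.Char.IsIrr.isCharacter χ.2) h
  refine Subtype.ext (funext fun g => ?_)
  rw [CfsgLib.Char.trivChar_apply, hl, H.eq_one_of_hom l]
  simp

omit H in
theorem card_fixedBy_of_isConj {g x : G} (h : IsConj g x) :
    Nat.card (fixedBy (ZMod p) g) = Nat.card (fixedBy (ZMod p) x) := by
  obtain ⟨c, rfl⟩ := isConj_iff.1 h
  refine Nat.card_congr ((MulAction.toPerm c).subtypeEquiv fun z => ?_)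
  simp [mul_smul]

theorem card_fixedBy_P {x : G} (hx : x ∈ H.P) (hx1 : x ≠ 1) :
    Nat.card (fixedBy (ZMod p) x) = 0 := by
  obtain ⟨n, rfl⟩ := (Submonoid.mem_powers_iff _ _).1 (mem_powers_iff_mem_zpowers.2 hx)
  have : IsEmpty ↥(fixedBy (ZMod p) (H.shift ^ n)) := ⟨fun z => by
    have hz : H.shift ^ n • (z : ZMod p) = z := z.2
    rw [H.shift_pow_smul, add_eq_left] at hz
    exact hx1 (orderOf_dvd_iff_pow_eq_one.1
      ((dvd_of_eq H.orderOf_shift).trans ((ZMod.natCast_eq_zero_iff n p).1 hz)))⟩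
  exact Nat.card_of_isEmpty

theorem card_fixedBy_Q {x : G} (hx : x ∈ H.Q) (hx1 : x ≠ 1) :
    Nat.card (fixedBy (ZMod p) x) = 1 := by
  have h : fixedBy (ZMod p) x = {0} := Set.ext fun z => H.smul_Q_fix hx hx1 z
  rw [h, Nat.card_eq_fintype_card]
  simp

theorem card_fixedBy_of_q_dvd {g : G} (hg : q ∣ orderOf g) :
    Nat.card (fixedBy (ZMod p) g) = 1 := by
  haveI := Fact.mk H.qprime
  haveI := Fintype.ofFinite H.Q
  obtain ⟨x, hx, hx1, hc⟩ := H.selfCentral_Q.exists_singular hg
  rw [card_fixedBy_of_isConj hc, H.card_fixedBy_Q hx hx1]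

theorem card_fixedBy_of_p_dvd {g : G} (hg : p ∣ orderOf g) :
    Nat.card (fixedBy (ZMod p) g) = 0 := by
  haveI := Fintype.ofFinite H.P
  obtain ⟨x, hx, hx1, hc⟩ := H.selfCentral_P.exists_singular hg
  rw [card_fixedBy_of_isConj hc, H.card_fixedBy_P hx hx1]

end Hyp

end CfsgLib.Perm.ItoTwoQ
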