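import Cfsg.Agent.Lib.Perm.ItoTwoQ.Tools

/-!
# The graph of a group of rank three and degree `2 q`, `q = 2 a² + 2 a + 1`

* `srg`: `A² + A = a (a + 1) + a² J`, and the character of degree `q - 1` is
  `(a π - tr (A ·) + 2 a²) / (2 a + 1)`.
-/

set_option autoImplicit false
set_option linter.all false

open scoped ComplexConjugate

namespace CfsgLib.Perm.ItoTwoQ

open MulAction Module CfsgLib.Char CfsgLib.Perm.CentralizerRing CfsgLib.Perm.WielandtTwoP
open scoped _root_.Classical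

variable {H : Type*} [Group H] [Fintype H] {X : Type*} [Fintype X] [MulAction H X]

/-- The indicator of a relation. -/
noncomputable def relM (R : X → X → Prop) (x y : X) : ℂ := if R x y then 1 else 0

theorem isIntegral_of_opM {R : X → X → Prop} {v : X → ℂ} (hv : v ≠ 0) {μ : ℂ}
    (h : opM (relM R) v = μ • v) : IsIntegral ℤ μ := by
  have he : Module.End.HasEigenvalue (opM (relM R)) μ :=
    Module.End.hasEigenvalue_of_hasEigenvector
      (Module.End.hasEigenvector_iff.2 ⟨Module.End.mem_eigenspace_iff.2 h, hv⟩)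
  let M : Matrix X X ℤ := fun x y => if R x y then 1 else 0
  have hop : opM (relM R) = Matrix.toLin' (M.map (Int.castRingHom ℂ)) := by
    refine LinearMap.ext fun f => funext fun x => ?_
    rw [opM_apply, Matrix.toLin'_apply]
    refine Finset.sum_congr rfl fun y _ => ?_
    show relM R x y * f y = ((M x y : ℤ) : ℂ) * f y
    simp [relM, M, apply_ite (Int.cast : ℤ → ℂ)]
  rw [Module.End.hasEigenvalue_iff_isRoot_charpoly, hop, Matrix.charpoly_toLin', Matrix.charpoly_map] at he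
  refine ⟨M.charpoly, Matrix.charpoly_monic _, ?_⟩
  rwa [Polynomial.IsRoot.def, Polynomial.eval_map] at he

theorem int_root_false {a : ℕ} (ha : 0 < a) {α : ℂ} (hint : IsIntegral ℤ α)
    (h : (2 * (a : ℂ) + 1) * α = ((a : ℂ) + 1) * (2 * a + 1) - 2 * a) : False := by
  have hne : (2 * (a : ℂ) + 1) ≠ 0 := by
    exact_mod_cast (Nat.succ_ne_zero (2 * a) : 2 * a + 1 ≠ 0)
  set r : ℚ := (((a : ℚ) + 1) * (2 * a + 1) - 2 * a) / (2 * a + 1) with hr
  have hα : α = (r : ℂ) := by
    rw [hr]; push_cast; rw [eq_div_iff hne]; linear_combination h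
  obtain ⟨z, hz⟩ := CfsgLib.RankThreeInv.exists_int_of_isIntegral (q := r) (hα ▸ hint)
  rw [hα, hz] at h
  have hz' : (2 * (a : ℤ) + 1) * z = ((a : ℤ) + 1) * (2 * a + 1) - 2 * a := by exact_mod_cast h
  have hd : (2 * (a : ℤ) + 1) ∣ 2 * a := ⟨(a : ℤ) + 1 - z, by linear_combination hz'⟩
  have := Int.le_of_dvd (by omega) hd
  omega

variable [IsPretransitive H X] {q a : ℕ} (ha : 0 < a) (hq : q = 2 * a ^ 2 + 2 * a + 1)
  (hX : Fintype.card X = 2 * q) (χ₁ χ₂ : Cfsg.IrrCharacter H)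
  (hπ : (fun g : H => (Nat.card (fixedBy X g) : ℂ)) =
    fun g => 1 + (χ₁ : H → ℂ) g + (χ₂ : H → ℂ) g)
  (hd₁ : (χ₁ : H → ℂ) 1 = (q : ℂ) - 1) (hd₂ : (χ₂ : H → ℂ) 1 = q)
  (R : X → X → Prop) (hinv : ∀ (g : H) x y, R (g • x) (g • y) ↔ R x y)
  (hsymm : ∀ x y, R x y → R y x) (hirr : ∀ x, ¬ R x x)
  (hrow : ∀ x, (Finset.univ.filter fun y => R x y).card = a * (2 * a + 1))

include ha hq hX hπ hd₁ hd₂ hinv hsymm hirr hrow in
theorem srg :
    (∀ x y : X, ((Finset.univ.filter fun z => R x z ∧ R z y).card : ℂ) + relM R x y =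
      (a : ℂ) * (a + 1) * (if x = y then 1 else 0) + (a : ℂ) ^ 2) ∧
    ∀ h : H, (2 * (a : ℂ) + 1) * (χ₁ : H → ℂ) h =
      (a : ℂ) * (Nat.card (fixedBy X h) : ℂ) - ((Finset.univ.filter fun x => R x (h • x)).card : ℂ) +
        2 * (a : ℂ) ^ 2 := by
  haveI := Fintype.ofFinite (Cfsg.IrrCharacter H)
  haveI : Nonempty X := Fintype.card_pos_iff.1 (by rw [hX, hq]; positivity)
  obtain ⟨μ, -, hμ1, hμc⟩ := exists_perm_decomp (G := H) (Ω := X)
  set t := trivChar H with ht
  have hμval : ∀ χ : Cfsg.IrrCharacter H, (μ χ : ℂ) =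
      (if t = χ then 1 else 0) + (if χ₁ = χ then 1 else 0) + (if χ₂ = χ then 1 else 0) := by
    intro χ
    rw [← hμc, hπ, ← classInner_irr, ← classInner_irr, ← classInner_irr, ← classInner_add_left,
      ← classInner_add_left]
    rfl
  have hc12 : χ₁ ≠ χ₂ := fun e => by
    rw [e, hd₂] at hd₁
    exact one_ne_zero (α := ℂ) (by linear_combination hd₁)
  have hc1 : χ₁ ≠ t := fun e => by
    have h3 := hμval t
    rw [hμ1, if_pos rfl, if_pos e] at h3
    split_ifs at h3 <;> norm_num at h3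
  have hc2 : χ₂ ≠ t := fun e => by
    have h3 := hμval t
    rw [hμ1, if_pos rfl, if_pos e, if_neg hc1] at h3
    norm_num at h3
  have hsum : ∀ φ : Cfsg.IrrCharacter H → ℂ, ∑ χ, (μ χ : ℂ) * φ χ = φ t + φ χ₁ + φ χ₂ := by
    intro φ
    simp only [hμval, add_mul, ite_mul, one_mul, zero_mul, Finset.sum_add_distrib,
      Finset.sum_ite_eq, Finset.mem_univ, if_true]
  set ρ := Cfsg.permRep ℂ H X with hρ
  have hμρ : ∀ χ : Cfsg.IrrCharacter H, Cfsg.classInner ρ.character (χ : H → ℂ) = (μ χ : ℂ) :=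
    fun χ => by rw [hρ, permRep_character]; exact hμc χ
  have hone : ∀ χ, χ = χ₁ ∨ χ = χ₂ ∨ χ = t → Cfsg.classInner ρ.character (χ : H → ℂ) = 1 := by
    rintro χ (rfl | rfl | rfl) <;> rw [hμρ, hμval]
    · rw [if_neg (Ne.symm hc1), if_pos rfl, if_neg (Ne.symm hc12)]; norm_num
    · rw [if_neg (Ne.symm hc2), if_neg hc12, if_pos rfl]; norm_num
    · rw [if_pos rfl, if_neg hc1, if_neg hc2]; norm_num
  have hzero : ∀ χ, χ ≠ χ₁ → χ ≠ χ₂ → χ ≠ t → Cfsg.classInner ρ.character (χ : H → ℂ) = 0 := by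
    intro χ h1 h2 h3
    rw [hμρ, hμval, if_neg (Ne.symm h3), if_neg (Ne.symm h1), if_neg (Ne.symm h2)]
    norm_num
  set A : Module.End ℂ (X → ℂ) := opM (relM R) with hA
  have hE : IsEquivariant ρ ρ A := isEnd_opM fun g x y => by simp only [relM, hinv]
  obtain ⟨α, hα⟩ := exists_isCoeff ρ (fun χ => by
    by_cases h : χ = χ₁ ∨ χ = χ₂ ∨ χ = t
    · exact Or.inr (hone χ h)
    · push Not at h
      exact Or.inl (hzero χ h.1 h.2.1 h.2.2)) hE
  set u : ℂ := (a : ℂ) * (2 * a + 1) with hu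
  have hrowC : ∀ x, ∑ y, relM R x y = u := fun x => by
    simp only [relM, Finset.sum_boole, hrow, hu]; push_cast; ring
  -- the value on the trivial constituent
  have hEt : ∀ v : X → ℂ, ∀ x, charSum ρ (t : H → ℂ) v x = ∑ g : H, v (g⁻¹ • x) := by
    intro v x
    simp only [charSum, LinearMap.sum_apply, LinearMap.smul_apply, Finset.sum_apply, Pi.smul_apply,
      ht, trivChar_apply, map_one, smul_eq_mul, one_mul]
    rfl
  have hN : (Nat.card H : ℂ) ≠ 0 := Nat.cast_ne_zero.2 Nat.card_pos.ne'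
  have hαt : α t = u := by
    obtain ⟨x⟩ := (inferInstance : Nonempty X)
    have h1 := congrFun (LinearMap.congr_fun (hα t) (fun _ => 1)) x
    rw [LinearMap.comp_apply, LinearMap.smul_apply, Pi.smul_apply, smul_eq_mul, opM_apply] at h1
    simp only [hEt, Finset.sum_const, Finset.card_univ, ← Finset.sum_mul, hrowC, nsmul_eq_mul,
      mul_one, ← Nat.card_eq_fintype_card] at h1
    exact mul_right_cancel₀ hN h1.symm
  have htr : ∀ (h : H) (D : Module.End ℂ (X → ℂ)) (β : Cfsg.IrrCharacter H → ℂ),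
      IsCoeff ρ D β → LinearMap.trace ℂ _ (D * ρ h) =
        β t + β χ₁ * (χ₁ : H → ℂ) h + β χ₂ * (χ₂ : H → ℂ) h := by
    intro h D β hβ
    rw [Module.End.mul_eq_comp, trace_mul_apply ρ μ hμρ hβ h,
      Finset.sum_congr rfl fun χ _ => mul_assoc _ _ _, hsum (fun χ => β χ * (χ : H → ℂ) h),
      ht, trivChar_apply, mul_one]
  have hcnt : ∀ h : H, ((Finset.univ.filter fun x => R x (h • x)).card : ℂ) =
      u + α χ₁ * (χ₁ : H → ℂ) h + α χ₂ * (χ₂ : H → ℂ) h := by
    intro h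
    rw [← hαt, ← htr h A α hα, trace_opM_mul]
    simp only [relM, Finset.sum_boole]
  -- the two trace equations
  have e0 : u + α χ₁ * ((q : ℂ) - 1) + α χ₂ * q = 0 := by
    rw [← hd₁, ← hd₂, ← hcnt 1]
    simp [hirr]
  have e1 : u * u + α χ₁ * α χ₁ * ((q : ℂ) - 1) + α χ₂ * α χ₂ * q = 2 * q * u := by
    have h2 := htr 1 (A * A) _ (isCoeff_comp hα hα)
    simp only [hαt, hd₁, hd₂] at h2
    rw [← h2, opM_mul, trace_opM_mul]
    simp only [one_smul, mulM]
    rw [Finset.sum_congr rfl fun x _ => show ∑ y, relM R x y * relM R y x = u by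
      rw [← hrowC x]
      refine Finset.sum_congr rfl fun y _ => ?_
      by_cases h3 : R x y
      · simp [relM, h3, hsymm x y h3]
      · simp [relM, h3]]
    rw [Finset.sum_const, Finset.card_univ, hX, nsmul_eq_mul]
    push_cast
    ring
  have hqC : (q : ℂ) = 2 * (a : ℂ) ^ 2 + 2 * a + 1 := by rw [hq]; push_cast; ring
  have hquad : ((q : ℂ) - 1) * (2 * a + 1) * ((α χ₁ + a + 1) *
      ((2 * (a : ℂ) + 1) * α χ₁ - (((a : ℂ) + 1) * (2 * a + 1) - 2 * a))) = 0 := by
    rw [hu, hqC] at e0 e1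
    rw [hqC]
    linear_combination (2 * (a : ℂ) ^ 2 + 2 * a + 1) * e1 +
      ((a : ℂ) * (2 * a + 1) + α χ₁ * (2 * (a : ℂ) ^ 2 + 2 * a + 1 - 1) -
        α χ₂ * (2 * (a : ℂ) ^ 2 + 2 * a + 1)) * e0
  have ha1 : α χ₁ = -((a : ℂ) + 1) := by
    have hq1 : ((q : ℂ) - 1) * (2 * a + 1) ≠ 0 := by
      rw [hqC]
      have : (2 * (a : ℂ) ^ 2 + 2 * a + 1 - 1) * (2 * a + 1) = ((2 * a ^ 2 + 2 * a) * (2 * a + 1) : ℕ) := by
        push_cast; ring
      rw [this, Nat.cast_ne_zero]
      positivity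
    rcases mul_eq_zero.1 ((mul_eq_zero.1 hquad).resolve_left hq1) with h | h
    · linear_combination h
    · exfalso
      obtain ⟨v, hv⟩ : ∃ v, charSum ρ (χ₁ : H → ℂ) v ≠ 0 := by
        by_contra hno
        push Not at hno
        exact (exists_smul_charSum ρ χ₁ (hone _ (Or.inl rfl)) hE).1 (LinearMap.ext hno)
      exact int_root_false ha (isIntegral_of_opM hv (LinearMap.congr_fun (hα χ₁) v))
        (by linear_combination h)
  have ha2 : α χ₂ = a := by
    have hq0 : (q : ℂ) ≠ 0 := by rw [hq, Nat.cast_ne_zero]; positivity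
    refine mul_right_cancel₀ hq0 ?_
    rw [ha1, hu] at e0
    linear_combination e0 + (1 : ℂ) * hqC
  refine ⟨fun x y => ?_, fun h => ?_⟩
  · set w : ℂ := (a : ℂ) * (a + 1) with hw
    set D : Module.End ℂ (X → ℂ) := A * A + A - w • 1 with hD
    have hDcoef : ∀ χ : Cfsg.IrrCharacter H, D ∘ₗ charSum ρ (χ : H → ℂ) =
        (α χ * α χ + α χ - w) • charSum ρ (χ : H → ℂ) := by
      intro χ
      have h1 : (A * A) ∘ₗ charSum ρ (χ : H → ℂ) = (α χ * α χ) • charSum ρ (χ : H → ℂ) :=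
        isCoeff_comp hα hα χ
      rw [hD, LinearMap.sub_comp, LinearMap.add_comp, hα χ, LinearMap.smul_comp,
        Module.End.one_eq_id, LinearMap.id_comp, h1]
      refine LinearMap.ext fun v => funext fun z => ?_
      simp only [LinearMap.add_apply, LinearMap.sub_apply, LinearMap.smul_apply, Pi.add_apply,
        Pi.sub_apply, Pi.smul_apply, smul_eq_mul]
      ring
    have hk : ∀ χ : Cfsg.IrrCharacter H, χ ≠ t → D ∘ₗ charSum ρ (χ : H → ℂ) = 0 := by
      intro χ hχ
      rw [hDcoef]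
      by_cases h1 : χ = χ₁
      · rw [h1, ha1, hw]; ring_nf; rw [zero_smul]
      by_cases h2 : χ = χ₂
      · rw [h2, ha2, hw]; ring_nf; rw [zero_smul]
      rw [charSum_eq_zero ρ χ (hzero χ h1 h2 hχ), smul_zero]
    have h5 : (Nat.card H : ℂ) • D = (u * u + u - w) • charSum ρ (t : H → ℂ) := by
      have h4 := congrArg (fun f : Module.End ℂ (X → ℂ) => D ∘ₗ f) (sum_charSum (G := H) ρ)
      simp only [LinearMap.comp_smul, LinearMap.comp_id] at h4
      rw [← h4, show ∀ (s : Finset (Cfsg.IrrCharacter H)) (f : Cfsg.IrrCharacter H → Module.End ℂ (X → ℂ)), D ∘ₗ (∑ i ∈ s, f i) = ∑ i ∈ s, D ∘ₗ f i from fun s f => Finset.mul_sum s f D, Finset.sum_eq_single t (fun χ _ hχ => by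
        rw [LinearMap.comp_smul, hk χ hχ, smul_zero]) (fun h => absurd (Finset.mem_univ _) h),
        LinearMap.comp_smul, hDcoef, hαt, ht, trivChar_apply, one_smul]
    have h6 := congrFun (LinearMap.congr_fun h5 (Pi.single y 1)) x
    rw [LinearMap.smul_apply, LinearMap.smul_apply, Pi.smul_apply, Pi.smul_apply, smul_eq_mul,
      smul_eq_mul, hEt] at h6
    have hE1 : (Fintype.card X : ℂ) * ∑ g : H, (Pi.single y (1 : ℂ) : X → ℂ) (g⁻¹ • x) =
        Nat.card H := by
      -- every orbit map has fibres of equal size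
      have hsw : ∀ x' : X, ∑ g : H, (Pi.single y (1 : ℂ) : X → ℂ) (g⁻¹ • x') =
          ∑ g : H, (Pi.single y (1 : ℂ) : X → ℂ) (g⁻¹ • x) := by
        intro x'
        obtain ⟨c, rfl⟩ := exists_smul_eq H x x'
        refine Fintype.sum_equiv (Equiv.mulLeft c⁻¹) _ _ fun g => ?_
        simp [mul_smul]
      have h7 : ∑ x' : X, ∑ g : H, (Pi.single y (1 : ℂ) : X → ℂ) (g⁻¹ • x') = Nat.card H := by
        rw [Finset.sum_comm]
        have : ∀ g : H, ∑ x' : X, (Pi.single y (1 : ℂ) : X → ℂ) (g⁻¹ • x') = 1 := fun g => by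
          refine (Equiv.sum_comp (MulAction.toPerm g⁻¹) (Pi.single y (1 : ℂ) : X → ℂ)).trans ?_
          simp
        simp [this, Nat.card_eq_fintype_card]
      rw [← h7, Finset.sum_congr rfl fun x' _ => hsw x', Finset.sum_const, Finset.card_univ,
        nsmul_eq_mul]
    have hDval : D (Pi.single y 1) x =
        ((Finset.univ.filter fun z => R x z ∧ R z y).card : ℂ) + relM R x y -
          w * (if x = y then 1 else 0) := by
      rw [hD, LinearMap.sub_apply, LinearMap.add_apply, Pi.sub_apply, Pi.add_apply, hA, opM_mul,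
        opM_single, opM_single, LinearMap.smul_apply, Module.End.one_apply, Pi.smul_apply,
        Pi.single_apply, smul_eq_mul]
      congr 2
      simp only [mulM, relM, ite_mul, one_mul, zero_mul, ← ite_and, Finset.sum_boole]
    rw [hDval] at h6
    have hX' : (Fintype.card X : ℂ) = 2 * q := by rw [hX]; push_cast; ring
    have hsc : u * u + u - w = (a : ℂ) ^ 2 * (Fintype.card X : ℂ) := by
      rw [hX', hqC, hu, hw]; ring
    rw [hsc] at h6
    refine eq_add_of_sub_eq' (mul_left_cancel₀ hN ?_)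
    linear_combination h6 + (a : ℂ) ^ 2 * hE1
  · have h2 := congrFun hπ h
    rw [hcnt h, ha1, ha2, h2, hu]
    ring

end CfsgLib.Perm.ItoTwoQ
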