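import Cfsg.Agent.Lib.Perm.ItoTwoQ.Fusion
import Cfsg.Agent.Lib.Perm.ItoTwoQ.SRG
import Cfsg.Agent.S0719
import Cfsg.Agent.Lib.Perm.WielandtTwoP.Main

/-!
# The ternary relation of a group which is not triply transitive

* `exists_graph`: a symmetric invariant ternary relation whose links are strongly regular graphs,
  and the character decomposition of the point stabilizer.
-/

set_option autoImplicit false
set_option linter.all false

namespace CfsgLib.Perm.ItoTwoQ

open Equiv MulAction Subgroup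
open scoped _root_.Classical

variable {p q : ℕ} [Fact p.Prime]

/-- The link data. -/
structure Graph (p q a : ℕ) [Fact p.Prime] (G : Subgroup (Equiv.Perm (ZMod p)))
    (T : ZMod p → ZMod p → ZMod p → Prop) : Prop where
  hq : q = 2 * a ^ 2 + 2 * a + 1
  two_le : 2 ≤ a
  irr : ∀ {x y z}, T x y z → x ≠ y ∧ x ≠ z ∧ y ≠ z
  sym12 : ∀ {x y z}, T x y z → T y x z
  sym23 : ∀ {x y z}, T x y z → T x z y
  inv : ∀ (g : G) x y z, T (g • x) (g • y) (g • z) ↔ T x y z
  row : ∀ x y, x ≠ y → (Finset.univ.filter fun z => T x y z).card = a * (2 * a + 1)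
  rel : ∀ x y z, y ≠ x → z ≠ x →
    (Finset.univ.filter fun w => T x y w ∧ T x w z).card + (if T x y z then 1 else 0) =
      a * (a + 1) * (if y = z then 1 else 0) + a ^ 2
  chars : ∃ ψ₁ ψ₂ : Cfsg.IrrCharacter (stabilizer G (0 : ZMod p)),
    (ψ₁ : stabilizer G (0 : ZMod p) → ℂ) 1 = q ∧
    (ψ₂ : stabilizer G (0 : ZMod p) → ℂ) 1 = (q : ℂ) - 1 ∧
    ∀ h : stabilizer G (0 : ZMod p),
      (Nat.card (fixedBy (ZMod p) (h : G)) : ℂ) =
        2 + (ψ₁ : _ → ℂ) h + (ψ₂ : _ → ℂ) h ∧
      (2 * (a : ℂ) + 1) * (ψ₂ : _ → ℂ) h =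
        (a : ℂ) * ((Nat.card (fixedBy (ZMod p) (h : G)) : ℂ) - 1) -
          ((Finset.univ.filter fun x => T 0 x ((h : G) • x)).card : ℂ) + 2 * (a : ℂ) ^ 2

theorem card_orbit_mul {Γ : Type*} [Group Γ] [Finite Γ] {Ω : Type*} [MulAction Γ Ω]
    (K : Subgroup Γ) (z : Ω) :
    Nat.card (orbit K z) * Nat.card (K ⊓ stabilizer Γ z : Subgroup Γ) = Nat.card K := by
  have h1 : Nat.card (stabilizer K z) = Nat.card (K ⊓ stabilizer Γ z : Subgroup Γ) :=
    Nat.card_congr ⟨fun k => ⟨k.1.1, k.1.2, k.2⟩, fun k => ⟨⟨k.1, k.2.1⟩, k.2.2⟩,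
      fun k => rfl, fun k => rfl⟩
  rw [← h1, ← (stabilizer K z).index_mul_card, index_stabilizer, Nat.card_coe_set_eq]

namespace Hyp

variable {G : Subgroup (Equiv.Perm (ZMod p))} (H : Hyp p q G)
include H

theorem card_two_stabilizer {x y : ZMod p} (h : x ≠ y) :
    p * (p - 1) * Nat.card (stabilizer G x ⊓ stabilizer G y : Subgroup G) = Nat.card G := by
  haveI := H.trans
  have h1 := (stabilizer G x).index_mul_card
  rw [index_stabilizer_of_transitive, Nat.card_zmod] at h1
  have h2 := card_orbit_mul (stabilizer G x) y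
  have horb : Nat.card (orbit (stabilizer G x) y) = p - 1 := by
    have e : orbit (stabilizer G x) y = ({x} : Set (ZMod p))ᶜ := by
      ext z
      refine ⟨?_, fun hz => ?_⟩
      · rintro ⟨⟨g, hg⟩, rfl⟩ e
        exact h (MulAction.injective g ((e.trans hg.symm : g • y = g • x))).symm
      · obtain ⟨g, hg, hg'⟩ := (is_two_pretransitive_iff.1 H.two) h (Ne.symm hz)
        exact ⟨⟨g, hg⟩, hg'⟩
    rw [e, Nat.card_coe_set_eq, Set.ncard_compl, Nat.card_zmod, Set.ncard_singleton]
  rw [horb] at h2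
  rw [← h1, mul_assoc, h2]

/-- The ternary relation attached to a subdegree. -/
def tri (G : Subgroup (Equiv.Perm (ZMod p))) (u : ℕ) (x y z : ZMod p) : Prop :=
  x ≠ y ∧ x ≠ z ∧ y ≠ z ∧ p * (p - 1) * (u *
    Nat.card (stabilizer G x ⊓ stabilizer G y ⊓ stabilizer G z : Subgroup G)) = Nat.card G

theorem tri_iff {u : ℕ} {x y z : ZMod p} (h : x ≠ y) :
    tri G u x y z ↔ (x ≠ z ∧ y ≠ z) ∧
      Nat.card (orbit (stabilizer G x ⊓ stabilizer G y : Subgroup G) z) = u := by
  have hpos : 0 < p * (p - 1) := by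
    have := H.p23
    exact Nat.mul_pos (by omega) (by omega)
  constructor
  · rintro ⟨-, h1, h2, e⟩
    refine ⟨⟨h1, h2⟩, Nat.eq_of_mul_eq_mul_right (Nat.card_pos
      (α := (stabilizer G x ⊓ stabilizer G y ⊓ stabilizer G z : Subgroup G))) ?_⟩
    refine (card_orbit_mul (stabilizer G x ⊓ stabilizer G y) z).trans (Nat.eq_of_mul_eq_mul_left hpos ?_)
    rw [H.card_two_stabilizer h, e]
  · rintro ⟨⟨h1, h2⟩, rfl⟩
    exact ⟨h, h1, h2, by rw [card_orbit_mul, H.card_two_stabilizer h]⟩

omit H in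
theorem tri_smul (u : ℕ) (g : G) (x y z : ZMod p) :
    tri G u (g • x) (g • y) (g • z) ↔ tri G u x y z := by
  have hc : Nat.card (stabilizer G (g • x) ⊓ stabilizer G (g • y) ⊓ stabilizer G (g • z) : Subgroup G) =
      Nat.card (stabilizer G x ⊓ stabilizer G y ⊓ stabilizer G z : Subgroup G) := by
    refine Nat.card_congr ((MulAut.conj g⁻¹).toEquiv.subtypeEquiv fun k => ?_)
    have hk : ∀ w : ZMod p, (MulAut.conj g⁻¹).toEquiv k • w = w ↔ k • g • w = g • w := fun w => by
      show (g⁻¹ * k * g⁻¹⁻¹) • w = w ↔ _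
      rw [inv_inv, mul_smul, mul_smul, inv_smul_eq_iff]
    simp only [Subgroup.mem_inf, mem_stabilizer_iff, hk]
  simp only [tri, hc, ne_eq, smul_left_cancel_iff]

/-- A group of this kind which is not triply transitive carries the link data. -/
theorem exists_graph (h3 : ¬ IsMultiplyPretransitive G (ZMod p) 3) :
    ∃ a T, Graph p q a G T := by
  haveI := H.trans
  set S := stabilizer G (0 : ZMod p) with hS
  set X := ↥(SubMulAction.ofStabilizer G (0 : ZMod p)) with hXdef
  haveI : Fintype X := Fintype.ofFinite X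
  haveI := H.prim_stabilizer
  have hXc : Fintype.card X = 2 * q := by
    rw [← Nat.card_eq_fintype_card]
    have := SubMulAction.nat_card_ofStabilizer_add_one_eq (G := G) (α := ZMod p) (0 : ZMod p)
    rw [Nat.card_zmod] at this
    change Nat.card X + 1 = p at this
    have := H.pq
    omega
  set H' : Subgroup (Equiv.Perm X) := (MulAction.toPermHom S X).range with hH'
  set f := (MulAction.toPermHom S X).rangeRestrict with hf
  have hfs : Function.Surjective f := MonoidHom.rangeRestrict_surjective _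
  haveI : IsPreprimitive H' X := by
    let e : X →ₑ[f] X := { toFun := id, map_smul' := fun g x => rfl }
    exact IsPreprimitive.of_surjective (f := e) Function.surjective_id
  have hn2 : ¬ IsMultiplyPretransitive H' X 2 := fun h2 => h3 (by
    rw [SubMulAction.ofStabilizer.isMultiplyPretransitive (n := 2) (a := (0 : ZMod p))]
    rw [is_two_pretransitive_iff] at h2 ⊢
    intro x y z w hxy hzw
    obtain ⟨h, e1, e2⟩ := h2 hxy hzw
    obtain ⟨g, rfl⟩ := hfs h
    exact ⟨g, e1, e2⟩)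
  have hb : (1 : ZMod p) ∈ SubMulAction.ofStabilizer G (0 : ZMod p) := by
    simp [SubMulAction.mem_ofStabilizer_iff]
  set b : X := ⟨1, hb⟩ with hbdef
  haveI := Fintype.ofFinite H'
  obtain ⟨hrank, χ₁, χ₂, hπ, hd₁, hd₂⟩ := CfsgLib.Perm.WielandtTwoP.exists_decomp
    ⟨H.qprime, by have := H.q11; omega, hXc, inferInstance, hn2⟩ b
  obtain ⟨a, ha, hqa, hsub⟩ := Cfsg.Agent.S0719.result (inferInstance : IsPreprimitive H' X) hXc b
    hrank _ _ χ₁.2 χ₂.2 hπ hd₁ hd₂
  set u := a * (2 * a + 1) with hu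
  set T := tri G u with hT
  have hsym12 : ∀ {x y z}, T x y z → T y x z := fun {x y z} ⟨h1, h2, h3', e⟩ =>
    ⟨Ne.symm h1, h3', h2, by rwa [inf_comm (a := stabilizer G y)]⟩
  have hsym23 : ∀ {x y z}, T x y z → T x z y := fun {x y z} ⟨h1, h2, h3', e⟩ =>
    ⟨h2, h1, Ne.symm h3', by rwa [inf_right_comm]⟩
  have hinv : ∀ (g : G) x y z, T (g • x) (g • y) (g • z) ↔ T x y z := tri_smul u
  have horbit : ∀ (z : X),
      Nat.card (orbit (stabilizer H' b) z) =
        Nat.card (orbit (stabilizer G (0 : ZMod p) ⊓ stabilizer G (1 : ZMod p) : Subgroup G) (z : ZMod p)) := by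
    intro z
    rw [Nat.card_coe_set_eq, Nat.card_coe_set_eq,
      ← Set.ncard_image_of_injective (f := ((↑) : X → ZMod p)) _ Subtype.val_injective]
    congr 1
    ext w
    constructor
    · rintro ⟨_, ⟨⟨k, hk⟩, rfl⟩, rfl⟩
      obtain ⟨g, rfl⟩ := hfs k
      exact ⟨⟨g, g.2, congrArg Subtype.val (mem_stabilizer_iff.1 hk)⟩, rfl⟩
    · rintro ⟨⟨g, hg0, hg1⟩, rfl⟩
      exact ⟨f ⟨g, hg0⟩ • z, ⟨⟨f ⟨g, hg0⟩, Subtype.ext hg1⟩, rfl⟩, rfl⟩
  have hrow1 : (Finset.univ.filter fun z => T 0 1 z).card = u := by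
    haveI := Fintype.ofFinite (orbitRel.Quotient (stabilizer H' b) X)
    set mk : X → orbitRel.Quotient (stabilizer H' b) X := Quotient.mk'' with hmk
    have hfib : ∀ z : X, (Finset.univ.filter fun w => mk w = mk z).card =
        Nat.card (orbit (stabilizer H' b) z) := by
      intro z
      rw [Nat.card_coe_set_eq, ← Set.ncard_coe_finset]
      congr 1
      ext w
      simp only [Finset.coe_filter, Finset.mem_univ, true_and, Set.mem_setOf_eq]
      exact ⟨fun e => MulAction.orbitRel_apply.1 (Quotient.exact' e),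
        fun e => Quotient.sound' (MulAction.orbitRel_apply.2 e)⟩
    let F : orbitRel.Quotient (stabilizer H' b) X → ℕ :=
      fun o => (Finset.univ.filter fun w => mk w = o).card
    have hFb : F (mk b) = 1 := by
      show (Finset.univ.filter fun w => mk w = mk b).card = 1
      rw [hfib, Nat.card_coe_set_eq, Set.ncard_eq_one]
      refine ⟨b, Set.eq_singleton_iff_unique_mem.2 ⟨mem_orbit_self b, ?_⟩⟩
      rintro _ ⟨k, rfl⟩
      exact k.2
    have hF : ∀ o, o ≠ mk b → F o = u ∨ F o = (a + 1) * (2 * a + 1) := by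
      intro o ho
      induction o using Quotient.inductionOn' with | _ z => ?_
      have hz : z ≠ b := fun e => ho (by rw [e])
      show (Finset.univ.filter fun w => mk w = mk z).card = u ∨ _
      rw [hfib]
      rcases hsub z hz with e | e
      · exact Or.inl e
      · exact Or.inr ((hfib z).trans e)
    have hcard : (Finset.univ.erase (mk b)).card = 2 := by
      rw [Finset.card_erase_of_mem (Finset.mem_univ _), Finset.card_univ, ← Nat.card_eq_fintype_card,
        hrank]
    obtain ⟨o₁, o₂, ho, he⟩ := Finset.card_eq_two.1 hcard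
    have htot : ∑ o, F o = Fintype.card X :=
      (Finset.card_eq_sum_card_fiberwise (f := mk) (fun z _ => Finset.mem_univ _)).symm
    rw [← Finset.add_sum_erase _ _ (Finset.mem_univ (mk b)), he, Finset.sum_pair ho, hFb, hXc] at htot
    have hne : u ≠ (a + 1) * (2 * a + 1) := by rw [hu, add_mul, one_mul]; omega
    have hsum : u + (a + 1) * (2 * a + 1) + 1 = 2 * q := by rw [hu, hqa]; ring
    have hm : ∀ z : X, T 0 1 (z : ZMod p) ↔ mk z ≠ mk b ∧ F (mk z) = u := by
      intro z
      rw [hT, H.tri_iff zero_ne_one, ← horbit, ← hfib]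
      constructor
      · rintro ⟨⟨-, h1⟩, e⟩
        refine ⟨fun e' => h1 ?_, e⟩
        obtain ⟨k, hk⟩ := MulAction.orbitRel_apply.1 (Quotient.exact' e')
        have hzb : z = b := hk.symm.trans k.2
        rw [hzb]
      · rintro ⟨h1, e⟩
        exact ⟨⟨fun e' => z.2 e'.symm, fun e' => h1 (congrArg mk (Subtype.ext e'.symm))⟩, e⟩
    have hkey : ∃ o, o ≠ mk b ∧ F o = u ∧ ∀ o', o' ≠ mk b → F o' = u → o' = o := by
      have h1 : o₁ ≠ mk b := Finset.ne_of_mem_erase (he ▸ Finset.mem_insert_self _ _)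
      have h2 : o₂ ≠ mk b := Finset.ne_of_mem_erase
        (he ▸ Finset.mem_insert_of_mem (Finset.mem_singleton_self _))
      have hall : ∀ o, o ≠ mk b → o = o₁ ∨ o = o₂ := fun o h => by
        simpa using (Finset.ext_iff.1 he o).1 (Finset.mem_erase.2 ⟨h, Finset.mem_univ o⟩)
      rcases hF o₁ h1 with e1 | e1
      · refine ⟨o₁, h1, e1, fun o h e => (hall o h).resolve_right fun e' => ?_⟩
        rw [e'] at e
        omega
      · refine ⟨o₂, h2, by omega, fun o h e => (hall o h).resolve_left fun e' => ?_⟩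
        rw [e', e1] at e
        exact hne e.symm
    obtain ⟨o, ho1, ho2, ho3⟩ := hkey
    rw [← ho2]
    refine Finset.card_bij' (fun z hz => (⟨z, ?_⟩ : X)) (fun z _ => (z : ZMod p)) ?_ ?_
      (fun _ _ => rfl) (fun _ _ => rfl)
    · have := (Finset.mem_filter.1 hz).2
      exact fun e => this.2.1 e.symm
    · intro z hz
      refine Finset.mem_filter.2 ⟨Finset.mem_univ _, ?_⟩
      obtain ⟨h1, h2⟩ := (hm ⟨z, fun e => (Finset.mem_filter.1 hz).2.2.1 e.symm⟩).1
        (Finset.mem_filter.1 hz).2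
      exact ho3 _ h1 h2
    · intro z hz
      refine Finset.mem_filter.2 ⟨Finset.mem_univ _, (hm z).2 ?_⟩
      rw [(Finset.mem_filter.1 hz).2]
      exact ⟨ho1, ho2⟩
  have hrow : ∀ x y, x ≠ y → (Finset.univ.filter fun z => T x y z).card = u := by
    intro x y hxy
    obtain ⟨g, rfl, rfl⟩ := (is_two_pretransitive_iff.1 H.two) (zero_ne_one (α := ZMod p)) hxy
    rw [← hrow1]
    refine (Finset.card_equiv (MulAction.toPerm g) fun z => ?_).symm
    simp only [Finset.mem_filter, Finset.mem_univ, true_and, MulAction.toPerm_apply, hinv]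
  -- the graph on the points different from zero
  haveI : IsPretransitive S X := H.prim_stabilizer.toIsPretransitive
  let χ₁' : Cfsg.IrrCharacter S := ⟨_, CfsgLib.Char.IsIrr.comp_surjective f hfs χ₁.2⟩
  let χ₂' : Cfsg.IrrCharacter S := ⟨_, CfsgLib.Char.IsIrr.comp_surjective f hfs χ₂.2⟩
  haveI : Fintype S := Fintype.ofFinite S
  have hπ' : (fun g : S => (Nat.card (fixedBy X g) : ℂ)) =
      fun g => 1 + (χ₁' : S → ℂ) g + (χ₂' : S → ℂ) g := funext fun g => by
    show _ = 1 + (χ₁ : H' → ℂ) (f g) + (χ₂ : H' → ℂ) (f g)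
    rw [← congrFun hπ (f g)]
    rfl
  have hd₁' : (χ₁' : S → ℂ) 1 = (q : ℂ) - 1 := by
    show (χ₁ : H' → ℂ) (f 1) = _; rw [map_one, hd₁]
  have hd₂' : (χ₂' : S → ℂ) 1 = q := by
    show (χ₂ : H' → ℂ) (f 1) = _; rw [map_one, hd₂]
  have hval : ∀ (y : X) (P : ZMod p → Prop) (hP : ∀ z, P z → z ≠ 0),
      (Finset.univ.filter fun z : X => P z).card = (Finset.univ.filter P).card := fun _ P hP => by
    refine Finset.card_bij' (fun z _ => (z : ZMod p)) (fun z hz => ⟨z, hP z (Finset.mem_filter.1 hz).2⟩)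
      ?_ ?_ (fun _ _ => rfl) (fun _ _ => rfl) <;> intro z hz <;>
      exact Finset.mem_filter.2 ⟨Finset.mem_univ _, (Finset.mem_filter.1 hz).2⟩
  obtain ⟨hsrg, hψ⟩ := srg (H := S) ha hqa hXc χ₁' χ₂' hπ' hd₁' hd₂'
    (fun y z => T 0 (y : ZMod p) z)
    (fun g y z => by
      have := hinv (g : G) 0 y z
      rw [show (g : G) • (0 : ZMod p) = 0 from g.2] at this
      exact this)
    (fun y z h => hsym23 h) (fun y h => h.2.2.1 rfl)
    (fun y => (hval y (fun z => T 0 y z) fun z hz => Ne.symm hz.2.1).trans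
      (hrow 0 y (Ne.symm y.2)))
  have h2a : 2 ≤ a := by
    by_contra hlt
    have ha1 : a = 1 := by omega
    have := H.q11
    rw [ha1] at hqa
    omega
  refine ⟨a, T, hqa, h2a, fun h => ⟨h.1, h.2.1, h.2.2.1⟩, hsym12, hsym23, hinv, hrow, ?_,
    χ₂', χ₁', hd₂', hd₁', fun h => ?_⟩
  · intro x y z hy hz
    obtain ⟨g, rfl⟩ := H.trans.exists_smul_eq (0 : ZMod p) x
    obtain ⟨y, rfl⟩ : ∃ y', g • y' = y := ⟨g⁻¹ • y, smul_inv_smul g y⟩
    obtain ⟨z, rfl⟩ : ∃ z', g • z' = z := ⟨g⁻¹ • z, smul_inv_smul g z⟩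
    have hy0 : y ≠ 0 := fun e => hy (by rw [e])
    have hz0 : z ≠ 0 := fun e => hz (by rw [e])
    have e := hsrg ⟨y, hy0⟩ ⟨z, hz0⟩
    simp only [relM, Subtype.mk.injEq] at e
    have e2 := hval ⟨y, hy0⟩ (fun w => T 0 y w ∧ T 0 w z) fun w hw => Ne.symm hw.1.2.1
    have ecard : (Finset.univ.filter fun w => T (g • 0) (g • y) w ∧ T (g • 0) w (g • z)).card =
        (Finset.univ.filter fun w => T 0 y w ∧ T 0 w z).card := by
      refine (Finset.card_equiv (MulAction.toPerm g) fun w => ?_).symm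
      simp only [Finset.mem_filter, Finset.mem_univ, true_and, MulAction.toPerm_apply, hinv]
    rw [ecard]
    simp only [hinv, smul_left_cancel_iff]
    apply Nat.cast_injective (R := ℂ)
    push_cast
    have e3 : (Finset.univ.filter fun w => T 0 y w ∧ T 0 w z).card =
        (Finset.univ.filter fun w : X => T 0 y (w : ZMod p) ∧ T 0 (w : ZMod p) z).card := by
      convert e2.symm using 2 <;> · ext w; simp
    rw [e3]
    rcases eq_or_ne y z with rfl | hyz
    · simpa using e
    · rw [if_neg hyz]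
      rw [if_neg (show (⟨y, hy0⟩ : X) ≠ ⟨z, hz0⟩ from fun e' => hyz (congrArg Subtype.val e'))] at e
      simpa using e
  · have hfix : Nat.card (fixedBy (ZMod p) (h : G)) = Nat.card (fixedBy X h) + 1 := by
      rw [Nat.card_coe_set_eq, Nat.card_coe_set_eq,
        ← Set.ncard_image_of_injective (f := ((↑) : X → ZMod p)) _ Subtype.val_injective,
        ← Set.ncard_insert_of_notMem (a := (0 : ZMod p)) (s := ((↑) : X → ZMod p) '' fixedBy X h)
          (fun ⟨z, _, e⟩ => z.2 e)]
      congr 1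
      ext w
      simp only [Set.mem_insert_iff, Set.mem_image, MulAction.mem_fixedBy]
      constructor
      · intro hw
        rcases eq_or_ne w 0 with e | e
        · exact Or.inl e
        · exact Or.inr ⟨⟨w, e⟩, Subtype.ext hw, rfl⟩
      · rintro (rfl | ⟨z, hz, rfl⟩)
        · exact h.2
        · exact congrArg Subtype.val hz
    rw [hfix, Nat.cast_add, Nat.cast_one, add_sub_cancel_right]
    refine ⟨by rw [congrFun hπ' h]; ring, ?_⟩
    rw [hψ h]
    congr 2
    exact_mod_cast hval b (fun x => T 0 x ((h : G) • x)) fun x hx => Ne.symm hx.1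

end Hyp

end CfsgLib.Perm.ItoTwoQ
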