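import Cfsg.Agent.Lib.Perm.ItoTwoQ.Cycles
import Mathlib.Data.ZMod.Basic
import Mathlib.Tactic.IntervalCases
import Mathlib.Tactic.NormNum.Prime

/-!
# Existence of the parameter for every safe prime `p ≥ 23`
-/

set_option autoImplicit false

namespace CfsgLib.Perm.ItoTwoQ

open Finset
open scoped _root_.Classical

variable {p : ℕ} [Fact p.Prime]

/-- A decidable form of `Good`. -/
def GoodC (p : ℕ) (m i : ZMod p) : Prop :=
  i ≠ 0 ∧ (i ^ 2 - (1 + m) ^ 2) ^ (p / 2) = 1 ∧ (i ^ 2 - (1 - m) ^ 2) ^ (p / 2) = 1 ∧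
    (i ≠ 1 ∧ i ≠ -1) ∧ (i ≠ m ∧ i ≠ -m) ∧
    (i ^ 2 ≠ 2 ∧ i ^ 2 ≠ 2 * m ^ 2 ∧ i ^ 2 ≠ 1 + m ^ 2) ∧
    ∀ c ∈ [((0 : ZMod p), (1 : ZMod p)), (0, m), (1, m)],
      (c.1 - i) * (c.2 - i) ≠ 1 ∧ (c.1 - i) * (c.2 - i) ≠ m ^ 2 ∧
        (c.1 + i) * (c.2 + i) ≠ 1 ∧ (c.1 + i) * (c.2 + i) ≠ m ^ 2

instance (p : ℕ) (m i : ZMod p) : Decidable (GoodC p m i) := by
  unfold GoodC; infer_instance

theorem sq_of_pow {a : ZMod p} (hp : 2 ≤ p) (h : a ^ (p / 2) = 1) : a ≠ 0 ∧ IsSquare a := by
  have ha : a ≠ 0 := fun e => by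
    rw [e, zero_pow (by omega)] at h
    exact zero_ne_one h
  exact ⟨ha, (ZMod.euler_criterion p ha).2 h⟩

theorem good_of_goodC {m i : ZMod p} (h : GoodC p m i) : Good m i := by
  have hp := (Fact.out : p.Prime).two_le
  obtain ⟨h0, h1, h2, h3, h4, h5, h6⟩ := h
  obtain ⟨a, a'⟩ := sq_of_pow hp h1
  obtain ⟨b, b'⟩ := sq_of_pow hp h2
  refine ⟨h0, a, a', b, b', h3, h4, h5, fun x hx y hy hxy => ?_⟩
  simp only [List.mem_cons, List.not_mem_nil, or_false, forall_eq_or_imp, forall_eq] at h6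
  simp only [mem_insert, mem_singleton] at hx hy
  rcases hx with rfl | rfl | rfl <;> rcases hy with rfl | rfl | rfl <;>
    first
      | exact absurd rfl hxy
      | exact h6.1
      | exact h6.2.1
      | exact h6.2.2
      | (rw [mul_comm (x - i), mul_comm (x + i)]; first | exact h6.1 | exact h6.2.1 | exact h6.2.2)
      | (simp only [mul_comm (1 - i), mul_comm (1 + i)]; exact h6.1)
      | (rw [mul_comm ((1 : ZMod p) - i), mul_comm ((1 : ZMod p) + i)]; exact h6.1)
      | (rw [mul_comm (m - i), mul_comm (m + i)]; first | exact h6.2.1 | exact h6.2.2)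

/-- The class, computably. -/
def clsC (p : ℕ) (x : ZMod p) : Bool := decide (x = 0 ∨ x ^ (p / 2) = 1)

/-- The inversion, computably. -/
def tfunC (p : ℕ) (m x : ZMod p) : ZMod p := (if clsC p x then 1 else m ^ 2) * x ^ (p - 2)

theorem cls_eq_clsC (x : ZMod p) : cls x = clsC p x := by
  rw [cls, clsC, decide_eq_decide]
  rcases eq_or_ne x 0 with h | h
  · simp [h]
  · rw [ZMod.euler_criterion p h]
    simp [h]

theorem tfun_eq_tfunC (hp : 3 ≤ p) (m x : ZMod p) : tfun m x = tfunC p m x := by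
  rw [tfun, tfunC, cls_eq_clsC, kap]
  congr 1
  rcases eq_or_ne x 0 with h | h
  · rw [h, inv_zero, zero_pow (by omega)]
  · refine inv_eq_of_mul_eq_one_right (G := ZMod p) (a := x) ?_
    rw [← pow_succ', show p - 2 + 1 = p - 1 by omega]
    exact ZMod.pow_card_sub_one_eq_one h

/-- The two counts are of an admissible shape. -/
def Admissible (F G : ℕ) : Prop :=
  F ≠ 1 ∧ ((F : ℤ) ^ 2 + G - 4 * F = -2 ∨ (F : ℤ) ^ 2 + G - 4 * F = 2 ∨ (F : ℤ) ^ 2 + G - 4 * F = 6)

instance (F G : ℕ) : Decidable (Admissible F G) := by unfold Admissible; infer_instance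

/-- The two counts, computably. -/
def countsC (p : ℕ) [NeZero p] (m i : ZMod p) : ℕ × ℕ :=
  let s := fun x => tfunC p m (x - i) + i
  let h := fun x => s (tfunC p m x)
  ((univ.filter fun x => s x = tfunC p m x).card, (univ.filter fun x => h (h x) = x).card)

theorem prime23 : Nat.Prime 23 := by norm_num

theorem table23 : ∀ m : ZMod 23, clsC 23 m = false →
    ∃ i : ZMod 23, i ≠ 0 ∧ Admissible (countsC 23 m i).1 (countsC 23 m i).2 := by
  decide +kernel

theorem table47 : ∀ m : ZMod 47, clsC 47 m = false → ∃ i : ZMod 47, GoodC 47 m i := by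
  decide +kernel

theorem table59 : ∀ m : ZMod 59, clsC 59 m = false → ∃ i : ZMod 59, GoodC 59 m i := by
  decide +kernel

theorem table83 : ∀ m : ZMod 83, clsC 83 m = false → ∃ i : ZMod 83, GoodC 83 m i := by
  decide +kernel

theorem table107 : ∀ m : ZMod 107, clsC 107 m = false → ∃ i : ZMod 107, GoodC 107 m i := by
  decide +kernel

theorem table167 : ∀ m : ZMod 167, clsC 167 m = false → ∃ i : ZMod 167, GoodC 167 m i := by
  decide +kernel

theorem table179 : ∀ m : ZMod 179, clsC 179 m = false → ∃ i : ZMod 179, GoodC 179 m i := by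
  decide +kernel

theorem table227 : ∀ m : ZMod 227, clsC 227 m = false → ∃ i : ZMod 227, GoodC 227 m i := by
  decide +kernel

/-- For every nonsquare `m` there is a parameter with admissible counts. -/
theorem exists_param {q : ℕ} (hq : q.Prime) (hpq : p = 2 * q + 1) (hq11 : 11 ≤ q) {m : ZMod p}
    (hms : cls m = false) :
    ∃ i : ZMod p, i ≠ 0 ∧
      Admissible (univ.filter fun x => sfun m i x = tfun m x).card
        (univ.filter fun x => sfun m i (tfun m (sfun m i (tfun m x))) = x).card := by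
  have hqo : q % 2 = 1 := (hq.eq_two_or_odd).resolve_left (by omega)
  have hp3 : p % 4 = 3 := by omega
  have hm : m ≠ 0 := fun e => by rw [e] at hms; simp [cls] at hms
  have hgood : (∃ i, Good m i) → ∃ i : ZMod p, i ≠ 0 ∧
      Admissible (univ.filter fun x => sfun m i x = tfun m x).card
        (univ.filter fun x => sfun m i (tfun m (sfun m i (tfun m x))) = x).card := by
    rintro ⟨i, hi⟩
    obtain ⟨h1, h2⟩ := counts_of_good hp3 hms hi
    rw [fixd] at h1
    refine ⟨i, hi.ne_zero, ?_⟩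
    rw [h1]
    simp only [mem_insert, mem_singleton] at h2
    rcases h2 with e | e | e <;> rw [e] <;> decide
  rcases Nat.lt_or_ge p 263 with hlt | hge
  · have hps : p ∈ [23, 47, 59, 83, 107, 167, 179, 227] := by
      have hp := (Fact.out : p.Prime)
      have hq' : q ≤ 130 := by omega
      subst hpq
      interval_cases q <;> revert hp hq <;> norm_num
    have hms' : clsC p m = false := by rw [← cls_eq_clsC]; exact hms
    simp only [List.mem_cons, List.not_mem_nil, or_false] at hps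
    rcases hps with rfl | rfl | rfl | rfl | rfl | rfl | rfl | rfl
    · obtain ⟨i, h0, hi⟩ := table23 m hms'
      refine ⟨i, h0, ?_⟩
      simp only [countsC] at hi
      simp only [sfun, tfun_eq_tfunC (p := 23) (by norm_num)]
      convert hi using 3
    all_goals refine hgood ?_
    · obtain ⟨i, hi⟩ := table47 m hms'; exact ⟨i, good_of_goodC hi⟩
    · obtain ⟨i, hi⟩ := table59 m hms'; exact ⟨i, good_of_goodC hi⟩
    · obtain ⟨i, hi⟩ := table83 m hms'; exact ⟨i, good_of_goodC hi⟩
    · obtain ⟨i, hi⟩ := table107 m hms'; exact ⟨i, good_of_goodC hi⟩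
    · obtain ⟨i, hi⟩ := table167 m hms'; exact ⟨i, good_of_goodC hi⟩
    · obtain ⟨i, hi⟩ := table179 m hms'; exact ⟨i, good_of_goodC hi⟩
    · obtain ⟨i, hi⟩ := table227 m hms'; exact ⟨i, good_of_goodC hi⟩
  · refine hgood (exists_good hp3 ?_ hge hm)
    have hp := (Fact.out : p.Prime)
    have h3 : ¬ 3 ∣ p := fun h => by
      rcases hp.eq_one_or_self_of_dvd 3 h with e | e <;> omega
    have h3q : ¬ 3 ∣ q := fun h => by
      rcases hq.eq_one_or_self_of_dvd 3 h with e | e <;> omega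
    omega

end CfsgLib.Perm.ItoTwoQ
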