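import Cfsg.Agent.Lib.Perm.ItoTwoQ.ThreePattern
import Cfsg.Agent.Lib.Perm.ItoTwoQ.Param
import Cfsg.Agent.Lib.RankThreeInv.Trace
import Mathlib.GroupTheory.Perm.Cycle.Type

/-!
# The inversion and the final contradiction

* `Hyp.exists_inversion`: a real exceptional character puts a map `x ↦ κ / x` into the group.
* `Hyp.false`: the hypotheses are contradictory.
-/

set_option autoImplicit false
set_option linter.all false

open scoped ComplexConjugate

namespace CfsgLib.Perm.ItoTwoQ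

open Equiv MulAction Subgroup Cfsg CfsgLib.Char CfsgLib.Blocks.PrimeSylow
open scoped _root_.Classical

variable {p q : ℕ} [Fact p.Prime] {G : Subgroup (Equiv.Perm (ZMod p))}

namespace Hyp

variable (H : Hyp p q G) [Fintype G] [Fintype H.Q] [Fintype (IrrCharacter H.Q)]
include H

theorem exists_inverting {φ : IrrCharacter G} {μ : IrrCharacter H.Q} {c : ℤ} (hX : IsExc H.Q φ μ c)
    (hreal : ∀ g, conj ((φ : G → ℂ) g) = (φ : G → ℂ) g) :
    ∃ n ∈ normalizer (H.Q : Set G), n * H.scale * n⁻¹ = H.scale⁻¹ := by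
  haveI := Fact.mk H.qprime
  obtain ⟨hμ, hc, hv, -⟩ := hX
  have hc0 : c ≠ 0 := by rcases hc with rfl | rfl <;> omega
  have hconj : ∀ l : IrrCharacter H.Q, amult H.Q φ (conjIrr l) = amult H.Q φ l := fun l => by
    apply Nat.cast_injective (R := ℂ)
    have e : classInner (fun x : H.Q => (φ : G → ℂ) x) (conjIrr l : H.Q → ℂ) =
        conj (classInner (fun x : H.Q => (φ : G → ℂ) x) (l : H.Q → ℂ)) := by
      simp only [classInner, map_mul, map_sum, map_inv₀, map_natCast, hreal, conjIrr_apply,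
        Complex.conj_conj]
    rw [← amult_spec, ← amult_spec, e, amult_spec, Complex.conj_natCast]
  have hne : conjIrr μ ≠ trivChar H.Q := fun e => hμ (irr_ext fun x => by
    have := congrArg (fun l : IrrCharacter H.Q => conj ((l : H.Q → ℂ) x)) e
    simpa [conjIrr_apply, trivChar_apply] using this)
  have h1 := hv μ hμ
  have h2 := hv (conjIrr μ) hne
  rw [if_pos (H.selfCentral_Q.inN_refl μ)] at h1
  rw [hconj, h1] at h2
  obtain ⟨n, hn, hcj⟩ : InN H.Q μ (conjIrr μ) := by
    by_contra hno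
    rw [if_neg hno] at h2
    omega
  refine ⟨n, hn, ?_⟩
  set s : H.Q := ⟨H.scale, mem_zpowers _⟩ with hs
  have e := congrFun hcj s
  rw [H.selfCentral_Q.setup.cjFunP_apply _ hn, conjIrr_apply, ← IsIrr.map_inv μ.2] at e
  exact congrArg Subtype.val (H.selfCentral_Q.setup.lchar_injective hμ e)

theorem exists_involution {n : G} (hn : n ∈ normalizer (H.Q : Set G))
    (hinv : n * H.scale * n⁻¹ = H.scale⁻¹) :
    ∃ t : G, t * t = 1 ∧ t ≠ 1 ∧ t • (0 : ZMod p) = 0 ∧
      ∀ a : ZMod p, a ≠ 0 → IsSquare a → ∀ x : ZMod p, t • (a * x) = a⁻¹ * t • x := by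
  have hsq : n * n ∈ H.Q := H.mem_Q_of_commute (by
    calc n * n * H.scale * (n * n)⁻¹ = n * (n * H.scale * n⁻¹) * n⁻¹ := by group
      _ = H.scale := by rw [hinv, ← conj_inv, hinv, inv_inv])
  have hcomm : ∀ y ∈ H.Q, y * H.scale * y⁻¹ = H.scale := fun y hy => by
    rw [← H.centralizer_Q, mem_centralizer_iff] at hy
    rw [← hy H.scale (mem_zpowers _), mul_inv_cancel_right]
  have hodd := H.qodd
  have ht : n ^ q * H.scale * (n ^ q)⁻¹ = H.scale⁻¹ := by
    have e : n ^ q = n * (n * n) ^ (q / 2) := by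
      rw [← pow_two, ← pow_mul, ← pow_succ']; congr 1; omega
    rw [e]
    calc n * (n * n) ^ (q / 2) * H.scale * (n * (n * n) ^ (q / 2))⁻¹
        = n * ((n * n) ^ (q / 2) * H.scale * ((n * n) ^ (q / 2))⁻¹) * n⁻¹ := by group
      _ = _ := by rw [hcomm _ (pow_mem hsq _), hinv]
  refine ⟨n ^ q, ?_, fun e => ?_, H.normalizer_Q_fix (pow_mem hn q), fun a ha hasq x => ?_⟩
  · rw [← pow_add, ← two_mul, pow_mul]
    have h1 := pow_card_eq_one' (x := (⟨n * n, hsq⟩ : H.Q))
    rw [H.card_Q] at h1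
    have := congrArg Subtype.val h1
    rw [SubmonoidClass.coe_pow, Subgroup.coe_one] at this
    rw [pow_two]
    exact this
  · rw [e, one_mul, inv_one, mul_one] at ht
    have h2 : H.scale ^ 2 = 1 := by
      rw [pow_two]; conv_lhs => arg 2; rw [ht]
      rw [mul_inv_cancel]
    have := Nat.le_of_dvd two_pos ((dvd_of_eq H.orderOf_scale.symm).trans (orderOf_dvd_of_pow_eq_one h2))
    have := H.q11
    omega
  · obtain ⟨g, hg, hgs⟩ := H.exists_scale ha hasq
    obtain ⟨j, rfl⟩ := mem_zpowers_iff.1 hg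
    have e : n ^ q * H.scale ^ j = (H.scale ^ j)⁻¹ * n ^ q := by
      rw [← mul_inv_eq_iff_eq_mul, ← conj_zpow, ht, inv_zpow]
    rw [← hgs, ← mul_smul, e, mul_smul, eq_inv_mul_iff_mul_eq₀ ha, ← hgs, smul_inv_smul]

theorem exists_inversion {φ : IrrCharacter G} {μ : IrrCharacter H.Q} {c : ℤ} (hX : IsExc H.Q φ μ c)
    (hreal : ∀ g, conj ((φ : G → ℂ) g) = (φ : G → ℂ) g) :
    ∃ m : ZMod p, cls m = false ∧ ∃ t : G, ∀ x : ZMod p, t • x = tfun m x := by
  obtain ⟨n, hn, hninv⟩ := H.exists_inverting hX hreal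
  obtain ⟨t, htt, ht1, ht0, hta⟩ := H.exists_involution hn hninv
  have htx : ∀ x : ZMod p, t • t • x = x := fun x => by rw [← mul_smul, htt, one_smul]
  have ht1ne : t • (1 : ZMod p) ≠ 0 := fun e => by
    have := htx 1; rw [e, ht0] at this; exact zero_ne_one this
  have hp3 := H.p_mod
  have hsqinv : ∀ {a : ZMod p}, IsSquare a → IsSquare a⁻¹ := fun {a} ⟨b, hb⟩ => ⟨b⁻¹, by rw [hb, mul_inv]⟩
  have hprod : ∀ {a b : ZMod p}, a ≠ 0 → b ≠ 0 → ¬ IsSquare a → ¬ IsSquare b → IsSquare (a * b) := by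
    intro a b ha hb hna hnb
    rw [← quadraticChar_one_iff_isSquare (mul_ne_zero ha hb), map_mul,
      quadraticChar_neg_one_iff_not_isSquare.2 hna, quadraticChar_neg_one_iff_not_isSquare.2 hnb]
    norm_num
  have hmon : ¬ IsSquare (-1 : ZMod p) := fun h => ZMod.exists_sq_eq_neg_one_iff.1 h hp3
  have hmon0 : (-1 : ZMod p) ≠ 0 := neg_ne_zero.2 one_ne_zero
  have hnegsq : ∀ {a : ZMod p}, a ≠ 0 → ¬ IsSquare a → IsSquare (-a) := fun {a} ha h => by
    rw [neg_eq_neg_one_mul]; exact hprod hmon0 ha hmon h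
  have hsq1 : IsSquare (t • (1 : ZMod p)) := by
    by_contra hns
    have hmove : ∀ x : ZMod p, x ≠ 0 → t • x ≠ x := by
      intro x hx e
      by_cases hx2 : IsSquare x
      · have h1 := hta x hx hx2 1
        rw [mul_one, e] at h1
        refine hns ⟨x, ?_⟩
        rw [eq_inv_mul_iff_mul_eq₀ hx] at h1
        exact h1.symm
      · set a := t • (1 : ZMod p) * x⁻¹ with ha
        have ha0 : a ≠ 0 := mul_ne_zero ht1ne (inv_ne_zero hx)
        have hasq : IsSquare a := hprod ht1ne (inv_ne_zero hx) hns fun h => hx2 (by simpa using hsqinv h)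
        have h1 := hta a ha0 hasq 1
        rw [mul_one, ha, mul_inv, inv_inv, mul_right_comm, inv_mul_cancel₀ ht1ne, one_mul] at h1
        refine hx2 ?_
        have h2 := htx a
        rw [show t • a = x from h1, e] at h2
        rw [h2]
        exact hasq
    set σ : Equiv.Perm (ZMod p) := (t : Equiv.Perm (ZMod p)) with hσ
    have hσsupp : σ.support = Finset.univ.erase 0 := by
      ext x
      simp only [Equiv.Perm.mem_support, Finset.mem_erase, Finset.mem_univ, and_true]
      refine ⟨fun h e => h ?_, hmove x⟩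
      subst e
      exact ht0
    have hord : orderOf σ = 2 := by
      haveI := Fact.mk Nat.prime_two
      refine orderOf_eq_prime ?_ fun e => ht1 (Subtype.ext e)
      rw [pow_two]; exact congrArg Subtype.val htt
    obtain ⟨k, hk⟩ := Equiv.Perm.cycleType_prime_order (σ := σ) (by rw [hord]; exact Nat.prime_two)
    have hsum := σ.sum_cycleType
    rw [hσsupp, Finset.card_erase_of_mem (Finset.mem_univ _), Finset.card_univ, ZMod.card, hk, hord,
      Multiset.sum_replicate, smul_eq_mul] at hsum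
    have halt := Equiv.Perm.mem_alternatingGroup.1 (H.le_alternating t.2)
    rw [Equiv.Perm.sign_of_cycleType, hk, hord, Multiset.sum_replicate, Multiset.card_replicate, smul_eq_mul,
      Odd.neg_one_pow] at halt
    · exact absurd halt (by decide)
    · have := H.pq
      have := H.qodd
      rw [Nat.odd_iff]
      omega
  obtain ⟨b, hb⟩ := hsq1
  have hb0 : b ≠ 0 := fun e => ht1ne (by rw [hb, e, mul_zero])
  obtain ⟨r, hr, hrsq, hr2⟩ : ∃ r : ZMod p, r ≠ 0 ∧ IsSquare r ∧ t • (1 : ZMod p) = r * r := by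
    by_cases h : IsSquare b
    · exact ⟨b, hb0, h, hb⟩
    · exact ⟨-b, neg_ne_zero.2 hb0, hnegsq hb0 h, by rw [hb]; ring⟩
  obtain ⟨g, -, hg⟩ := H.exists_scale hr hrsq
  have hginv : ∀ x : ZMod p, g⁻¹ • x = r⁻¹ * x := fun x => by
    rw [inv_smul_eq_iff, hg, mul_inv_cancel_left₀ hr]
  set u : G := g⁻¹ * t * g with hu
  have hux : ∀ x : ZMod p, u • x = r⁻¹ * t • (r * x) := fun x => by
    rw [hu, mul_smul, mul_smul, hg, hginv]
  have huu : ∀ x : ZMod p, u • u • x = x := fun x => by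
    rw [hux, hux, mul_inv_cancel_left₀ hr, htx, inv_mul_cancel_left₀ hr]
  have hua : ∀ a : ZMod p, a ≠ 0 → IsSquare a → ∀ x : ZMod p, u • (a * x) = a⁻¹ * u • x := fun a ha h x => by
    rw [hux, hux, mul_left_comm r, hta a ha h, mul_left_comm]
  have hu0 : u • (0 : ZMod p) = 0 := by rw [hux, mul_zero, ht0, mul_zero]
  have hu1 : u • (1 : ZMod p) = 1 := by
    rw [hux, hta r hr hrsq, hr2, inv_mul_cancel_left₀ hr, inv_mul_cancel₀ hr]
  set v := u • (-1 : ZMod p) with hv
  have hv0 : v ≠ 0 := fun e => hmon0 (by rw [← huu (-1), ← hv, e, hu0])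
  have hvns : ¬ IsSquare v := fun h => hmon (by
    rw [← huu (-1), ← hv, ← mul_one v, hua v hv0 h, hu1, mul_one]
    exact hsqinv h)
  obtain ⟨c', hc'⟩ := hnegsq hv0 hvns
  have hc0 : c' ≠ 0 := fun e => hv0 (by rw [e, mul_zero, neg_eq_zero] at hc'; exact hc')
  obtain ⟨m, hm, hms, hm2⟩ : ∃ m : ZMod p, m ≠ 0 ∧ ¬ IsSquare m ∧ -v = m * m := by
    by_cases h : IsSquare c'
    · exact ⟨-c', neg_ne_zero.2 hc0, fun h' => hmon (by
        have e : (-1 : ZMod p) = -c' * c'⁻¹ := by rw [neg_mul, mul_inv_cancel₀ hc0]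
        rw [e]; exact h'.mul (hsqinv h)), by rw [hc']; ring⟩
    · exact ⟨c', hc0, h, hc'⟩
  refine ⟨m, by simp [cls, hms], u, fun x => ?_⟩
  rcases eq_or_ne x 0 with rfl | hx
  · rw [hu0, tfun_zero]
  by_cases h : IsSquare x
  · have := hua x hx h 1
    rw [mul_one, hu1, mul_one] at this
    rw [this, tfun, kap, show cls x = true by simp [cls, h], if_pos rfl, one_mul]
  · have := hua (-x) (neg_ne_zero.2 hx) (hnegsq hx h) (-1)
    rw [neg_mul_neg, mul_one, ← hv] at this
    rw [this, tfun, kap, show cls x = false by simp [cls, h]]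
    simp only [Bool.false_eq_true, if_false]
    rw [pow_two, ← hm2, inv_neg]
    ring

end Hyp

theorem Hyp.false (H : Hyp p q G) : False := by
  haveI := Fintype.ofFinite G
  haveI := Fintype.ofFinite (IrrCharacter G)
  haveI := Fintype.ofFinite H.P
  haveI := Fintype.ofFinite (IrrCharacter H.P)
  haveI := Fintype.ofFinite H.Q
  haveI := Fintype.ofFinite (IrrCharacter H.Q)
  haveI := Fact.mk H.qprime
  obtain ⟨φ, μ, c, Θ, hX, hmem, hcard, h2, hreal, hreg, hval⟩ := H.exists_real_family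
  obtain ⟨m, hms, t, ht⟩ := H.exists_inversion hX hreal
  obtain ⟨i, -, hadm⟩ := exists_param H.qprime H.pq H.q11 hms
  have hm : m ≠ 0 := fun e => by rw [e] at hms; simp [cls] at hms
  set σ : G := H.shift ^ i.val with hσ
  have hσx : ∀ x : ZMod p, σ • x = x + i := fun x => by
    rw [hσ, H.shift_pow_smul, ZMod.natCast_val, ZMod.cast_id]
  have hσi : ∀ x : ZMod p, σ⁻¹ • x = x - i := fun x => by
    rw [inv_smul_eq_iff, hσx, sub_add_cancel]
  set h : G := σ * t * σ⁻¹ * t with hh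
  have hhx : ∀ x : ZMod p, h • x = sfun m i (tfun m x) := fun x => by
    rw [hh, mul_smul, mul_smul, mul_smul, ht x, hσi, ht, hσx, sfun]
  have hF : Nat.card (fixedBy (ZMod p) h) =
      (Finset.univ.filter fun x => sfun m i x = tfun m x).card := by
    rw [Nat.card_coe_set_eq, ← Set.ncard_coe_finset]
    congr 1
    ext x
    simp only [mem_fixedBy, hhx, Finset.coe_filter, Finset.mem_univ, true_and, Set.mem_setOf_eq]
    exact ⟨fun e => by conv_lhs => rw [← e, sfun_sfun hm], fun e => by rw [← e, sfun_sfun hm]⟩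
  have hF2 : Nat.card (fixedBy (ZMod p) (h * h)) =
      (Finset.univ.filter fun x => sfun m i (tfun m (sfun m i (tfun m x))) = x).card := by
    rw [Nat.card_coe_set_eq, ← Set.ncard_coe_finset]
    congr 1
    ext x
    simp only [mem_fixedBy, mul_smul, hhx, Finset.coe_filter, Finset.mem_univ, true_and, Set.mem_setOf_eq]
  rw [← hF, ← hF2] at hadm
  obtain ⟨hne1, hcases⟩ := hadm
  have hq : ¬ q ∣ orderOf h := fun hd => hne1 (H.card_fixedBy_of_q_dvd hd)
  have e := hval h
  rw [Finset.sum_congr rfl fun θ hθ => hreg θ hθ h hq, Finset.sum_const, nsmul_eq_mul] at e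
  obtain ⟨z, hz, hz3⟩ : ∃ z : ℤ, (Θ.card : ℂ) * (φ : G → ℂ) h = (z : ℂ) ∧ (z = -1 ∨ z = 1 ∨ z = 3) := by
    rcases hcases with e1 | e1 | e1 <;>
      [refine ⟨-1, ?_, Or.inl rfl⟩; refine ⟨1, ?_, Or.inr (Or.inl rfl)⟩; refine ⟨3, ?_, Or.inr (Or.inr rfl)⟩] <;>
      · have e2 := congrArg (fun x : ℤ => (x : ℂ)) e1
        push_cast at e2 ⊢
        linear_combination (e + e2) / 2
  have hf0 : (Θ.card : ℂ) ≠ 0 := Nat.cast_ne_zero.2 (by omega)
  obtain ⟨w, hw⟩ := CfsgLib.RankThreeInv.exists_int_of_isIntegral (q := (z : ℚ) / Θ.card) (by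
    have := IsChar.isIntegral (IsIrr.isCharacter φ.2) h
    convert this using 1
    push_cast
    rw [← hz, mul_div_cancel_left₀ _ hf0])
  have hdvd : (Θ.card : ℤ) ∣ z := ⟨w, by
    have e3 : (z : ℚ) = (Θ.card : ℚ) * w := by
      rw [← hw, mul_div_cancel₀ _ (Nat.cast_ne_zero.2 (by omega))]
    exact_mod_cast e3⟩
  have h3 : Θ.card = 3 := by
    have hle : (Θ.card : ℤ) ≤ 3 := by
      rcases hz3 with rfl | rfl | rfl
      · have := Int.le_of_dvd (by omega) (dvd_neg.1 hdvd)
        omega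
      all_goals exact (Int.le_of_dvd (by omega) hdvd).trans (by norm_num)
    rcases (show Θ.card = 2 ∨ Θ.card = 3 by omega) with e3 | e3
    · exfalso
      rw [e3] at hdvd
      rcases hz3 with rfl | rfl | rfl <;> omega
    · exact e3
  rw [h3] at hcard
  have := H.q_mod_three
  omega

end CfsgLib.Perm.ItoTwoQ
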