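import Cfsg.Agent.Lib.Perm.ItoTwoQ.Involution
import Cfsg.Agent.Lib.Perm.NeumannTwin.Transfer
import Cfsg.Agent.Lib.Perm.NeumannRank
import Cfsg.Agent.Lib.Known.GLFourTwoFacts
import Cfsg.Agent.Lib.Char.MinusFour.Quotient
import Cfsg.Agent.S0495
import Cfsg.Agent.S0678
import Cfsg.Agent.S0679

/-!
# Groups of prime degree `2q + 1` with half normalizer

* `main`: insoluble ones are quadruply transitive or are `PSL(2,5)`, `PSL(2,7)`, `PSL(2,11)`.
-/

set_option autoImplicit false
set_option linter.all false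

namespace CfsgLib.Perm.ItoTwoQ

open Equiv MulAction Subgroup Cfsg
open scoped _root_.Classical

theorem four_of_alternating {α : Type*} [Fintype α] [DecidableEq α] (h6 : 6 ≤ Fintype.card α) {K : Subgroup (Equiv.Perm α)}
    (hA : alternatingGroup α ≤ K) : IsMultiplyPretransitive K α 4 := by
  have h := alternatingGroup.isMultiplyPretransitive α
  rw [Nat.card_eq_fintype_card] at h
  have h4 : IsMultiplyPretransitive (alternatingGroup α) α 4 :=
    @isMultiplyPretransitive_of_le _ α _ _ 4 (Fintype.card α - 2) h (by omega)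
      (by rw [Nat.card_eq_fintype_card]; exact Nat.sub_le _ _) _
  refine ⟨fun u v => ?_⟩
  obtain ⟨g, hg⟩ := h4.exists_smul_eq u v
  exact ⟨⟨g, hA g.2⟩, Function.Embedding.ext fun i => DFunLike.congr_fun hg i⟩

theorem five {K : Subgroup (Equiv.Perm (ZMod 5))} (hins : ¬ Group.IsSolvable K)
    [Fact (Nat.Prime 5)] (PK : Sylow 5 K)
    (hN : Nat.card (normalizer ((PK : Subgroup K) : Set K)) = 10) :
    Nonempty (K ≃* Matrix.ProjectiveSpecialLinearGroup (Fin 2) (ZMod 5)) := by
  have hdvd : Nat.card K ∣ 120 := by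
    have h := Subgroup.card_subgroup_dvd_card K
    rwa [Nat.card_perm, Nat.card_zmod] at h
  have h60 : 60 ≤ Nat.card K := by
    by_contra hlt
    exact hins (CfsgLib.Known.GLFourTwo.isSolvable_of_card_lt_sixty _ K rfl (by omega))
  have hle := Nat.le_of_dvd (by norm_num) hdvd
  have hcases : Nat.card K = 60 ∨ Nat.card K = 120 := by
    obtain ⟨c, hc⟩ := hdvd
    have : c ≤ 2 := by
      by_contra h3
      have : Nat.card K * 3 ≤ Nat.card K * c := Nat.mul_le_mul_left _ (by omega)
      omega
    interval_cases c <;> omega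
  rcases hcases with h | h
  · have hi : K.index = 2 := by
      have h1 := K.card_mul_index
      rw [Nat.card_perm, Nat.card_zmod, h] at h1
      have : Nat.factorial 5 = 120 := rfl
      omega
    obtain rfl := Equiv.Perm.eq_alternatingGroup_of_index_eq_two hi
    haveI : IsSimpleGroup (alternatingGroup (ZMod 5)) := alternatingGroup.isSimpleGroup_five
    exact CfsgLib.Char.MinusFour.nonempty_psl h
  · exfalso
    have h1 := card_sylow_modEq_one 5 K
    have hc : Nat.card (Sylow 5 K) = (normalizer ((PK : Subgroup K) : Set K)).index :=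
      PK.card_eq_index_normalizer
    rw [hc] at h1
    have h2 := (normalizer ((PK : Subgroup K) : Set K)).card_mul_index
    rw [hN, h] at h2
    have : (normalizer ((PK : Subgroup K) : Set K)).index = 12 := by omega
    rw [this] at h1
    exact absurd h1 (by decide)

theorem main_perm {p q : ℕ} [Fact p.Prime] (K : Subgroup (Equiv.Perm (ZMod p)))
    [IsPretransitive K (ZMod p)] (hins : ¬ Group.IsSolvable K) (PK : Sylow p K)
    (hN : 2 * Nat.card (normalizer ((PK : Subgroup K) : Set K)) = p * (p - 1))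
    (hq : q.Prime) (hpq : p = 2 * q + 1)
    (hshift : Equiv.addRight (1 : ZMod p) ∈ K)
    (hscale : ∀ (s : ZMod p) (hs : s ≠ 0), IsSquare s → Equiv.mulLeft₀ s hs ∈ K) :
    IsMultiplyPretransitive K (ZMod p) 4 ∨
      ((p = 5 ∨ p = 7 ∨ p = 11) ∧ Nonempty (K ≃* Matrix.ProjectiveSpecialLinearGroup (Fin 2) (ZMod p))) := by
  have hqs : q = 2 ∨ q = 3 ∨ q = 5 ∨ 11 ≤ q := by
    have hp := (Fact.out : p.Prime)
    by_contra hno
    push Not at hno
    obtain ⟨h2, h3, h5, h11⟩ := hno
    interval_cases q <;> first | omega | (revert hq; norm_num; done) | (rw [hpq] at hp; revert hp; norm_num; done)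
  rcases hqs with rfl | rfl | rfl | h11
  · subst hpq
    refine Or.inr ⟨Or.inl rfl, five hins PK ?_⟩
    have e : (2 * 2 + 1) * (2 * 2 + 1 - 1) = 20 := rfl
    rw [e] at hN
    exact Nat.eq_of_mul_eq_mul_left two_pos hN
  · subst hpq
    by_cases hA : alternatingGroup (ZMod (2 * 3 + 1)) ≤ K
    · exact Or.inl (four_of_alternating (by rw [ZMod.card]; norm_num) hA)
    · obtain ⟨hc, hs⟩ := Cfsg.Agent.S0678.result (by rw [ZMod.card]) K hins hA
      haveI := hs
      exact Or.inr ⟨Or.inr (Or.inl rfl), Cfsg.Agent.S0495.result hc (ZMod.card _)⟩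
  · subst hpq
    by_cases hA : alternatingGroup (ZMod (2 * 5 + 1)) ≤ K
    · exact Or.inl (four_of_alternating (by rw [ZMod.card]; norm_num) hA)
    · rcases Cfsg.Agent.S0679.result (by rw [ZMod.card]) K hins hA with ⟨h, -⟩ | h
      · exact Or.inl h
      · exact Or.inr ⟨Or.inr (Or.inr rfl), h⟩
  · refine Or.inl (by_contra fun h4 => Hyp.false (p := p) (q := q) (G := K)
      ⟨hq, hpq, h11, hshift, hscale, fun P => ?_, hins, h4⟩)
    have e : (normalizer ((P : Subgroup K) : Set K)).index =
        (normalizer ((PK : Subgroup K) : Set K)).index := by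
      have hc : ∀ R : Sylow p K, Nat.card (Sylow p K) = (normalizer ((R : Subgroup K) : Set K)).index :=
        fun R => R.card_eq_index_normalizer
      rw [← hc P, ← hc PK]
    have h1 := (normalizer ((P : Subgroup K) : Set K)).card_mul_index
    have h2 := (normalizer ((PK : Subgroup K) : Set K)).card_mul_index
    rw [e, ← h2] at h1
    rw [Nat.eq_of_mul_eq_mul_right (Nat.pos_of_ne_zero Subgroup.index_ne_zero_of_finite) h1]
    rw [show p - 1 = 2 * q by omega, ← mul_assoc, mul_comm p 2, mul_assoc] at hN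
    exact Nat.eq_of_mul_eq_mul_left two_pos hN

theorem main {G Ω : Type*} [Group G] [Finite G] [MulAction G Ω] [FaithfulSMul G Ω] [Finite Ω]
    {p q : ℕ} [Fact p.Prime] (hΩ : Nat.card Ω = p) (htrans : IsPretransitive G Ω)
    (hins : ¬ Group.IsSolvable G) (P : Sylow p G)
    (hN : 2 * Nat.card (normalizer ((P : Subgroup G) : Set G)) = p * (p - 1))
    (hq : q.Prime) (hpq : p = 2 * q + 1) :
    IsMultiplyPretransitive G Ω 4 ∨
      ((p = 5 ∨ p = 7 ∨ p = 11) ∧ Nonempty (G ≃* Matrix.ProjectiveSpecialLinearGroup (Fin 2) (ZMod p))) := by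
  haveI := htrans
  obtain ⟨e, σ, hσ, hsc⟩ := CfsgLib.Perm.NeumannRank.exists_square_scalings hΩ
    (by have := hq.two_le; omega) P hN
  let f : G →* Equiv.Perm (ZMod p) := e.symm.permCongrHom.toMonoidHom.comp (MulAction.toPermHom G Ω)
  letI : MulAction G (ZMod p) := MulAction.compHom (ZMod p) f
  have hsmul : ∀ (g : G) (i : ZMod p), g • i = e.symm (g • e i) := fun g i => rfl
  haveI : FaithfulSMul G (ZMod p) := ⟨fun {a b} h => eq_of_smul_eq_smul fun x => by
    have := h (e.symm x)
    rw [hsmul, hsmul, Equiv.apply_symm_apply] at this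
    exact e.symm.injective this⟩
  have htr : IsPretransitive G (ZMod p) := ⟨fun a b => by
    obtain ⟨g, hg⟩ := exists_smul_eq G (e a) (e b)
    exact ⟨g, by rw [hsmul, hg, Equiv.symm_apply_apply]⟩⟩
  obtain ⟨K, φ, PK, hK, hKins, hφ, hKN⟩ := CfsgLib.Perm.NeumannTwin.range_data htr hins P
  haveI := hK
  rw [← hKN] at hN
  have hmem : ∀ (g : G) (π : Equiv.Perm (ZMod p)), (∀ i, g • e i = e (π i)) → π ∈ K := fun g π h => by
    have e1 : ((φ g : K) : Equiv.Perm (ZMod p)) = π := Equiv.ext fun i => by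
      have := hφ g i
      rw [hsmul, h, Equiv.symm_apply_apply] at this
      exact this
    rw [← e1]
    exact (φ g).2
  rcases main_perm K hKins PK hN hq hpq (hmem σ _ fun i => hσ i)
    (fun s hs hsq => by
      obtain ⟨g, hg⟩ := hsc s hsq hs
      exact hmem g _ fun i => hg i) with h | ⟨hp, ⟨j⟩⟩
  · refine Or.inl ⟨fun u v => ?_⟩
    obtain ⟨g, hg⟩ := (CfsgLib.Perm.NeumannTwin.isMultiplyPretransitive_of_equiv φ hφ h).exists_smul_eq
      (u.trans e.symm.toEmbedding) (v.trans e.symm.toEmbedding)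
    refine ⟨g, Function.Embedding.ext fun i => e.symm.injective ?_⟩
    have hi : g • e.symm (u i) = e.symm (v i) := DFunLike.congr_fun hg i
    rw [hsmul, Equiv.apply_symm_apply] at hi
    exact hi
  · exact Or.inr ⟨hp, ⟨φ.trans j⟩⟩

end CfsgLib.Perm.ItoTwoQ
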