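import Cfsg.Agent.Lib.Perm.CentralizerRing
import Cfsg.Agent.Lib.Char.Indicator
import Mathlib.LinearAlgebra.PID

/-!
# Equivariant maps and the class functions `g ↦ tr (D ρ g)`

`coef ρ D χ` is the inner product of `g ↦ tr (D ρ g)` with `χ`.  For an equivariant idempotent `P`
it is the multiplicity of `χ` in the range, and on a constituent of multiplicity one of the range
every `D = P D P` is a scalar.
-/

set_option autoImplicit false
set_option linter.all false

open scoped ComplexConjugate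

namespace CfsgLib.Perm.ItoTwoQ

open Module CfsgLib.Char CfsgLib.Perm.CentralizerRing

universe v

variable {G : Type*} [Group G] [Fintype G] {W : Type v} [AddCommGroup W] [Module ℂ W]
  [FiniteDimensional ℂ W]

/-- Commuting with the representation. -/
def IsEnd (ρ : Representation ℂ G W) (D : Module.End ℂ W) : Prop := ∀ g, D * ρ g = ρ g * D

/-- The class function of an endomorphism. -/
noncomputable def trFun (ρ : Representation ℂ G W) (D : Module.End ℂ W) (g : G) : ℂ :=
  LinearMap.trace ℂ W (D * ρ g)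

/-- The coefficient of `χ` in the class function of `D`. -/
noncomputable def coef (ρ : Representation ℂ G W) (D : Module.End ℂ W) (χ : G → ℂ) : ℂ :=
  Cfsg.classInner (trFun ρ D) χ

variable {ρ : Representation ℂ G W}

theorem isEnd_one : IsEnd ρ (1 : Module.End ℂ W) := fun g => by rw [one_mul, mul_one]

theorem IsEnd.mul {D D' : Module.End ℂ W} (h : IsEnd ρ D) (h' : IsEnd ρ D') : IsEnd ρ (D * D') :=
  fun g => by rw [mul_assoc, h', ← mul_assoc, h, mul_assoc]

theorem IsEnd.add {D D' : Module.End ℂ W} (h : IsEnd ρ D) (h' : IsEnd ρ D') : IsEnd ρ (D + D') :=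
  fun g => by rw [add_mul, mul_add, h, h']

theorem IsEnd.sub {D D' : Module.End ℂ W} (h : IsEnd ρ D) (h' : IsEnd ρ D') : IsEnd ρ (D - D') :=
  fun g => by rw [sub_mul, mul_sub, h, h']

theorem IsEnd.smul {D : Module.End ℂ W} (h : IsEnd ρ D) (c : ℂ) : IsEnd ρ (c • D) :=
  fun g => by rw [smul_mul_assoc, mul_smul_comm, h]

theorem trFun_one : trFun ρ 1 = ρ.character := by
  funext g; rw [trFun, one_mul]; rfl

theorem trFun_add (D D' : Module.End ℂ W) : trFun ρ (D + D') = trFun ρ D + trFun ρ D' := by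
  funext g; rw [trFun, add_mul, map_add]; rfl

theorem trFun_sub (D D' : Module.End ℂ W) : trFun ρ (D - D') = trFun ρ D - trFun ρ D' := by
  funext g; rw [trFun, sub_mul, map_sub]; rfl

theorem trFun_smul (c : ℂ) (D : Module.End ℂ W) : trFun ρ (c • D) = c • trFun ρ D := by
  funext g; rw [trFun, smul_mul_assoc, map_smul]; rfl

theorem isClassFunction_trFun {D : Module.End ℂ W} (h : IsEnd ρ D) :
    Cfsg.IsClassFunction G (trFun ρ D) := by
  intro x c
  show LinearMap.trace ℂ W (D * ρ (c * x * c⁻¹)) = LinearMap.trace ℂ W (D * ρ x)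
  rw [map_mul ρ, map_mul ρ, ← mul_assoc, ← mul_assoc, h c, LinearMap.trace_mul_comm ℂ,
    ← mul_assoc, ← mul_assoc, ← map_mul ρ, inv_mul_cancel, map_one, one_mul]

theorem trFun_eq_sum [Fintype (Cfsg.IrrCharacter G)] {D : Module.End ℂ W} (h : IsEnd ρ D) (g : G) :
    trFun ρ D g = ∑ χ : Cfsg.IrrCharacter G, coef ρ D (χ : G → ℂ) * (χ : G → ℂ) g :=
  classFunction_apply_eq_sum (isClassFunction_trFun h) g

theorem trace_mul_charSum (D : Module.End ℂ W) (χ : G → ℂ) :
    LinearMap.trace ℂ W (D * charSum ρ χ) = (Nat.card G : ℂ) * coef ρ D χ := by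
  rw [coef, Cfsg.classInner, ← mul_assoc, mul_inv_cancel₀ (Nat.cast_ne_zero.2 Nat.card_pos.ne'),
    one_mul, charSum, Finset.mul_sum, map_sum]
  refine Finset.sum_congr rfl fun g _ => ?_
  rw [mul_smul_comm, map_smul, smul_eq_mul, mul_comm]
  rfl

theorem IsEnd.charSum_comm {D : Module.End ℂ W} (h : IsEnd ρ D) (χ : G → ℂ) :
    D * charSum ρ χ = charSum ρ χ * D := by
  rw [charSum, Finset.mul_sum, Finset.sum_mul]
  exact Finset.sum_congr rfl fun g _ => by rw [mul_smul_comm, smul_mul_assoc, h]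

section Idem

variable {P : Module.End ℂ W} (hP : IsEnd ρ P) (hPP : P * P = P)

/-- The range of an equivariant idempotent. -/
noncomputable def rangeRep (hP : IsEnd ρ P) : Subrepresentation ρ where
  toSubmodule := LinearMap.range P
  apply_mem_toSubmodule := fun g v hv => by
    obtain ⟨w, rfl⟩ := hv
    exact ⟨ρ g w, LinearMap.congr_fun (hP g) w⟩

include hPP in
theorem character_rangeRep : (rangeRep hP).toRepresentation.character = trFun ρ P := by
  funext g
  rw [Representation.character, trFun,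
    ← LinearMap.trace_restrict_eq_of_forall_mem (LinearMap.range P) (P * ρ g)
      (fun x => LinearMap.mem_range_self P (ρ g x))]
  show LinearMap.trace ℂ ↥(LinearMap.range P) _ = _
  congr 1
  apply LinearMap.ext
  rintro ⟨_, w, rfl⟩
  apply Subtype.ext
  show ρ g (P w) = P (ρ g (P w))
  rw [← Module.End.mul_apply P (ρ g), hP g, Module.End.mul_apply, ← Module.End.mul_apply P P, hPP]

include hP hPP in
theorem exists_nat_coef (χ : Cfsg.IrrCharacter G) : ∃ n : ℕ, coef ρ P (χ : G → ℂ) = n := by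
  rw [coef, ← character_rangeRep hP hPP]
  exact IsChar.classInner_eq_natCast (isCharacter_rep _) (IsIrr.isCharacter χ.2)

include hP hPP in
theorem isCharacter_trFun : Cfsg.IsCharacter G (trFun ρ P) := by
  rw [← character_rangeRep hP hPP]
  exact isCharacter_rep _

include hP hPP in
theorem mul_charSum_eq_zero (χ : Cfsg.IrrCharacter G) (h : coef ρ P (χ : G → ℂ) = 0) :
    P * charSum ρ (χ : G → ℂ) = 0 := by
  rw [coef, ← character_rangeRep hP hPP] at h
  have h0 := charSum_eq_zero _ χ h
  rw [hP.charSum_comm]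
  apply LinearMap.ext
  intro w
  have h1 := congrArg Subtype.val (LinearMap.congr_fun h0 ⟨P w, LinearMap.mem_range_self P w⟩)
  simp only [charSum, LinearMap.sum_apply, LinearMap.smul_apply, Submodule.coe_sum,
    Submodule.coe_smul, LinearMap.zero_apply, ZeroMemClass.coe_zero] at h1
  rw [Module.End.mul_apply, LinearMap.zero_apply, ← h1, charSum, LinearMap.sum_apply]
  exact Finset.sum_congr rfl fun g _ => rfl

include hP hPP in
/-- The scalar of a map on a constituent of multiplicity one. -/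
theorem exists_scalar {D : Module.End ℂ W} (hD : IsEnd ρ D) (hPD : P * D = D) (hDP : D * P = D)
    (χ : Cfsg.IrrCharacter G) (h : coef ρ P (χ : G → ℂ) = 1) :
    ∃ t : ℂ, D * charSum ρ (χ : G → ℂ) = t • (P * charSum ρ (χ : G → ℂ)) ∧
      coef ρ D (χ : G → ℂ) = t ∧ coef ρ (D * D) (χ : G → ℂ) = t * t := by
  have hmem : ∀ x ∈ LinearMap.range P, D x ∈ LinearMap.range P := fun x _ =>
    ⟨D x, LinearMap.congr_fun hPD x⟩
  have hE : IsEquivariant (rangeRep hP).toRepresentation (rangeRep hP).toRepresentation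
      (D.restrict hmem) := fun g => LinearMap.ext fun z => Subtype.ext (LinearMap.congr_fun (hD g) z.1)
  obtain ⟨-, t, ht⟩ := exists_smul_charSum (rangeRep hP).toRepresentation χ
    (by rw [character_rangeRep hP hPP]; exact h) hE
  have hkey : D * charSum ρ (χ : G → ℂ) = t • (P * charSum ρ (χ : G → ℂ)) := by
    apply LinearMap.ext
    intro w
    have h1 := congrArg Subtype.val (LinearMap.congr_fun ht ⟨P w, LinearMap.mem_range_self P w⟩)
    simp only [charSum, LinearMap.comp_apply, LinearMap.sum_apply, LinearMap.smul_apply,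
      map_sum, map_smul, Submodule.coe_sum, Submodule.coe_smul] at h1
    have h2 : D (charSum ρ (χ : G → ℂ) w) = D (charSum ρ (χ : G → ℂ) (P w)) := by
      rw [← Module.End.mul_apply, ← Module.End.mul_apply (charSum ρ (χ : G → ℂ)) P,
        ← hP.charSum_comm, ← Module.End.mul_apply D, ← mul_assoc, hDP]
    rw [Module.End.mul_apply, h2, LinearMap.smul_apply, hP.charSum_comm, Module.End.mul_apply]
    simp only [charSum, LinearMap.sum_apply, LinearMap.smul_apply, map_sum, map_smul]
    exact h1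
  have hN : (Nat.card G : ℂ) ≠ 0 := Nat.cast_ne_zero.2 Nat.card_pos.ne'
  have h1 : coef ρ D (χ : G → ℂ) = t := by
    refine mul_left_cancel₀ hN ?_
    rw [← trace_mul_charSum, hkey, map_smul, trace_mul_charSum, h, smul_eq_mul]
    ring
  refine ⟨t, hkey, h1, mul_left_cancel₀ hN ?_⟩
  rw [← trace_mul_charSum, mul_assoc, hkey, mul_smul_comm, ← mul_assoc, hDP, map_smul,
    trace_mul_charSum, h1, smul_eq_mul]
  ring

include hP hPP in
/-- Where the complement is absent, `P S P` acts as `S`. -/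
theorem coef_compress {S : Module.End ℂ W} (hS : IsEnd ρ S) (hSS : S * S = 1)
    (χ : Cfsg.IrrCharacter G) (h : coef ρ (1 - P) (χ : G → ℂ) = 0) :
    (∃ z : ℤ, coef ρ (P * S * P) (χ : G → ℂ) = z) ∧
      coef ρ ((P * S * P) * (P * S * P)) (χ : G → ℂ) = coef ρ P (χ : G → ℂ) := by
  set E := charSum ρ (χ : G → ℂ) with hE
  have hQ : IsEnd ρ (1 - P) := isEnd_one.sub hP
  have hQQ : (1 - P) * (1 - P) = 1 - P := by
    rw [sub_mul, one_mul, mul_sub, mul_one, hPP, sub_self, sub_zero]
  have h0 := mul_charSum_eq_zero hQ hQQ χ h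
  rw [sub_mul, one_mul, sub_eq_zero, ← hE] at h0
  have e1 : P * S * P * E = S * E := by
    rw [mul_assoc, ← h0, mul_assoc, hE, hS.charSum_comm, ← hE, ← mul_assoc, ← h0]
  have e2 : P * S * P * (P * S * P) * E = P * E := by
    rw [mul_assoc, e1, hE, hS.charSum_comm, ← hE, ← mul_assoc, e1, mul_assoc, hE, ← hS.charSum_comm,
      ← mul_assoc, hSS, one_mul]
    exact h0
  have hN : (Nat.card G : ℂ) ≠ 0 := Nat.cast_ne_zero.2 Nat.card_pos.ne'
  refine ⟨?_, mul_left_cancel₀ hN ?_⟩
  · have he : coef ρ (P * S * P) (χ : G → ℂ) = coef ρ S (χ : G → ℂ) := mul_left_cancel₀ hN (by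
      rw [← trace_mul_charSum, ← trace_mul_charSum, ← hE, e1])
    have hA : IsEnd ρ ((2 : ℂ)⁻¹ • (1 + S)) := (isEnd_one.add hS).smul _
    have hAA : ((2 : ℂ)⁻¹ • (1 + S)) * ((2 : ℂ)⁻¹ • (1 + S)) = (2 : ℂ)⁻¹ • (1 + S) := by
      rw [smul_mul_smul_comm, add_mul, one_mul, mul_add, mul_one, hSS,
        show (1 : Module.End ℂ W) + S + (S + 1) = (2 : ℂ) • (1 + S) by rw [two_smul]; abel, smul_smul]
      norm_num
    obtain ⟨a, ha⟩ := exists_nat_coef hA hAA χ
    obtain ⟨b, hb⟩ := exists_nat_coef (P := (1 : Module.End ℂ W)) isEnd_one (one_mul 1) χ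
    refine ⟨2 * a - b, ?_⟩
    rw [he]
    simp only [coef, trFun_smul, trFun_add, classInner_smul_left, classInner_add_left] at ha hb ⊢
    push_cast
    rw [← ha, ← hb]
    ring
  · rw [← trace_mul_charSum, ← trace_mul_charSum, ← hE, e2]

end Idem

end CfsgLib.Perm.ItoTwoQ
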