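import Cfsg.Agent.Lib.Perm.WielandtTwoP.Pattern

/-!
# Restrictions to a self-centralizing Sylow subgroup of prime order

For `R` of order `r` with `C(R) = R`: an irreducible character restricts to `R` either with all
nontrivial multiplicities equal, differing by at most one from the trivial one, or exceptionally,
one orbit of nontrivial characters being shifted by one; then it has a family of conjugates which
agree with it away from the `r`-singular elements.
-/

set_option autoImplicit false
set_option linter.all false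

open scoped ComplexConjugate

namespace CfsgLib.Perm.ItoTwoQ

open Cfsg CfsgLib.Char CfsgLib.Blocks CfsgLib.Blocks.PrimeSylow CfsgLib.Perm.WielandtTwoP
open scoped _root_.Classical

variable {G : Type*} [Group G] [Fintype G] {r : ℕ} [Fact r.Prime] {R : Subgroup G}

/-- The data of a self-centralizing Sylow subgroup of prime order. -/
structure SelfCentral (r : ℕ) (R : Subgroup G) : Prop where
  setup : Setup r R ⊥

theorem selfCentral_of {R : Subgroup G} (hcard : Nat.card R = r) (hnd : ¬ r ∣ R.index)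
    (hc : Subgroup.centralizer (R : Set G) = R) : SelfCentral r R := by
  obtain ⟨V, hV⟩ := exists_setup hcard hnd
  have h1 := hV.card_centralizer
  rw [hc, hcard] at h1
  have hV1 : Nat.card V = 1 :=
    (Nat.eq_of_mul_eq_mul_left (Fact.out : r.Prime).pos (by rw [mul_one]; exact h1)).symm
  rw [Subgroup.eq_bot_of_card_eq V hV1] at hV
  exact ⟨hV⟩

/-- The multiplicity of `l` in the restriction of `χ`. -/
noncomputable def amult (R : Subgroup G) [Fintype R] (χ : IrrCharacter G) (l : IrrCharacter R) : ℕ :=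
  Classical.choose (IsChar.classInner_eq_natCast (IsChar.restrict R (IsIrr.isCharacter χ.2))
    (IsIrr.isCharacter l.2))

theorem amult_spec [Fintype R] (χ : IrrCharacter G) (l : IrrCharacter R) :
    classInner (fun x : R => (χ : G → ℂ) x) (l : R → ℂ) = (amult R χ l : ℂ) :=
  Classical.choose_spec (IsChar.classInner_eq_natCast (IsChar.restrict R (IsIrr.isCharacter χ.2))
    (IsIrr.isCharacter l.2))

/-- The dimension of the fixed space. -/
noncomputable def fixDim (R : Subgroup G) [Fintype R] (χ : IrrCharacter G) : ℕ :=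
  amult R χ (trivChar R)

/-- The index of the centralizer in the normalizer. -/
noncomputable def fusionIndex (R : Subgroup G) : ℕ :=
  (Subgroup.centralizer (R : Set G)).relIndex (Subgroup.normalizer (R : Set G))

/-- All nontrivial multiplicities exceed the trivial one by `c`. -/
def IsConst (R : Subgroup G) [Fintype R] (χ : IrrCharacter G) (c : ℤ) : Prop :=
  ∀ l : IrrCharacter R, l ≠ trivChar R → (amult R χ l : ℤ) = fixDim R χ + c

/-- One orbit is shifted by `c`. -/
def IsExc (R : Subgroup G) [Fintype R] (χ : IrrCharacter G) (μ : IrrCharacter R) (c : ℤ) : Prop :=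
  μ ≠ trivChar R ∧ (c = 1 ∨ c = -1) ∧
    (∀ l : IrrCharacter R, l ≠ trivChar R →
      (amult R χ l : ℤ) = fixDim R χ + if InN R μ l then c else 0) ∧
    ∃ l : IrrCharacter R, l ≠ trivChar R ∧ ¬ InN R μ l

/-- The conjugate of a character by a power map. -/
noncomputable def powConj (χ : IrrCharacter G) {k : ℕ} (hk : k.Coprime (Nat.card G)) :
    IrrCharacter G :=
  ⟨_, isIrrCharacter_pow χ.2 hk⟩

theorem powConj_apply (χ : IrrCharacter G) {k : ℕ} (hk : k.Coprime (Nat.card G)) (g : G) :
    (powConj χ hk : G → ℂ) g = (χ : G → ℂ) (g ^ k) := rfl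

theorem classInner_powConj {f : G → ℂ} (χ : IrrCharacter G) {k : ℕ} (hk : k.Coprime (Nat.card G))
    (hf : ∀ g, f (g ^ k) = f g) :
    classInner f (powConj χ hk : G → ℂ) = classInner f (χ : G → ℂ) := by
  simp only [classInner]
  congr 1
  refine Fintype.sum_equiv (powCoprime hk.symm) _ _ fun g => ?_
  rw [powConj_apply]
  show f g * _ = f (g ^ k) * conj ((χ : G → ℂ) (g ^ k))
  rw [hf]

namespace SelfCentral

variable (h : SelfCentral r R) [Fintype R]
include h

theorem card_bot : Nat.card (⊥ : Subgroup G) ≤ 2 := by simp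

theorem amult_eq [Fintype (⊥ : Subgroup G)] [Fintype (IrrCharacter (⊥ : Subgroup G))]
    (χ : IrrCharacter G) (l : IrrCharacter R) : amult R χ l = h.setup.aMult χ l := by
  apply Nat.cast_injective (R := ℂ)
  rw [← amult_spec, ← h.setup.aMult_spec]

theorem card : Nat.card R = r := h.setup.card

theorem centralizer : Subgroup.centralizer (R : Set G) = R := by
  have h1 := h.setup.card_centralizer
  rw [Subgroup.card_bot, mul_one] at h1
  exact (Subgroup.eq_of_le_of_card_ge h.setup.le_centralizer (by rw [h1, h.card])).symm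

theorem lchar_one (l : IrrCharacter R) : (l : R → ℂ) 1 = 1 := h.setup.lchar_one l

theorem exists_singular {g : G} (hg : r ∣ orderOf g) : ∃ x ∈ R, x ≠ 1 ∧ IsConj g x := by
  obtain ⟨x, hx, hx1, v, hv, hc⟩ := h.setup.exists_singular hg
  rw [Subgroup.mem_bot.1 hv, mul_one] at hc
  exact ⟨x, hx, hx1, hc⟩

theorem inN_refl (μ : IrrCharacter R) : InN R μ μ := by
  refine ⟨1, one_mem _, funext fun x => ?_⟩
  rw [h.setup.cjFunP_apply _ (one_mem _)]
  congr 1
  simp

variable [Fintype (IrrCharacter R)]

theorem card_lchar : Fintype.card (IrrCharacter R) = r := by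
  rw [← Nat.card_eq_fintype_card]
  haveI := Fintype.ofFinite (⊥ : Subgroup G)
  haveI := Fintype.ofFinite (IrrCharacter G)
  exact h.setup.card_lchar

theorem card_nontriv : ((Finset.univ : Finset (IrrCharacter R)).erase (trivChar R)).card = r - 1 := by
  rw [Finset.card_erase_of_mem (Finset.mem_univ _), Finset.card_univ, h.card_lchar]

theorem sum_amult (χ : IrrCharacter G) :
    ∑ l : IrrCharacter R, amult R χ l = charDegree (χ : G → ℂ) := by
  haveI := Fintype.ofFinite (⊥ : Subgroup G)
  haveI := Fintype.ofFinite (IrrCharacter (⊥ : Subgroup G))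
  simp only [h.amult_eq]
  exact h.setup.sum_aMult χ

theorem apply_eq_sum (χ : IrrCharacter G) (x : R) :
    (χ : G → ℂ) x = ∑ l : IrrCharacter R, (amult R χ l : ℂ) * (l : R → ℂ) x := by
  haveI := Fintype.ofFinite (⊥ : Subgroup G)
  haveI := Fintype.ofFinite (IrrCharacter (⊥ : Subgroup G))
  simp only [h.amult_eq]
  exact h.setup.apply_eq_sum_aMult χ x

theorem dichotomy (χ : IrrCharacter G) :
    (∃ c : ℤ, (c = 0 ∨ c = 1 ∨ c = -1) ∧ IsConst R χ c) ∨ ∃ μ c, IsExc R χ μ c := by
  haveI := Fintype.ofFinite (⊥ : Subgroup G)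
  haveI := Fintype.ofFinite (IrrCharacter (⊥ : Subgroup G))
  haveI := Fintype.ofFinite (IrrCharacter G)
  obtain ⟨M, hM⟩ := CfsgLib.ZStar.exists_isPModular (p := r) (Fact.out : r.Prime)
  haveI : M.IsPrime := hM.2.1.isPrime
  obtain ⟨μ, hμ, c, d, hcd, hp⟩ := pattern h.setup h.card_bot hM χ
  have hp' : ∀ l : IrrCharacter R, l ≠ trivChar R →
      (amult R χ l : ℤ) = fixDim R χ + if InN R μ l then c else d := fun l hl => by
    rw [fixDim, h.amult_eq, h.amult_eq]; exact hp l hl
  by_cases hall : ∀ l : IrrCharacter R, l ≠ trivChar R → InN R μ l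
  · refine Or.inl ⟨c, ?_, fun l hl => by rw [hp' l hl, if_pos (hall l hl)]⟩
    rcases hcd with ⟨rfl, -⟩ | ⟨rfl | rfl, -⟩ <;> simp
  push Not at hall
  rcases hcd with ⟨rfl, rfl⟩ | ⟨hc, rfl | rfl⟩
  · exact Or.inl ⟨0, Or.inl rfl, fun l hl => by rw [hp' l hl, ite_self]⟩
  · exact Or.inl ⟨d, Or.inr hc, fun l hl => by rw [hp' l hl, ite_self]⟩
  · exact Or.inr ⟨μ, c, hμ, hc, hp', hall⟩

theorem degree_const {χ : IrrCharacter G} {c : ℤ} (hc : IsConst R χ c) :
    (charDegree (χ : G → ℂ) : ℤ) = r * fixDim R χ + ((r : ℤ) - 1) * c := by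
  rw [← h.sum_amult χ, Nat.cast_sum, ← Finset.add_sum_erase _ _ (Finset.mem_univ (trivChar R)),
    Finset.sum_congr rfl fun l hl => hc l (Finset.ne_of_mem_erase hl), Finset.sum_const,
    h.card_nontriv, nsmul_eq_mul, Nat.cast_sub (Fact.out : r.Prime).one_le, Nat.cast_one]
  unfold fixDim
  ring

theorem value_const {χ : IrrCharacter G} {c : ℤ} (hc : IsConst R χ c) {x : R} (hx : x ≠ 1) :
    (χ : G → ℂ) x = -(c : ℂ) := by
  have hall : ∑ l : IrrCharacter R, (l : R → ℂ) x = 0 := by
    rw [← sum_degree_mul_apply_of_ne_one hx]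
    exact Finset.sum_congr rfl fun l _ => by rw [h.lchar_one l, one_mul]
  rw [h.apply_eq_sum]
  have e : ∀ l : IrrCharacter R, (amult R χ l : ℂ) * (l : R → ℂ) x =
      ((fixDim R χ : ℂ) + c) * (l : R → ℂ) x - if l = trivChar R then (c : ℂ) else 0 := by
    intro l
    split_ifs with hl
    · subst hl
      rw [trivChar_apply]
      show (fixDim R χ : ℂ) * 1 = _
      ring
    · rw [show (amult R χ l : ℂ) = ((amult R χ l : ℤ) : ℂ) by simp, hc l hl]
      push_cast
      ring
  rw [Finset.sum_congr rfl fun l _ => e l, Finset.sum_sub_distrib, ← Finset.mul_sum, hall,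
    Finset.sum_ite_eq' Finset.univ (trivChar R), if_pos (Finset.mem_univ _)]
  ring

theorem card_orbit {μ : IrrCharacter R} (hμ : μ ≠ trivChar R) :
    (Finset.univ.filter fun l => InN R μ l).card = fusionIndex R := by
  haveI := Fintype.ofFinite (⊥ : Subgroup G)
  haveI := Fintype.ofFinite (IrrCharacter (⊥ : Subgroup G))
  exact h.setup.card_inN μ hμ

theorem ne_triv_of_inN {μ l : IrrCharacter R} (hμ : μ ≠ trivChar R) (hl : InN R μ l) :
    l ≠ trivChar R :=
  h.setup.ne_trivChar_of_rel _
    ((rel_iff h.setup h.card_bot ((trivChar (⊥ : Subgroup G) : IrrCharacter (⊥ : Subgroup G)) : _ → ℂ)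
      l μ).2 hl) hμ

theorem inN_congr {l μ : IrrCharacter R} (hl : InN R μ l) (z : IrrCharacter R) :
    InN R μ z ↔ InN R l z := by
  have heq := h.setup.rel_equiv
    ((trivChar (⊥ : Subgroup G) : IrrCharacter (⊥ : Subgroup G)) : (⊥ : Subgroup G) → ℂ)
  simp only [← rel_iff h.setup h.card_bot
    ((trivChar (⊥ : Subgroup G) : IrrCharacter (⊥ : Subgroup G)) : (⊥ : Subgroup G) → ℂ)] at hl ⊢
  exact ⟨fun hz => heq.trans hz (heq.symm hl), fun hz => heq.trans hz hl⟩

theorem degree_exc {χ : IrrCharacter G} {μ : IrrCharacter R} {c : ℤ} (he : IsExc R χ μ c) :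
    (charDegree (χ : G → ℂ) : ℤ) = r * fixDim R χ + fusionIndex R * c := by
  obtain ⟨hμ, -, hv, -⟩ := he
  have e1 : ∑ l ∈ Finset.univ.erase (trivChar R), (if InN R μ l then c else (0 : ℤ)) =
      fusionIndex R * c := by
    rw [← h.card_orbit hμ, ← Finset.sum_filter,
      show (Finset.univ.erase (trivChar R)).filter (fun l => InN R μ l) =
        Finset.univ.filter fun l => InN R μ l from ?_, Finset.sum_const, nsmul_eq_mul]
    ext l
    simp only [Finset.mem_filter, Finset.mem_erase, Finset.mem_univ, and_true, true_and]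
    exact ⟨fun hl => hl.2, fun hl => ⟨h.ne_triv_of_inN hμ hl, hl⟩⟩
  rw [← h.sum_amult χ, Nat.cast_sum, ← Finset.add_sum_erase _ _ (Finset.mem_univ (trivChar R)),
    Finset.sum_congr rfl fun l hl => hv l (Finset.ne_of_mem_erase hl), Finset.sum_add_distrib, e1,
    Finset.sum_const, h.card_nontriv, nsmul_eq_mul, Nat.cast_sub (Fact.out : r.Prime).one_le,
    Nat.cast_one]
  unfold fixDim
  ring

theorem amult_powConj (χ : IrrCharacter G) {k : ℕ} (hk : k.Coprime r)
    (hkG : k.Coprime (Nat.card G)) (l : IrrCharacter R) :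
    amult R (powConj χ hkG) (h.setup.powChar hk l) = amult R χ l := by
  haveI := Fintype.ofFinite (⊥ : Subgroup G)
  haveI := Fintype.ofFinite (IrrCharacter (⊥ : Subgroup G))
  haveI := Fintype.ofFinite (IrrCharacter G)
  rw [h.amult_eq, h.amult_eq]
  exact aMult_powChar h.setup χ hk hkG l

theorem fixDim_powConj (χ : IrrCharacter G) {k : ℕ} (hk : k.Coprime r)
    (hkG : k.Coprime (Nat.card G)) : fixDim R (powConj χ hkG) = fixDim R χ := by
  have e := h.amult_powConj χ hk hkG (trivChar R)
  rwa [show h.setup.powChar hk (trivChar R) = trivChar R from irr_ext fun x => by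
    rw [h.setup.powChar_apply, trivChar_apply, trivChar_apply]] at e

/-- The conjugates of an exceptional character. -/
theorem exists_family [Fintype (IrrCharacter G)] {χ : IrrCharacter G} {μ : IrrCharacter R} {c : ℤ}
    (he : IsExc R χ μ c) :
    ∃ Θ : Finset (IrrCharacter G), χ ∈ Θ ∧ Θ.card * fusionIndex R = r - 1 ∧ 2 ≤ Θ.card ∧
      ∀ θ ∈ Θ, (θ ≠ χ → ∃ x ∈ R, (θ : G → ℂ) x ≠ (χ : G → ℂ) x) ∧
        ∃ k, ∃ hk : k.Coprime (Nat.card G), k ≡ 1 [MOD R.index] ∧ θ = powConj χ hk ∧
          fixDim R θ = fixDim R χ ∧ ∀ g, ¬ r ∣ orderOf g → (θ : G → ℂ) g = (χ : G → ℂ) g := by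
  obtain ⟨hμ, hc, hv, l₀, hl₀, hl₀'⟩ := he
  haveI : Nonempty (IrrCharacter G) := ⟨χ⟩
  haveI := Fintype.ofFinite (⊥ : Subgroup G)
  haveI := Fintype.ofFinite (IrrCharacter (⊥ : Subgroup G))
  set orb : IrrCharacter R → Finset (IrrCharacter R) :=
    fun l => Finset.univ.filter fun z => InN R l z with horb
  set X := (Finset.univ : Finset (IrrCharacter R)).erase (trivChar R) with hX
  have hr := (Fact.out : r.Prime)
  have horb_eq : ∀ {l z}, InN R l z → orb z = orb l := fun {l z} hz => by
    ext w
    simp only [orb, Finset.mem_filter, Finset.mem_univ, true_and]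
    exact (h.inN_congr hz w).symm
  have hcount : (X.image orb).card * fusionIndex R = r - 1 := by
    rw [← h.card_nontriv, ← hX, Finset.card_eq_sum_card_image orb X, Finset.sum_const_nat]
    intro O hO
    obtain ⟨l, hl, rfl⟩ := Finset.mem_image.1 hO
    rw [← h.card_orbit (Finset.ne_of_mem_erase hl)]
    congr 1
    ext z
    simp only [Finset.mem_filter, Finset.mem_univ, true_and, X, Finset.mem_erase, and_true]
    constructor
    · rintro ⟨-, e⟩
      have : z ∈ orb z := Finset.mem_filter.2 ⟨Finset.mem_univ _, h.inN_refl z⟩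
      rw [e] at this
      exact (Finset.mem_filter.1 this).2
    · exact fun hz => ⟨h.ne_triv_of_inN (Finset.ne_of_mem_erase hl) hz, horb_eq hz⟩
  have hn : (R.index).Coprime r := (hr.coprime_iff_not_dvd.2 h.setup.not_dvd).symm
  have hex : ∀ O ∈ X.image orb, ∃ θ : IrrCharacter G, (∀ l : IrrCharacter R, l ≠ trivChar R →
      (amult R θ l : ℤ) = fixDim R χ + if l ∈ O then c else 0) ∧
      ∃ k, ∃ hk : k.Coprime (Nat.card G), k ≡ 1 [MOD R.index] ∧ θ = powConj χ hk ∧
          fixDim R θ = fixDim R χ ∧ ∀ g, ¬ r ∣ orderOf g → (θ : G → ℂ) g = (χ : G → ℂ) g := by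
    intro O hO
    obtain ⟨ν, hν, rfl⟩ := Finset.mem_image.1 hO
    obtain ⟨k, hk, hk1, hkν⟩ := h.setup.exists_powChar hn hμ (Finset.ne_of_mem_erase hν)
    have hkG := coprime_card h.setup hk hk1
    refine ⟨powConj χ hkG, fun l hl => ?_, k, hkG, hk1, rfl, h.fixDim_powConj χ hk hkG, fun g hg => ?_⟩
    · obtain ⟨l', rfl⟩ := (Finite.injective_iff_surjective.1 (h.setup.powChar_injective hk)) l
      have hl' : l' ≠ trivChar R := fun e => hl (by
        rw [e]; exact irr_ext fun x => by rw [h.setup.powChar_apply, trivChar_apply, trivChar_apply])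
      rw [h.amult_powConj χ hk hkG, hv l' hl']
      congr 1
      refine if_congr ?_ rfl rfl
      have himg := powChar_orbit h.setup hk μ hμ
      rw [hkν] at himg
      simp only [orb]
      rw [← himg, Finset.mem_image]
      constructor
      · exact fun hin => ⟨l', Finset.mem_filter.2 ⟨Finset.mem_univ _, hin⟩, rfl⟩
      · rintro ⟨z, hz, e⟩
        rw [h.setup.powChar_injective hk e] at hz
        exact (Finset.mem_filter.1 hz).2
    · rw [powConj_apply, h.setup.pow_regular hk1 hg]
  choose! θ hθ hθ' using hex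
  have hχO : orb μ ∈ X.image orb :=
    Finset.mem_image.2 ⟨μ, Finset.mem_erase.2 ⟨hμ, Finset.mem_univ _⟩, rfl⟩
  have hc0 : c ≠ 0 := by rcases hc with rfl | rfl <;> omega
  have hdet : ∀ O ∈ X.image orb, ∀ O' ∈ X.image orb, (∀ x : R, (θ O : G → ℂ) x = (θ O' : G → ℂ) x) →
      O = O' := by
    intro O hO O' hO' e
    have hne : ∀ O ∈ X.image orb, ∀ l ∈ O, l ≠ trivChar R := by
      intro O hO l hl
      obtain ⟨ν, hν, rfl⟩ := Finset.mem_image.1 hO
      exact h.ne_triv_of_inN (Finset.ne_of_mem_erase hν) (Finset.mem_filter.1 hl).2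
    have ea : ∀ l, amult R (θ O) l = amult R (θ O') l := fun l => by
      apply Nat.cast_injective (R := ℂ)
      rw [← amult_spec, ← amult_spec, funext e]
    ext l
    by_cases hl : l = trivChar R
    · exact iff_of_false (fun m => hne O hO l m hl) (fun m => hne O' hO' l m hl)
    · have e1 := hθ O hO l hl
      have e2 := hθ O' hO' l hl
      rw [ea] at e1
      rw [e1] at e2
      split_ifs at e2 <;> simp_all
  have hχeq : θ (orb μ) = χ := by
    obtain ⟨k, hk, hk1, e, -, hreg⟩ := hθ' _ hχO
    refine irr_ext fun g => ?_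
    by_cases hg : r ∣ orderOf g
    · obtain ⟨x, hx, hx1, hgx⟩ := h.exists_singular hg
      obtain ⟨w, rfl⟩ := isConj_iff.1 hgx
      rw [← IsIrr.isClassFunction (θ (orb μ)).2 g w, ← IsIrr.isClassFunction χ.2 g w,
        show w * g * w⁻¹ = ((⟨_, hx⟩ : R) : G) from rfl, h.apply_eq_sum, h.apply_eq_sum]
      refine Finset.sum_congr rfl fun l _ => ?_
      congr 2
      rcases eq_or_ne l (trivChar R) with rfl | hl
      · exact (hθ' _ hχO).choose_spec.choose_spec.2.2.1
      · have e1 := hθ _ hχO l hl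
        have e2 := hv l hl
        simp only [orb, Finset.mem_filter, Finset.mem_univ, true_and] at e1
        exact_mod_cast e1.trans e2.symm
    · exact hreg g hg
  have hcardΘ : ((X.image orb).image θ).card = (X.image orb).card :=
    Finset.card_image_of_injOn fun O hO O' hO' e => hdet O hO O' hO' fun x => by rw [e]
  refine ⟨(X.image orb).image θ, ?_, by rw [hcardΘ, hcount], ?_, ?_⟩
  · exact hχeq ▸ Finset.mem_image.2 ⟨_, hχO, rfl⟩
  · rw [hcardΘ]
    refine Finset.one_lt_card.2 ⟨orb μ, hχO, orb l₀,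
      Finset.mem_image.2 ⟨l₀, Finset.mem_erase.2 ⟨hl₀, Finset.mem_univ _⟩, rfl⟩, fun e => hl₀' ?_⟩
    have : l₀ ∈ orb l₀ := Finset.mem_filter.2 ⟨Finset.mem_univ _, h.inN_refl l₀⟩
    rw [← e] at this
    exact (Finset.mem_filter.1 this).2
  · intro t ht
    obtain ⟨O, hO, rfl⟩ := Finset.mem_image.1 ht
    refine ⟨fun hne => ?_, hθ' O hO⟩
    by_contra hall
    push Not at hall
    refine hne ?_
    rw [hdet O hO (orb μ) hχO fun x => by rw [hχeq]; exact hall x x.2, hχeq]

/-- Multiplicities of a class function with constant value on the nontrivial elements. -/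
theorem classInner_of_const {f : G → ℂ} {v : ℂ} (hv : ∀ x : R, x ≠ 1 → f x = v) (l : IrrCharacter R) :
    classInner (fun x : R => f x) (l : R → ℂ) =
      (f 1 - v) / (r : ℂ) + if l = trivChar R then v else 0 := by
  have e : (fun x : R => f x) = fun x : R => v * (trivChar R : R → ℂ) x +
      if x = 1 then f 1 - v else 0 := by
    funext x
    rw [trivChar_apply]
    split_ifs with hx
    · subst hx; rw [Subgroup.coe_one]; ring
    · rw [hv x hx]; ring
  have e1 : classInner (fun x : R => v * (trivChar R : R → ℂ) x) (l : R → ℂ) =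
      if l = trivChar R then v else 0 := by
    have := classInner_irr (trivChar R) l
    rw [show (fun x : R => v * (trivChar R : R → ℂ) x) = v • ((trivChar R : IrrCharacter R) : R → ℂ)
      from rfl, classInner_smul_left, this]
    rcases eq_or_ne l (trivChar R) with rfl | hl
    · simp
    · rw [if_neg (Ne.symm hl), if_neg hl, mul_zero]
  rw [e, show (fun x : R => v * (trivChar R : R → ℂ) x + if x = 1 then f 1 - v else 0) =
    (fun x : R => v * (trivChar R : R → ℂ) x) + fun x : R => if x = 1 then f 1 - v else 0 from rfl,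
    classInner_add_left, e1, add_comm]
  congr 1
  simp only [classInner, ite_mul, zero_mul, Finset.sum_ite_eq', Finset.mem_univ, if_true,
    h.lchar_one, map_one, mul_one, h.card]
  ring

/-- Multiplicities add up over the constituents. -/
theorem sum_mult_amult [Fintype (IrrCharacter G)] {f : G → ℂ} {M : IrrCharacter G → ℕ}
    (hf : f = ∑ χ, (M χ : ℂ) • (χ : G → ℂ)) (l : IrrCharacter R) :
    classInner (fun x : R => f x) (l : R → ℂ) = ((∑ χ, M χ * amult R χ l : ℕ) : ℂ) := by
  have e : (fun x : R => f x) = ∑ χ : IrrCharacter G, (M χ : ℂ) • fun x : R => (χ : G → ℂ) x := by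
    funext x
    simp [hf, Finset.sum_apply]
  rw [e, classInner_sum_left, Nat.cast_sum]
  exact Finset.sum_congr rfl fun χ _ => by rw [classInner_smul_left, amult_spec, Nat.cast_mul]

end SelfCentral

end CfsgLib.Perm.ItoTwoQ
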