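import Cfsg.Agent.Lib.Perm.ItoTwoQ.Pairs
import Cfsg.Agent.Lib.Perm.ItoTwoQ.Restrict
import Cfsg.Agent.Lib.Char.Induced
import Cfsg.Agent.Lib.Blocks.Union

/-!
# Constituents of the projection in the pair module

* `exists_mult`: the multiplicities, their totals, and the degree bound from the point stabilizer.
* `complement_pos`: a constituent with fixed vectors of the Sylow subgroup is not inside the range.
-/

set_option autoImplicit false
set_option linter.all false

open scoped ComplexConjugate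

namespace CfsgLib.Perm.ItoTwoQ

open Equiv MulAction Subgroup Cfsg CfsgLib.Char CfsgLib.Perm.CentralizerRing
open scoped _root_.Classical

variable {p q a : ℕ} [Fact p.Prime] {G : Subgroup (Equiv.Perm (ZMod p))}
  {T : ZMod p → ZMod p → ZMod p → Prop}

theorem sum_mult_degree {Γ : Type*} [Group Γ] [Fintype Γ] [Fintype (IrrCharacter Γ)]
    {f : Γ → ℂ} {m : IrrCharacter Γ → ℕ} (hf : f = ∑ χ : IrrCharacter Γ, (m χ : ℂ) • (χ : Γ → ℂ)) :
    f 1 = ((∑ χ, m χ * charDegree (χ : Γ → ℂ) : ℕ) : ℂ) := by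
  rw [hf, Finset.sum_apply, Nat.cast_sum]
  exact Finset.sum_congr rfl fun χ _ => by
    rw [Pi.smul_apply, smul_eq_mul, CfsgLib.Blocks.apply_one_eq_charDegree, Nat.cast_mul]

theorem exists_mult_of_isCharacter {Γ : Type*} [Group Γ] [Fintype Γ] [Fintype (IrrCharacter Γ)]
    {f : Γ → ℂ} (hf : IsCharacter Γ f) :
    ∃ m : IrrCharacter Γ → ℕ, f = (∑ χ : IrrCharacter Γ, (m χ : ℂ) • (χ : Γ → ℂ)) ∧
      ∀ χ : IrrCharacter Γ, classInner f (χ : Γ → ℂ) = (m χ : ℂ) := by
  obtain ⟨m, hm⟩ := IsChar.exists_sum hf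
  exact ⟨m, hm, fun χ => by rw [hm, classInner_sum_irr]⟩

namespace Hyp

variable (H : Hyp p q G)
include H

/-- The reduced permutation character is irreducible. -/
theorem isIrr_perm_sub_one :
    IsIrrCharacter G (fun g : G => (Nat.card (fixedBy (ZMod p) g) : ℂ) - 1) := by
  haveI := H.trans
  exact (isIrrCharacter_permChar_sub_one_iff (G := G) (ZMod p)
    (by rw [Nat.card_zmod]; exact (Fact.out : p.Prime).two_le)).2 H.two

/-- The nontrivial constituent of the permutation character. -/
noncomputable def perm₁ : IrrCharacter G := ⟨_, H.isIrr_perm_sub_one⟩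

theorem perm₁_apply (g : G) : (H.perm₁ : G → ℂ) g = (Nat.card (fixedBy (ZMod p) g) : ℂ) - 1 := rfl

theorem perm₁_one : (H.perm₁ : G → ℂ) 1 = 2 * q := by
  rw [H.perm₁_apply, show fixedBy (ZMod p) (1 : G) = Set.univ from Set.ext fun x => by simp,
    Nat.card_coe_set_eq, Set.ncard_univ, Nat.card_zmod, show (p : ℂ) = 2 * q + 1 by rw [H.pq]; push_cast; rfl]
  ring

theorem perm₁_ne_triv : H.perm₁ ≠ trivChar G := fun e => by
  have h := H.perm₁_one
  rw [e, trivChar_apply] at h
  have : 1 = 2 * q := by exact_mod_cast h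
  omega

/-- The trivial multiplicity on the stabilizer singles out the two constituents. -/
theorem eq_of_stabilizer_triv [Fintype G] [Fintype (stabilizer G (0 : ZMod p))] (φ : IrrCharacter G)
    (h : classInner (fun h : stabilizer G (0 : ZMod p) => (φ : G → ℂ) h)
      (trivChar (stabilizer G (0 : ZMod p)) : stabilizer G (0 : ZMod p) → ℂ) ≠ 0) :
    φ = trivChar G ∨ φ = H.perm₁ := by
  haveI := H.trans
  by_contra hno
  push Not at hno
  refine h ?_
  have e := classInner_fixSum (G := G) (X := ZMod p) (0 : ZMod p) (f := fun _ _ => (1 : ℂ))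
    (fun _ _ _ => rfl) (IsIrr.isClassFunction φ.2)
  have e2 : (fun g : G => ∑ x : ZMod p, if g • x = x then (1 : ℂ) else 0) =
      ((trivChar G : IrrCharacter G) : G → ℂ) + (H.perm₁ : G → ℂ) := funext fun g => by
    rw [Pi.add_apply, trivChar_apply, H.perm₁_apply, Finset.sum_ite, Finset.sum_const,
      Finset.sum_const_zero, add_zero, nsmul_one, Nat.card_coe_set_eq,
      ← Set.ncard_coe_finset, add_sub_cancel]
    congr 3
    ext x
    simp [MulAction.mem_fixedBy]
  have e := (congrArg (fun F => classInner F (φ : G → ℂ)) (e2.symm.trans (funext fun g => Finset.sum_congr rfl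
    fun x _ => by split_ifs <;> rfl))).trans e
  rw [classInner_add_left, classInner_irr, classInner_irr, if_neg (Ne.symm hno.1),
    if_neg (Ne.symm hno.2), add_zero] at e
  rw [← classInner_conj_symm]
  exact (congrArg conj e.symm).trans (map_zero _)

end Hyp

namespace Graph

variable (gr : Graph p q a G T) (H : Hyp p q G)

include gr H

section

variable [Fintype G] [Fintype (stabilizer G (0 : ZMod p))]

theorem coef_proj (ψ : IrrCharacter (stabilizer G (0 : ZMod p)))
    (hψ : ∀ h : stabilizer G (0 : ZMod p), (2 * (a : ℂ) + 1) * (ψ : _ → ℂ) h =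
      (a : ℂ) * ((Nat.card (fixedBy (ZMod p) (h : G)) : ℂ) - 1) -
        ((Finset.univ.filter fun x => T 0 x ((h : G) • x)).card : ℂ) + 2 * (a : ℂ) ^ 2)
    {φ : G → ℂ} (hφ : IsClassFunction G φ) :
    coef (Cfsg.permRep ℂ G (OPair p)) (proj T a q) φ =
      classInner (ψ : _ → ℂ) (fun h : stabilizer G (0 : ZMod p) => φ h) := by
  haveI := H.trans
  have hinv : ∀ (c g : G) (x : ZMod p),
      ∑ y ∈ Finset.univ.erase (c • x), (kerQ T a q (c • x) y ((c * g * c⁻¹) • y) : ℂ) =
        ∑ y ∈ Finset.univ.erase x, (kerQ T a q x y (g • y) : ℂ) := by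
    intro c g x
    refine (Finset.sum_nbij' (fun y => c • y) (fun y => c⁻¹ • y) ?_ ?_ (fun y _ => inv_smul_smul c y)
      (fun y _ => smul_inv_smul c y) fun y _ => ?_).symm
    · intro y hy
      simpa using hy
    · intro y hy
      simpa [inv_smul_eq_iff] using hy
    · rw [mul_smul, mul_smul, inv_smul_smul, gr.kerQ_smul]
  rw [coef]
  refine Eq.trans (congrArg (fun F => classInner F φ) (funext fun g => ?_))
    ((classInner_fixSum (0 : ZMod p)
      (f := fun x g => ∑ y ∈ Finset.univ.erase x, (kerQ T a q x y (g • y) : ℂ)) hinv hφ).trans ?_)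
  · rw [gr.trFun_proj H]
    exact Finset.sum_congr rfl fun x _ => by split_ifs <;> rfl
  congr 1
  funext h
  exact gr.sum_ker_smul H h (hψ h)

theorem coef_one {ψ₁ ψ₂ : IrrCharacter (stabilizer G (0 : ZMod p))}
    (hdec : ∀ h : stabilizer G (0 : ZMod p), (Nat.card (fixedBy (ZMod p) (h : G)) : ℂ) =
      2 + (ψ₁ : _ → ℂ) h + (ψ₂ : _ → ℂ) h) {φ : G → ℂ} (hφ : IsClassFunction G φ) :
    coef (Cfsg.permRep ℂ G (OPair p)) (1 : Module.End ℂ (OPair p → ℂ)) φ =
      classInner ((trivChar (stabilizer G (0 : ZMod p)) : IrrCharacter _) : stabilizer G (0 : ZMod p) → ℂ)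
          (fun h : stabilizer G (0 : ZMod p) => φ h) +
        classInner (ψ₁ : _ → ℂ) (fun h : stabilizer G (0 : ZMod p) => φ h) +
        classInner (ψ₂ : _ → ℂ) (fun h : stabilizer G (0 : ZMod p) => φ h) := by
  haveI := H.trans
  have e : ∀ g : G, trFun (Cfsg.permRep ℂ G (OPair p)) (1 : Module.End ℂ (OPair p → ℂ)) g =
      ∑ x : ZMod p, if g • x = x then ((Nat.card (fixedBy (ZMod p) g) : ℂ) - 1) else 0 := by
    intro g
    rw [trFun, one_mul, trace_fun' (X := OPair p) (Cfsg.permRep ℂ G (OPair p) g)]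
    refine Eq.trans (Finset.sum_congr rfl (g := fun v : OPair p =>
      if g • v.1.1 = v.1.1 then (if g • v.1.2 = v.1.2 then (1 : ℂ) else 0) else 0) fun v _ => ?_) ?_
    · refine (congrFun (permRep_single g v) v).trans ?_
      by_cases h : g • v = v
      · have h1 : g • v.1.1 = v.1.1 := congrArg (fun w : OPair p => w.1.1) h
        have h2 : g • v.1.2 = v.1.2 := congrArg (fun w : OPair p => w.1.2) h
        rw [h, if_pos h1, if_pos h2, @Pi.single_eq_same]
      · unfold Pi.single Function.update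
        rw [dif_neg (Ne.symm h), Pi.zero_apply]
        split_ifs with h1 h2
        · exact absurd (Subtype.ext (Prod.ext h1 h2) : g • v = v) h
        · rfl
        · rfl
    rw [sum_pairs fun x y => if g • x = x then (if g • y = y then (1 : ℂ) else 0) else 0]
    refine Finset.sum_congr rfl fun x _ => ?_
    by_cases h : g • x = x
    · simp only [h, if_true]
      rw [Finset.sum_erase_eq_sub (Finset.mem_univ _), if_pos h, Finset.sum_boole, Nat.card_coe_set_eq,
        ← Set.ncard_coe_finset]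
      congr 3
      ext y
      simp [MulAction.mem_fixedBy]
    · simp [h]
  rw [coef, ← classInner_add_left, ← classInner_add_left]
  refine Eq.trans (congrArg (fun F => classInner F φ) (funext fun g => ?_))
    ((classInner_fixSum (0 : ZMod p) (f := fun _ g => (Nat.card (fixedBy (ZMod p) g) : ℂ) - 1)
      (fun c g x => by rw [Hyp.card_fixedBy_of_isConj (isConj_iff.2 ⟨c, rfl⟩ : IsConj g (c * g * c⁻¹))]) hφ).trans ?_)
  · rw [e g]
    exact Finset.sum_congr rfl fun x _ => by split_ifs <;> rfl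
  congr 1
  funext h
  rw [Pi.add_apply, Pi.add_apply, trivChar_apply, hdec h]
  ring

theorem trFun_proj_one :
    trFun (Cfsg.permRep ℂ G (OPair p)) (proj T a q) 1 = (p : ℂ) * ((q : ℂ) - 1) := by
  rw [gr.trFun_proj H, Finset.sum_congr rfl fun x _ => show _ = (q : ℂ) - 1 from ?_, Finset.sum_const,
    Finset.card_univ, ZMod.card, nsmul_eq_mul]
  simp only [one_smul, if_true]
  refine mul_left_cancel₀ (gr.qC_ne H) ?_
  rw [Finset.mul_sum, Finset.sum_congr rfl fun y _ => gr.ker_diag H, Finset.sum_const, nsmul_eq_mul,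
    gr.card_erase x H.pq, gr.qC]
  ring

theorem trFun_proj_P {x : G} (hx : x ∈ H.P) (hx1 : x ≠ 1) :
    trFun (Cfsg.permRep ℂ G (OPair p)) (proj T a q) x = 0 := by
  rw [gr.trFun_proj H]
  refine Finset.sum_eq_zero fun z _ => if_neg fun e => ?_
  have h0 := H.card_fixedBy_P hx hx1
  rw [Nat.card_eq_zero] at h0
  rcases h0 with h0 | h0
  · exact h0.false ⟨z, e⟩
  · exact absurd h0 (not_infinite_iff_finite.2 inferInstance)

variable [Fintype (IrrCharacter G)]

/-- The multiplicities in the range of the projection. -/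
theorem exists_mult :
    ∃ M : IrrCharacter G → ℕ,
      (∀ φ : IrrCharacter G, coef (Cfsg.permRep ℂ G (OPair p)) (proj T a q) (φ : G → ℂ) = M φ) ∧
      M H.perm₁ = 1 ∧ M (trivChar G) = 0 ∧
      (∀ (φ : IrrCharacter G) (k : ℕ) (hk : k.Coprime (Nat.card G)), M (powConj φ hk) = M φ) ∧
      (∀ φ : IrrCharacter G, φ ≠ trivChar G → φ ≠ H.perm₁ → M φ ≠ 0 →
        q - 1 ≤ charDegree (φ : G → ℂ) ∧
        (coef (Cfsg.permRep ℂ G (OPair p)) (1 - proj T a q) (φ : G → ℂ) ≠ 0 →
          2 * q - 1 ≤ charDegree (φ : G → ℂ) ∧ charDegree (φ : G → ℂ) ≠ 2 * q)) := by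
  haveI := Fintype.ofFinite (IrrCharacter (stabilizer G (0 : ZMod p)))
  set S := stabilizer G (0 : ZMod p) with hS
  obtain ⟨ψ₁, ψ₂, hd₁, hd₂, hψ⟩ := gr.chars
  have hP := gr.isEnd_proj (G := G)
  have hPP := gr.proj_mul_proj H
  choose M hM using fun φ : IrrCharacter G => exists_nat_coef hP hPP φ
  choose n hn hn' using fun φ : IrrCharacter G =>
    exists_mult_of_isCharacter (IsChar.restrict S (IsIrr.isCharacter φ.2))
  have hnc : ∀ (φ : IrrCharacter G) (ν : IrrCharacter S),
      classInner (ν : S → ℂ) (fun h : S => (φ : G → ℂ) h) = (n φ ν : ℂ) := fun φ ν => by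
    rw [← classInner_conj_symm, hn' φ ν, Complex.conj_natCast]
  have hMn : ∀ φ : IrrCharacter G, M φ = n φ ψ₂ := fun φ => by
    have e := gr.coef_proj H ψ₂ (fun h => (hψ h).2) (IsIrr.isClassFunction φ.2)
    rw [hM, hnc] at e
    exact_mod_cast e
  have hq := H.q11
  have hψ₁t : ψ₁ ≠ trivChar S := fun e => by
    rw [e, trivChar_apply] at hd₁
    have : 1 = q := by exact_mod_cast hd₁
    omega
  have hψ₂t : ψ₂ ≠ trivChar S := fun e => by
    rw [e, trivChar_apply] at hd₂
    have : q = 2 := by exact_mod_cast (show (q : ℂ) = 2 by linear_combination -hd₂)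
    omega
  have h12 : ψ₁ ≠ ψ₂ := fun e => by
    rw [e, hd₂] at hd₁
    exact one_ne_zero (α := ℂ) (by linear_combination -hd₁)
  have hperm : (fun h : S => (H.perm₁ : G → ℂ) h) =
      ((trivChar S : IrrCharacter S) : S → ℂ) + (ψ₁ : S → ℂ) + (ψ₂ : S → ℂ) := funext fun h => by
    rw [Pi.add_apply, Pi.add_apply, trivChar_apply, H.perm₁_apply, (hψ h).1]
    ring
  refine ⟨M, hM, ?_, ?_, fun φ k hk => ?_, fun φ hφ1 hφχ hφM => ?_⟩
  · have e := hn' H.perm₁ ψ₂
    rw [hperm, classInner_add_left, classInner_add_left, classInner_irr, classInner_irr, classInner_irr,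
      if_neg (Ne.symm hψ₂t), if_neg h12, if_pos rfl] at e
    rw [hMn]
    exact_mod_cast (show (n H.perm₁ ψ₂ : ℂ) = 1 by linear_combination -e)
  · have e : (fun h : S => (trivChar G : G → ℂ) h) = ((trivChar S : IrrCharacter S) : S → ℂ) :=
      funext fun h => by rw [trivChar_apply, trivChar_apply]
    have e2 := hn' (trivChar G) ψ₂
    rw [e, classInner_irr, if_neg (Ne.symm hψ₂t)] at e2
    rw [hMn]
    exact_mod_cast e2.symm
  · have e : coef (Cfsg.permRep ℂ G (OPair p)) (proj T a q) (powConj φ hk : G → ℂ) = M φ := by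
      rw [coef, classInner_powConj φ hk fun g =>
        apply_pow_of_rat (isCharacter_trFun hP hPP) (gr.exists_rat_trFun_proj H) hk g]
      exact hM φ
    rw [hM] at e
    exact_mod_cast e
  · have hdeg := sum_mult_degree (hn φ)
    rw [Subgroup.coe_one, CfsgLib.Blocks.apply_one_eq_charDegree, Nat.cast_inj] at hdeg
    have hd1 : charDegree (ψ₁ : S → ℂ) = q := by
      rw [CfsgLib.Blocks.apply_one_eq_charDegree] at hd₁; exact_mod_cast hd₁
    have hd2 : charDegree (ψ₂ : S → ℂ) = q - 1 := by
      rw [CfsgLib.Blocks.apply_one_eq_charDegree] at hd₂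
      have : (charDegree (ψ₂ : S → ℂ) + 1 : ℕ) = q := by
        exact_mod_cast (show (charDegree (ψ₂ : S → ℂ) : ℂ) + 1 = q by linear_combination hd₂)
      omega
    have hsum : n φ ψ₁ * q + n φ ψ₂ * (q - 1) ≤ charDegree (φ : G → ℂ) := by
      have hle := Finset.sum_le_sum_of_subset (f := fun ν => n φ ν * charDegree (ν : S → ℂ))
        (Finset.subset_univ ({ψ₁, ψ₂} : Finset (IrrCharacter S)))
      rw [Finset.sum_pair h12, hd1, hd2] at hle
      rw [hdeg]
      exact hle
    have hM1 : 1 ≤ n φ ψ₂ := by rw [← hMn]; omega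
    have hlow : q - 1 ≤ n φ ψ₂ * (q - 1) := Nat.le_mul_of_pos_left _ hM1
    refine ⟨by omega, fun hN => ?_⟩
    have hnt : n φ (trivChar S) = 0 := by
      by_contra hne
      rcases H.eq_of_stabilizer_triv φ (by rw [hn' φ]; exact_mod_cast hne) with e | e
      · exact hφ1 e
      · exact hφχ e
    have hN1 : coef (Cfsg.permRep ℂ G (OPair p)) (1 - proj T a q) (φ : G → ℂ) = n φ ψ₁ := by
      rw [coef, trFun_sub, classInner_sub_left]
      show coef _ _ _ - coef _ _ _ = _
      rw [gr.coef_one H (fun h => (hψ h).1) (IsIrr.isClassFunction φ.2),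
        gr.coef_proj H ψ₂ (fun h => (hψ h).2) (IsIrr.isClassFunction φ.2), hnc, hnc, hnc, hnt]
      push_cast
      ring
    have hP1 : 1 ≤ n φ ψ₁ := by
      by_contra hlt
      exact hN (by rw [hN1, show n φ ψ₁ = 0 by omega, Nat.cast_zero])
    have hlow1 : q ≤ n φ ψ₁ * q := Nat.le_mul_of_pos_left _ hP1
    refine ⟨by omega, fun h2q => ?_⟩
    -- the remaining linear constituent
    have hone : n φ ψ₁ = 1 ∧ n φ ψ₂ = 1 := by
      constructor
      · by_contra hne
        have : 2 * q ≤ n φ ψ₁ * q := Nat.mul_le_mul_right q (by omega)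
        omega
      · by_contra hne
        have : 2 * (q - 1) ≤ n φ ψ₂ * (q - 1) := Nat.mul_le_mul_right (q - 1) (by omega)
        omega
    have hrest : ∑ ν ∈ (Finset.univ.erase ψ₁).erase ψ₂, n φ ν * charDegree (ν : S → ℂ) = 1 := by
      have e1 := Finset.add_sum_erase Finset.univ (fun ν => n φ ν * charDegree (ν : S → ℂ))
        (Finset.mem_univ ψ₁)
      have e2 := Finset.add_sum_erase (Finset.univ.erase ψ₁) (fun ν => n φ ν * charDegree (ν : S → ℂ))
        (Finset.mem_erase.2 ⟨Ne.symm h12, Finset.mem_univ ψ₂⟩)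
      rw [hone.1, hd1, one_mul] at e1
      rw [hone.2, hd2, one_mul] at e2
      rw [h2q, ← e1, ← e2] at hdeg
      omega
    obtain ⟨ν, hν, hν0⟩ := Finset.exists_ne_zero_of_sum_ne_zero (hrest.symm ▸ one_ne_zero)
    have hν1 : n φ ν * charDegree (ν : S → ℂ) = 1 := by
      have := Finset.single_le_sum (f := fun ν => n φ ν * charDegree (ν : S → ℂ))
        (fun _ _ => Nat.zero_le _) hν
      rw [hrest] at this
      omega
    obtain ⟨hn1, hdν⟩ := mul_eq_one.1 hν1
    -- induce it
    obtain ⟨k, hk, hk'⟩ := exists_mult_of_isCharacter (isCharacter_indFun (G := G) (H := S)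
      (IsIrr.isCharacter ν.2))
    have hkφ : k φ = 1 := by
      have e := hk' φ
      rw [frobenius_reciprocity S _ (IsIrr.isClassFunction φ.2), hnc, hn1] at e
      exact_mod_cast e.symm
    have hktot : ∑ ψ, k ψ * charDegree (ψ : G → ℂ) = p := by
      have e := sum_mult_degree hk
      haveI := H.trans
      rw [indFun_apply_one, CfsgLib.Blocks.apply_one_eq_charDegree, hdν, hS,
        index_stabilizer_of_transitive, Nat.card_zmod, Nat.cast_one, mul_one] at e
      exact_mod_cast e.symm
    have hkrest : ∑ ψ ∈ Finset.univ.erase φ, k ψ * charDegree (ψ : G → ℂ) = 1 := by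
      have e1 := Finset.add_sum_erase Finset.univ (fun ψ => k ψ * charDegree (ψ : G → ℂ))
        (Finset.mem_univ φ)
      rw [hktot, hkφ, one_mul, h2q] at e1
      have := H.pq
      omega
    obtain ⟨ψ, hψmem, hψ0⟩ := Finset.exists_ne_zero_of_sum_ne_zero (hkrest.symm ▸ one_ne_zero)
    have hψ1 : k ψ * charDegree (ψ : G → ℂ) = 1 := by
      have := Finset.single_le_sum (f := fun ψ => k ψ * charDegree (ψ : G → ℂ))
        (fun _ _ => Nat.zero_le _) hψmem
      rw [hkrest] at this
      omega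
    have hψt : ψ = trivChar G := H.eq_triv_of_degree_one (by
      rw [CfsgLib.Blocks.apply_one_eq_charDegree, (mul_eq_one.1 hψ1).2, Nat.cast_one])
    have e := hk' ψ
    rw [hψt,
      frobenius_reciprocity S _ (IsIrr.isClassFunction (trivChar G).2),
      show (fun h : S => (trivChar G : G → ℂ) h) = ((trivChar S : IrrCharacter S) : S → ℂ) from
        funext fun h => by rw [trivChar_apply, trivChar_apply], classInner_irr] at e
    have hνt : ν = trivChar S := by
      by_contra hne
      rw [if_neg hne, ← hψt, (mul_eq_one.1 hψ1).1, Nat.cast_one] at e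
      norm_num at e
    rw [hνt, hnt] at hn1
    exact zero_ne_one hn1

end

end Graph

end CfsgLib.Perm.ItoTwoQ
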