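import Cfsg.Agent.Lib.Perm.ItoTwoQ.PairConst

/-!
# Vectors fixed by the Sylow subgroup in the pair module

* `fixDim_eq_zero`: a constituent lying inside the range of the projection has no fixed vector.
* `sum_coef`, `psum_coef`: traces in terms of coefficients.
* `scalar_perm₁`: the scalar of the compressed reflection on the permutation constituent.
-/

set_option autoImplicit false
set_option linter.all false

open scoped ComplexConjugate

namespace CfsgLib.Perm.ItoTwoQ

open Equiv MulAction Subgroup Cfsg CfsgLib.Char CfsgLib.Perm.CentralizerRing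
open scoped _root_.Classical

section General

universe v

variable {Γ : Type*} [Group Γ] [Fintype Γ] [Fintype (IrrCharacter Γ)] {W : Type v} [AddCommGroup W]
  [Module ℂ W] [FiniteDimensional ℂ W] {ρ : Representation ℂ Γ W}

theorem sum_coef {D : Module.End ℂ W} (h : IsEnd ρ D) :
    trFun ρ D 1 = ∑ χ : IrrCharacter Γ, coef ρ D (χ : Γ → ℂ) * (charDegree (χ : Γ → ℂ) : ℂ) := by
  rw [trFun_eq_sum h]
  exact Finset.sum_congr rfl fun χ _ => by rw [CfsgLib.Blocks.apply_one_eq_charDegree]

theorem sum_apply_fixDim (R : Subgroup Γ) [Fintype R] (χ : IrrCharacter Γ) :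
    ∑ x : R, (χ : Γ → ℂ) x = (Nat.card R : ℂ) * (fixDim R χ : ℂ) := by
  have e := amult_spec (R := R) χ (trivChar R)
  rw [fixDim, ← e, classInner, ← mul_assoc, mul_inv_cancel₀ (Nat.cast_ne_zero.2 Nat.card_pos.ne'),
    one_mul]
  simp [trivChar_apply]

theorem psum_coef {D : Module.End ℂ W} (h : IsEnd ρ D) (R : Subgroup Γ) [Fintype R] :
    ∑ x : R, trFun ρ D x =
      (Nat.card R : ℂ) * ∑ χ : IrrCharacter Γ, coef ρ D (χ : Γ → ℂ) * (fixDim R χ : ℂ) := by
  rw [Finset.mul_sum, Finset.sum_congr rfl fun (x : R) (_ : x ∈ (Finset.univ : Finset R)) => trFun_eq_sum h (x : Γ), Finset.sum_comm]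
  refine Finset.sum_congr rfl fun χ _ => ?_
  rw [← Finset.mul_sum, sum_apply_fixDim]
  ring

theorem coef_eq_zero_of_proj {P D : Module.End ℂ W} (hP : IsEnd ρ P) (hPP : P * P = P)
    (hDP : D * P = D) (χ : IrrCharacter Γ) (h : coef ρ P (χ : Γ → ℂ) = 0) :
    coef ρ D (χ : Γ → ℂ) = 0 := by
  have e := trace_mul_charSum (ρ := ρ) D (χ : Γ → ℂ)
  rw [← hDP, mul_assoc, mul_charSum_eq_zero hP hPP χ h, mul_zero, map_zero] at e
  rw [← hDP]
  exact (mul_eq_zero.1 e.symm).resolve_left (Nat.cast_ne_zero.2 Nat.card_pos.ne')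

end General

variable {p q a : ℕ} [Fact p.Prime] {G : Subgroup (Equiv.Perm (ZMod p))}
  {T : ZMod p → ZMod p → ZMod p → Prop}

namespace Graph

variable (gr : Graph p q a G T) (H : Hyp p q G) [Fintype G] [Fintype (IrrCharacter G)]

include gr H

theorem fixDim_eq_zero [Fintype H.P] (φ : IrrCharacter G)
    (hM : coef (Cfsg.permRep ℂ G (OPair p)) (proj T a q) (φ : G → ℂ) ≠ 0)
    (hN : coef (Cfsg.permRep ℂ G (OPair p)) (1 - proj T a q) (φ : G → ℂ) = 0) :
    fixDim H.P φ = 0 := by
  set ρ := Cfsg.permRep ℂ G (OPair p) with hρ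
  set P2 := proj T a q with hP2
  by_contra hn
  have hP : IsEnd ρ P2 := gr.isEnd_proj
  have hPP : P2 * P2 = P2 := gr.proj_mul_proj H
  set E := charSum ρ (φ : G → ℂ) with hE
  set Av : Module.End ℂ (OPair p → ℂ) := ∑ x : H.P, ρ (x : G) with hAv
  have hEA : E * Av ≠ 0 := by
    intro h0
    have h1 := congrArg (LinearMap.trace ℂ (OPair p → ℂ)) h0
    rw [map_zero, hAv, Finset.mul_sum, map_sum] at h1
    have h2 := congrArg (fun z => (φ : G → ℂ) 1 * z) h1
    simp only [Finset.mul_sum, mul_zero] at h2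
    rw [Finset.sum_congr rfl fun (x : H.P) _ => trace_charSum_mul ρ φ (x : G), ← Finset.mul_sum,
      ← Finset.mul_sum, sum_apply_fixDim] at h2
    have hc : classInner ρ.character (φ : G → ℂ) ≠ 0 := by
      have e : classInner ρ.character (φ : G → ℂ) =
          coef ρ P2 (φ : G → ℂ) + coef ρ (1 - P2) (φ : G → ℂ) := by
        rw [coef, coef, ← classInner_add_left, ← trFun_add, add_sub_cancel, trFun_one]
      rwa [e, hN, add_zero]
    rcases mul_eq_zero.1 h2 with h | h
    · exact Nat.card_pos.ne' (Nat.cast_eq_zero.1 h)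
    rcases mul_eq_zero.1 h with h | h
    · exact hc h
    rcases mul_eq_zero.1 h with h | h
    · exact Nat.card_pos.ne' (Nat.cast_eq_zero.1 h)
    · exact hn (Nat.cast_eq_zero.1 h)
  obtain ⟨f₀, hf0⟩ : ∃ f₀, E (Av f₀) ≠ 0 := by
    by_contra hno
    push Not at hno
    exact hEA (LinearMap.ext hno)
  set f := E (Av f₀) with hf
  have hEc : ∀ g : G, ρ g * E = E * ρ g := fun g =>
    (isEquivariant_charSum ρ (IsIrr.isClassFunction φ.2) g).symm
  have hfix : ∀ x : H.P, ρ (x : G) f = f := by
    intro x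
    rw [hf, ← Module.End.mul_apply, hEc, Module.End.mul_apply]
    congr 1
    rw [← Module.End.mul_apply, hAv, Finset.mul_sum]
    congr 1
    refine Fintype.sum_equiv (Equiv.mulLeft x) _ _ fun y => ?_
    show ρ (x : G) * ρ (y : G) = ρ ((x * y : H.P) : G)
    rw [← map_mul]; rfl
  have hP2E : P2 * E = E := by
    have h0 := mul_charSum_eq_zero (isEnd_one.sub hP) (by
      rw [sub_mul, one_mul, mul_sub, mul_one, hPP, sub_self, sub_zero]) φ hN
    rw [sub_mul, one_mul, sub_eq_zero, ← hE] at h0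
    exact h0.symm
  have hSE : swapOp p * E = E * swapOp p := by
    rw [hE]; exact isEnd_swapOp.charSum_comm _
  have hPf : P2 f = f := by rw [hf, ← Module.End.mul_apply, hP2E]
  have hPSf : P2 (swapOp p f) = swapOp p f := by
    rw [hf, ← Module.End.mul_apply (swapOp p) E, hSE, Module.End.mul_apply, ← Module.End.mul_apply, hP2E]
  -- shift invariance
  have hshift : ∀ (t : ZMod p) (v : OPair p), f (H.shift ^ t.val • v) = f v := by
    intro t v
    have e := congrFun (hfix ⟨H.shift ^ t.val, pow_mem (mem_zpowers _) _⟩) (H.shift ^ t.val • v)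
    rw [← e]
    show f ((H.shift ^ t.val)⁻¹ • (H.shift ^ t.val • v)) = f v
    rw [inv_smul_smul]
  -- turn it into a function on the link of zero
  have key : ∀ Φ : OPair p → ℂ, P2 Φ = Φ →
      (∀ (t : ZMod p) (v : OPair p), Φ (H.shift ^ t.val • v) = Φ v) →
      ∀ F : ZMod p → ℂ, (∀ (z : ZMod p) (hz : (0 : ZMod p) ≠ z), Φ ⟨(0, z), hz⟩ = F z) →
      ∀ y, y ≠ 0 → ∑ z, (if T 0 y z then F z else 0) = -((a : ℂ) + 1) * F y := by
    intro Φ hΦ _ F hF
    have hrow : ∀ y, y ≠ 0 → ∑ z ∈ Finset.univ.erase 0, (kerQ T a q 0 y z : ℂ) * F z = F y := by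
      intro y hy
      have e := congrFun hΦ ⟨(0, y), Ne.symm hy⟩
      rw [hP2, gr.proj_apply H Φ _ F hF, hF y (Ne.symm hy)] at e
      exact e
    have hsum0 : ∑ y ∈ Finset.univ.erase (0 : ZMod p), F y = 0 := by
      rw [← Finset.sum_congr rfl fun y hy => hrow y (Finset.ne_of_mem_erase hy), Finset.sum_comm]
      refine Finset.sum_eq_zero fun z hz => ?_
      rw [← Finset.sum_mul, Finset.sum_congr rfl fun y _ => by rw [gr.kerQ_symm],
        gr.sum_ker H (Finset.ne_of_mem_erase hz), zero_mul]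
    intro y hy
    have e := hrow y hy
    have e2 := congrArg (fun z : ℂ => (2 * (a : ℂ) + 1) * z) e
    simp only [Finset.mul_sum] at e2
    rw [Finset.sum_congr rfl fun z _ => show _ = (a : ℂ) * (if y = z then F z else 0) -
        (if T 0 y z then F z else 0) + (a : ℂ) ^ 2 / q * F z by
        rw [← mul_assoc, gr.kerC H]; split_ifs <;> ring,
      Finset.sum_add_distrib, Finset.sum_sub_distrib, ← Finset.mul_sum, ← Finset.mul_sum, Finset.sum_ite_eq,
      if_pos (Finset.mem_erase.2 ⟨hy, Finset.mem_univ _⟩), hsum0,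
      Finset.sum_erase (s := Finset.univ) (a := (0 : ZMod p)) (by rw [if_neg]; exact fun h => (gr.irr h).2.1 rfl)]
      at e2
    linear_combination -e2
  set F : ZMod p → ℂ := fun d => if h : (0 : ZMod p) ≠ d then f ⟨(0, d), h⟩ else 0 with hF
  have hfF : ∀ v : OPair p, f v = F (v.1.2 - v.1.1) := by
    intro v
    rw [hF]; dsimp only
    rw [dif_pos (fun e => v.2 (sub_eq_zero.1 e.symm).symm), ← hshift (-v.1.1) v]
    congr 1
    refine Subtype.ext (Prod.ext ?_ ?_)
    · show H.shift ^ (-v.1.1).val • v.1.1 = 0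
      rw [H.shift_pow_smul, ZMod.natCast_zmod_val, add_neg_cancel]
    · show H.shift ^ (-v.1.1).val • v.1.2 = v.1.2 - v.1.1
      rw [H.shift_pow_smul, ZMod.natCast_zmod_val, sub_eq_add_neg]
  have hzero := H.no_eigen gr F
    (key f hPf hshift F fun z hz => by rw [hfF, sub_zero])
    (key (swapOp p f) hPSf (fun t v => by
        rw [swapOp_apply, swapOp_apply]; exact hshift t (swapPair v))
      (fun z => F (-z)) fun z hz => by
        rw [swapOp_apply, hfF]
        show F (0 - z) = F (-z)
        rw [zero_sub])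
  refine hf0 (funext fun v => ?_)
  rw [Pi.zero_apply, hfF]
  exact hzero _ (sub_ne_zero.2 (Ne.symm v.2))

/-- The scalar on the permutation constituent. -/
theorem scalar_perm₁
    (hM : coef (Cfsg.permRep ℂ G (OPair p)) (proj T a q) (H.perm₁ : G → ℂ) = 1) :
    (q : ℂ) * (2 * a + 1) * coef (Cfsg.permRep ℂ G (OPair p)) (mid T a q) (H.perm₁ : G → ℂ) =
        ((a : ℂ) + 1) * q - (a : ℂ) ^ 2 ∧
      coef (Cfsg.permRep ℂ G (OPair p)) (mid T a q * mid T a q) (H.perm₁ : G → ℂ) =
        coef (Cfsg.permRep ℂ G (OPair p)) (mid T a q) (H.perm₁ : G → ℂ) *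
          coef (Cfsg.permRep ℂ G (OPair p)) (mid T a q) (H.perm₁ : G → ℂ) := by
  haveI := H.trans
  set ρ := Cfsg.permRep ℂ G (OPair p) with hρ
  obtain ⟨t, hkey, ht, ht2⟩ := exists_scalar (gr.isEnd_proj (G := G)) (gr.proj_mul_proj H)
    gr.isEnd_mid (gr.proj_mul_mid H) (gr.mid_mul_proj H) H.perm₁ hM
  refine ⟨?_, by rw [ht2, ht]⟩
  rw [ht]
  obtain ⟨g, hg, hne⟩ := gr.exists_pullback_ne_zero H
  set σ := Cfsg.permRep ℂ G (ZMod p) with hσ
  -- on the functions of sum zero the character sum is a scalar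
  set k : ℂ := (Nat.card G : ℂ) / (2 * q) with hk
  have hq0 := gr.qC_ne H
  have hσE : charSum σ (H.perm₁ : G → ℂ) g = k • g := by
    have h1 := LinearMap.congr_fun (sum_charSum (G := G) σ) g
    rw [LinearMap.sum_apply, LinearMap.smul_apply, LinearMap.id_apply,
      Finset.sum_eq_single H.perm₁ (fun χ _ hχ => ?_) (fun h => absurd (Finset.mem_univ _) h),
      LinearMap.smul_apply, H.perm₁_one] at h1
    · rw [hk, div_eq_inv_mul, mul_smul, ← h1, smul_smul, inv_mul_cancel₀
        (mul_ne_zero two_ne_zero hq0), one_smul]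
    · rw [LinearMap.smul_apply]
      refine smul_eq_zero_of_right _ ?_
      by_cases ht' : χ = trivChar G
      · subst ht'
        funext x
        simp only [charSum, LinearMap.sum_apply, LinearMap.smul_apply, Finset.sum_apply, Pi.smul_apply,
          trivChar_apply, map_one, one_mul, smul_eq_mul, Pi.zero_apply]
        have hsw : ∀ x' : ZMod p, ∑ c : G, σ c g x' = ∑ c : G, σ c g x := by
          intro x'
          obtain ⟨d, rfl⟩ := exists_smul_eq G x x'
          refine Fintype.sum_equiv (Equiv.mulLeft d⁻¹) _ _ fun c => ?_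
          show g (c⁻¹ • d • x) = g ((d⁻¹ * c)⁻¹ • x)
          rw [mul_inv_rev, inv_inv, mul_smul]
        have h7 : ∑ x' : ZMod p, ∑ c : G, σ c g x' = 0 := by
          rw [Finset.sum_comm]
          exact Finset.sum_eq_zero fun c _ => (Equiv.sum_comp (MulAction.toPerm c⁻¹) g).trans hg
        rw [Finset.sum_congr rfl fun x' _ => hsw x', Finset.sum_const, Finset.card_univ, ZMod.card,
          nsmul_eq_mul] at h7
        exact (mul_eq_zero.1 h7).resolve_left (Nat.cast_ne_zero.2 (Fact.out : p.Prime).ne_zero)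
      · rw [charSum_eq_zero σ χ ?_, LinearMap.zero_apply]
        have e : σ.character = ((trivChar G : IrrCharacter G) : G → ℂ) + (H.perm₁ : G → ℂ) := by
          rw [hσ, permRep_character]
          funext c
          rw [Pi.add_apply, trivChar_apply, H.perm₁_apply, add_sub_cancel]
        rw [e, classInner_add_left, classInner_irr, classInner_irr, if_neg (Ne.symm ht'),
          if_neg (Ne.symm hχ), add_zero]
  -- pull back
  set j : OPair p → ℂ := fun v => g v.1.2 with hj
  have hρE : charSum ρ (H.perm₁ : G → ℂ) j = k • j := by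
    funext v
    have e := congrFun hσE v.1.2
    simp only [charSum, LinearMap.sum_apply, LinearMap.smul_apply, Finset.sum_apply, Pi.smul_apply,
      smul_eq_mul] at e ⊢
    exact e
  have h1 := LinearMap.congr_fun hkey j
  rw [Module.End.mul_apply, LinearMap.smul_apply, Module.End.mul_apply, hρE, map_smul, map_smul,
    smul_comm t k] at h1
  have hk0 : k ≠ 0 := div_ne_zero (Nat.cast_ne_zero.2 Nat.card_pos.ne') (mul_ne_zero two_ne_zero hq0)
  have h2 : mid T a q j = t • proj T a q j := smul_right_injective _ hk0 h1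
  have h3 := gr.mid_pullback H hg
  rw [← hj, h2, smul_smul] at h3
  exact smul_left_injective _ hne h3

end Graph

end CfsgLib.Perm.ItoTwoQ
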