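import Cfsg.Agent.Lib.Perm.ItoTwoQ.Weights

/-!
# The module of ordered pairs of a group with link data

* `proj`: the idempotent cutting out the small eigenspace in every link; `swapOp` the reflection.
* traces of `proj * swapOp * proj` and of its square at `1` and over the Sylow subgroup of order `p`.
-/

set_option autoImplicit false
set_option linter.all false

open scoped ComplexConjugate

namespace CfsgLib.Perm.ItoTwoQ

open Equiv MulAction Subgroup
open scoped _root_.Classical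

variable {p q a : ℕ} [Fact p.Prime] {G : Subgroup (Equiv.Perm (ZMod p))}
  {T : ZMod p → ZMod p → ZMod p → Prop}

/-- Ordered pairs of distinct points. -/
abbrev OPair (p : ℕ) := {v : ZMod p × ZMod p // v.1 ≠ v.2}

noncomputable instance instMulActionOPair : MulAction G (OPair p) where
  smul g v := ⟨(g • v.1.1, g • v.1.2), fun e => v.2 (MulAction.injective g e)⟩
  one_smul v := Subtype.ext (Prod.ext (one_smul G v.1.1) (one_smul G v.1.2))
  mul_smul g h v := Subtype.ext (Prod.ext (mul_smul g h v.1.1) (mul_smul g h v.1.2))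

theorem smul_fst (g : G) (v : OPair p) : (g • v).1.1 = g • v.1.1 := rfl

theorem smul_snd (g : G) (v : OPair p) : (g • v).1.2 = g • v.1.2 := rfl

/-- The reflection of a pair. -/
def swapPair (v : OPair p) : OPair p := ⟨(v.1.2, v.1.1), Ne.symm v.2⟩

theorem swapPair_swapPair (v : OPair p) : swapPair (swapPair v) = v := rfl

/-- The kernel of the projection in the link of a point, as a rational. -/
noncomputable def kerQ (T : ZMod p → ZMod p → ZMod p → Prop) (a q : ℕ) (x y z : ZMod p) : ℚ :=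
  ((a : ℚ) * (if y = z then 1 else 0) - (if T x y z then 1 else 0) + (a : ℚ) ^ 2 / q) / (2 * a + 1)

/-- The matrix of the projection. -/
noncomputable def projM (T : ZMod p → ZMod p → ZMod p → Prop) (a q : ℕ) (v w : OPair p) : ℂ :=
  if v.1.1 = w.1.1 then (kerQ T a q v.1.1 v.1.2 w.1.2 : ℂ) else 0

/-- The projection. -/
noncomputable def proj (T : ZMod p → ZMod p → ZMod p → Prop) (a q : ℕ) :
    Module.End ℂ (OPair p → ℂ) := opM (projM T a q)

/-- The reflection. -/
noncomputable def swapOp (p : ℕ) [Fact p.Prime] : Module.End ℂ (OPair p → ℂ) :=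
  opM fun v w => if w = swapPair v then 1 else 0

/-- The compressed reflection. -/
noncomputable def mid (T : ZMod p → ZMod p → ZMod p → Prop) (a q : ℕ) :
    Module.End ℂ (OPair p → ℂ) := proj T a q * swapOp p * proj T a q

theorem swapOp_apply (f : OPair p → ℂ) (v : OPair p) : swapOp p f v = f (swapPair v) := by
  rw [swapOp, opM_apply, Finset.sum_eq_single (swapPair v)]
  · rw [if_pos rfl, one_mul]
  · intro w _ hw; rw [if_neg hw, zero_mul]
  · exact fun h => absurd (Finset.mem_univ _) h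

theorem swapOp_mul_swapOp : swapOp p * swapOp p = 1 :=
  LinearMap.ext fun f => funext fun v => by
    rw [Module.End.mul_apply, swapOp_apply, swapOp_apply, swapPair_swapPair]; rfl

theorem isEnd_swapOp : IsEnd (Cfsg.permRep ℂ G (OPair p)) (swapOp p) :=
  isEnd_opM fun g v w => if_congr
    ⟨fun e => (MulAction.injective g (e.trans (Subtype.ext rfl : swapPair (g • v) = g • swapPair v))),
      fun e => by rw [e]; rfl⟩ rfl rfl

/-- Sums over pairs with given first entry. -/
theorem sum_pair_fst (x : ZMod p) (f : OPair p → ℂ) :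
    (∑ w : OPair p, if x = w.1.1 then f w else 0) =
      ∑ z ∈ (Finset.univ.erase x).attach,
        f ⟨(x, z.1), Ne.symm (Finset.ne_of_mem_erase z.2)⟩ := by
  rw [← Finset.sum_filter]
  refine Finset.sum_bij' (fun w hw => ⟨w.1.2, Finset.mem_erase.2
      ⟨fun e => w.2 (((Finset.mem_filter.1 hw).2).symm.trans e.symm), Finset.mem_univ _⟩⟩)
    (fun z _ => ⟨(x, z.1), Ne.symm (Finset.ne_of_mem_erase z.2)⟩)
    (fun w _ => Finset.mem_attach _ _) (fun z _ => Finset.mem_filter.2 ⟨Finset.mem_univ _, rfl⟩)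
    (fun w hw => Subtype.ext (Prod.ext (Finset.mem_filter.1 hw).2 rfl)) (fun z _ => rfl) fun w hw => ?_
  congr 1
  exact Subtype.ext (Prod.ext (Finset.mem_filter.1 hw).2.symm rfl)

/-- Sums over pairs with given first entry, for functions of the second entry. -/
theorem sum_pair_fst' (x : ZMod p) (f : ZMod p → ℂ) :
    (∑ w : OPair p, if x = w.1.1 then f w.1.2 else 0) = ∑ z ∈ Finset.univ.erase x, f z := by
  rw [sum_pair_fst x (fun w => f w.1.2), Finset.sum_attach _ f]

/-- Sums over all pairs. -/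
theorem sum_pairs (f : ZMod p → ZMod p → ℂ) :
    ∑ w : OPair p, f w.1.1 w.1.2 = ∑ x, ∑ z ∈ Finset.univ.erase x, f x z := by
  rw [← Finset.sum_congr rfl fun x _ => sum_pair_fst' x (f x), Finset.sum_comm]
  exact Finset.sum_congr rfl fun w _ => by rw [Finset.sum_ite_eq', if_pos (Finset.mem_univ _)]

namespace Graph

variable (gr : Graph p q a G T) (H : Hyp p q G)
include gr H

theorem qC_ne : (q : ℂ) ≠ 0 := Nat.cast_ne_zero.2 H.qprime.ne_zero

omit H in
theorem aC_ne : (2 * (a : ℂ) + 1) ≠ 0 := by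
  exact_mod_cast (Nat.succ_ne_zero (2 * a) : 2 * a + 1 ≠ 0)

omit H in
theorem qC : (q : ℂ) = 2 * (a : ℂ) ^ 2 + 2 * a + 1 := by rw [gr.hq]; push_cast; ring

theorem kerC (x y z : ZMod p) :
    (2 * (a : ℂ) + 1) * (kerQ T a q x y z : ℂ) =
      (a : ℂ) * (if y = z then 1 else 0) - (if T x y z then 1 else 0) + (a : ℂ) ^ 2 / q := by
  have := gr.aC_ne
  simp only [kerQ, Rat.cast_div, Rat.cast_add, Rat.cast_sub, Rat.cast_mul, Rat.cast_natCast,
    Rat.cast_pow, apply_ite (Rat.cast : ℚ → ℂ), Rat.cast_one, Rat.cast_zero, Rat.cast_ofNat]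
  field_simp

omit H in
theorem kerQ_symm (x y z : ZMod p) : kerQ T a q x y z = kerQ T a q x z y := by
  rw [kerQ, kerQ, if_congr (⟨Eq.symm, Eq.symm⟩ : y = z ↔ z = y) rfl rfl,
    if_congr (⟨gr.sym23, gr.sym23⟩ : T x y z ↔ T x z y) rfl rfl]

omit H in
theorem kerQ_smul (g : G) (x y z : ZMod p) :
    kerQ T a q (g • x) (g • y) (g • z) = kerQ T a q x y z := by
  simp only [kerQ, gr.inv, smul_left_cancel_iff]

theorem kerQ_add (t x y z : ZMod p) : kerQ T a q (x + t) (y + t) (z + t) = kerQ T a q x y z := by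
  have h := gr.kerQ_smul (H.shift ^ t.val) x y z
  rwa [H.shift_pow_smul, H.shift_pow_smul, H.shift_pow_smul, ZMod.natCast_zmod_val] at h

omit H in
theorem card_erase (x : ZMod p) (hq : p = 2 * q + 1) :
    ((Finset.univ.erase x).card : ℂ) = 2 * q := by
  rw [Finset.card_erase_of_mem (Finset.mem_univ _), Finset.card_univ, ZMod.card,
    show p - 1 = 2 * q by omega]
  push_cast; rfl

theorem sum_tri {x y : ZMod p} (h : x ≠ y) :
    ∑ z ∈ Finset.univ.erase x, (if T x y z then (1 : ℂ) else 0) = (a : ℂ) * (2 * a + 1) := by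
  rw [Finset.sum_erase _ (by rw [if_neg]; exact fun e => (gr.irr e).2.1 rfl), Finset.sum_boole,
    gr.row x y h]
  push_cast; rfl

theorem sum_tri' {x w : ZMod p} (h : x ≠ w) :
    ∑ z ∈ Finset.univ.erase x, (if T x z w then (1 : ℂ) else 0) = (a : ℂ) * (2 * a + 1) := by
  rw [← gr.sum_tri H h]
  exact Finset.sum_congr rfl fun z _ => if_congr ⟨gr.sym23, gr.sym23⟩ rfl rfl

theorem sum_tri_tri {x y w : ZMod p} (hy : y ≠ x) (hw : w ≠ x) :
    ∑ z ∈ Finset.univ.erase x, (if T x y z then (1 : ℂ) else 0) * (if T x z w then 1 else 0) =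
      (a : ℂ) * (a + 1) * (if y = w then 1 else 0) + (a : ℂ) ^ 2 - (if T x y w then 1 else 0) := by
  rw [Finset.sum_erase _ (by rw [if_neg, zero_mul]; exact fun e => (gr.irr e).2.1 rfl)]
  have e := congrArg (fun n : ℕ => (n : ℂ)) (gr.rel x y w hy hw)
  simp only [Nat.cast_add, Nat.cast_mul, Nat.cast_ite, Nat.cast_one, Nat.cast_zero, Nat.cast_pow] at e
  have e1 : ∑ z, (if T x y z then (1 : ℂ) else 0) * (if T x z w then 1 else 0) =
      ((Finset.univ.filter fun z => T x y z ∧ T x z w).card : ℂ) := by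
    rw [← Finset.sum_boole]
    refine Finset.sum_congr rfl fun z _ => ?_
    by_cases h1 : T x y z <;> by_cases h2 : T x z w <;> simp [h1, h2]
  rw [e1]
  linear_combination e

/-- The rows of the kernel vanish. -/
theorem sum_ker {x y : ZMod p} (hy : y ≠ x) :
    ∑ z ∈ Finset.univ.erase x, (kerQ T a q x y z : ℂ) = 0 := by
  refine mul_left_cancel₀ gr.aC_ne ?_
  rw [mul_zero, Finset.mul_sum, Finset.sum_congr rfl fun z _ => gr.kerC H x y z, Finset.sum_add_distrib,
    Finset.sum_sub_distrib, ← Finset.mul_sum, Finset.sum_ite_eq, if_pos (Finset.mem_erase.2 ⟨hy, Finset.mem_univ _⟩),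
    gr.sum_tri H (Ne.symm hy), Finset.sum_const, nsmul_eq_mul, gr.card_erase x H.pq]
  have := gr.qC_ne H
  field_simp
  ring

/-- The kernel is idempotent. -/
theorem ker_mul {x y w : ZMod p} (hy : y ≠ x) (hw : w ≠ x) :
    ∑ z ∈ Finset.univ.erase x, (kerQ T a q x y z : ℂ) * (kerQ T a q x z w : ℂ) =
      (kerQ T a q x y w : ℂ) := by
  refine mul_left_cancel₀ (pow_ne_zero 2 gr.aC_ne) ?_
  rw [Finset.mul_sum, show (2 * (a : ℂ) + 1) ^ 2 * (kerQ T a q x y w : ℂ) =
    (2 * (a : ℂ) + 1) * ((2 * (a : ℂ) + 1) * (kerQ T a q x y w : ℂ)) by ring, gr.kerC H]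
  have e : ∀ z, (2 * (a : ℂ) + 1) ^ 2 * ((kerQ T a q x y z : ℂ) * (kerQ T a q x z w : ℂ)) =
      ((a : ℂ) * (if y = z then 1 else 0) - (if T x y z then 1 else 0) + (a : ℂ) ^ 2 / q) *
      ((a : ℂ) * (if z = w then 1 else 0) - (if T x z w then 1 else 0) + (a : ℂ) ^ 2 / q) := fun z => by
    rw [← gr.kerC H, ← gr.kerC H]; ring
  have hy' := Finset.mem_erase.2 ⟨hy, Finset.mem_univ y⟩
  have hw' := Finset.mem_erase.2 ⟨hw, Finset.mem_univ w⟩
  set c : ℂ := (a : ℂ) ^ 2 / q with hc
  rw [Finset.sum_congr rfl fun z _ => (e z).trans (show _ =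
      (a : ℂ) * (if y = z then (a : ℂ) * (if z = w then 1 else 0) - (if T x z w then 1 else 0) + c else 0) -
      ((a : ℂ) * (if z = w then (if T x y z then 1 else 0) else 0) -
        (if T x y z then (1 : ℂ) else 0) * (if T x z w then 1 else 0) +
        c * (if T x y z then 1 else 0)) +
      c * ((a : ℂ) * (if z = w then 1 else 0) - (if T x z w then 1 else 0) + c) by
      by_cases h2 : z = w
      · subst h2; by_cases h1 : y = z <;> simp only [h1, if_true, if_false] <;> ring
      · by_cases h1 : y = z <;> simp only [h1, h2, if_true, if_false] <;> ring),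
    Finset.sum_add_distrib, Finset.sum_sub_distrib, ← Finset.mul_sum, Finset.sum_ite_eq, if_pos hy',
    Finset.sum_add_distrib, Finset.sum_sub_distrib, ← Finset.mul_sum, Finset.sum_ite_eq', if_pos hw',
    gr.sum_tri_tri H hy hw, ← Finset.mul_sum, gr.sum_tri H (Ne.symm hy), ← Finset.mul_sum,
    Finset.sum_add_distrib, Finset.sum_sub_distrib, ← Finset.mul_sum, Finset.sum_ite_eq', if_pos hw',
    gr.sum_tri' H (Ne.symm hw), Finset.sum_const, nsmul_eq_mul, gr.card_erase x H.pq, hc]
  have := gr.qC_ne H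
  field_simp
  rw [gr.qC]
  ring

omit H in
theorem isEnd_proj : IsEnd (Cfsg.permRep ℂ G (OPair p)) (proj T a q) :=
  isEnd_opM fun g v w => by
    simp only [projM, smul_fst, smul_snd, smul_left_cancel_iff, gr.kerQ_smul]

theorem proj_mul_proj : proj T a q * proj T a q = proj T a q := by
  rw [proj, opM_mul]
  congr 1
  funext v w
  simp only [mulM, projM, ite_mul, zero_mul]
  rw [sum_pair_fst v.1.1]
  by_cases h : v.1.1 = w.1.1
  · rw [if_pos h, ← gr.ker_mul H (Ne.symm v.2) (show w.1.2 ≠ v.1.1 by rw [h]; exact Ne.symm w.2)]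
    rw [← Finset.sum_attach _ fun z => (kerQ T a q v.1.1 v.1.2 z : ℂ) * (kerQ T a q v.1.1 z w.1.2 : ℂ)]
    exact Finset.sum_congr rfl fun z _ => by rw [if_pos h]
  · rw [if_neg h]
    exact Finset.sum_eq_zero fun z _ => by rw [if_neg h, mul_zero]

omit H in
theorem isEnd_mid : IsEnd (Cfsg.permRep ℂ G (OPair p)) (mid T a q) :=
  (gr.isEnd_proj.mul isEnd_swapOp).mul gr.isEnd_proj

theorem proj_mul_mid : proj T a q * mid T a q = mid T a q := by
  rw [mid, ← mul_assoc, ← mul_assoc, gr.proj_mul_proj H]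

theorem mid_mul_proj : mid T a q * proj T a q = mid T a q := by
  rw [mid, mul_assoc, gr.proj_mul_proj H]

section Traces

variable [Fintype G]

theorem trFun_proj (g : G) :
    trFun (Cfsg.permRep ℂ G (OPair p)) (proj T a q) g =
      ∑ x, if g • x = x then ∑ y ∈ Finset.univ.erase x, (kerQ T a q x y (g • y) : ℂ) else 0 := by
  rw [proj, trFun_opM]
  simp only [projM, smul_fst, smul_snd]
  rw [sum_pairs fun x y => if x = g • x then (kerQ T a q x y (g • y) : ℂ) else 0]
  refine Finset.sum_congr rfl fun x _ => ?_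
  by_cases h : g • x = x
  · rw [if_pos h]; exact Finset.sum_congr rfl fun y _ => by rw [if_pos h.symm]
  · rw [if_neg h]; exact Finset.sum_eq_zero fun y _ => by rw [if_neg (Ne.symm h)]

theorem exists_rat_trFun_proj (g : G) :
    ∃ r : ℚ, trFun (Cfsg.permRep ℂ G (OPair p)) (proj T a q) g = (r : ℂ) := by
  refine ⟨∑ x, if g • x = x then ∑ y ∈ Finset.univ.erase x, kerQ T a q x y (g • y) else 0, ?_⟩
  rw [gr.trFun_proj H]
  push_cast [apply_ite (Rat.cast : ℚ → ℂ)]
  rfl

/-- On the stabilizer the summand is the small character. -/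
theorem sum_ker_smul {ψ : stabilizer G (0 : ZMod p) → ℂ} (h : stabilizer G (0 : ZMod p))
    (hψ : (2 * (a : ℂ) + 1) * ψ h =
      (a : ℂ) * ((Nat.card (fixedBy (ZMod p) (h : G)) : ℂ) - 1) -
        ((Finset.univ.filter fun x => T 0 x ((h : G) • x)).card : ℂ) + 2 * (a : ℂ) ^ 2) :
    ∑ y ∈ Finset.univ.erase (0 : ZMod p), (kerQ T a q 0 y ((h : G) • y) : ℂ) = ψ h := by
  refine mul_left_cancel₀ gr.aC_ne ?_
  rw [hψ, Finset.mul_sum, Finset.sum_congr rfl fun y _ => gr.kerC H 0 y _, Finset.sum_add_distrib,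
    Finset.sum_sub_distrib, ← Finset.mul_sum, Finset.sum_const, nsmul_eq_mul, gr.card_erase 0 H.pq]
  congr 1
  · congr 1
    · congr 1
      rw [Finset.sum_erase_eq_sub (Finset.mem_univ _), if_pos (Eq.symm h.2), Finset.sum_boole,
        Nat.card_coe_set_eq, ← Set.ncard_coe_finset]
      congr 3
      ext y
      simp [MulAction.mem_fixedBy, eq_comm]
    · rw [Finset.sum_erase _ (by rw [if_neg]; exact fun e => (gr.irr e).1 rfl), Finset.sum_boole]
  · have := gr.qC_ne H
    field_simp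

theorem trFun_mid (g : G) :
    trFun (Cfsg.permRep ℂ G (OPair p)) (mid T a q) g =
      ∑ y, ∑ x ∈ Finset.univ.erase y, if g • y = x then (kerQ T a q x y (g • x) : ℂ) else 0 := by
  have hc : trFun (Cfsg.permRep ℂ G (OPair p)) (mid T a q) g =
      trFun (Cfsg.permRep ℂ G (OPair p)) (proj T a q * swapOp p) g := by
    rw [trFun, trFun, mid, mul_assoc (proj T a q * swapOp p), gr.isEnd_proj g, ← mul_assoc,
      LinearMap.trace_mul_comm ℂ, ← mul_assoc, ← mul_assoc, gr.proj_mul_proj H]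
  rw [hc, proj, swapOp, opM_mul, trFun_opM]
  have e : ∀ v : OPair p, mulM (projM T a q) (fun v w => if w = swapPair v then (1 : ℂ) else 0) v (g • v) =
      if g • v.1.2 = v.1.1 then (kerQ T a q v.1.1 v.1.2 (g • v.1.1) : ℂ) else 0 := by
    intro v
    rw [mulM, Finset.sum_eq_single (swapPair (g • v))]
    · rw [if_pos (swapPair_swapPair _).symm, mul_one, projM]
      show (if v.1.1 = g • v.1.2 then (kerQ T a q v.1.1 v.1.2 (g • v.1.1) : ℂ) else 0) = _
      exact if_congr ⟨Eq.symm, Eq.symm⟩ rfl rfl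
    · intro w _ hw
      rw [if_neg (fun e => hw (by rw [e, swapPair_swapPair])), mul_zero]
    · exact fun h => absurd (Finset.mem_univ _) h
  rw [Finset.sum_congr rfl fun v _ => e v,
    sum_pairs fun x y => if g • y = x then (kerQ T a q x y (g • x) : ℂ) else 0]
  refine Finset.sum_comm' fun x y => ?_
  simp [ne_comm]

theorem trFun_mid_sq (g : G) :
    trFun (Cfsg.permRep ℂ G (OPair p)) (mid T a q * mid T a q) g =
      ∑ x, ∑ y ∈ Finset.univ.erase x, if g • y ≠ x then
        (kerQ T a q x y (g • y) : ℂ) * (kerQ T a q (g • y) x (g • x) : ℂ) else 0 := by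
  have hc : trFun (Cfsg.permRep ℂ G (OPair p)) (mid T a q * mid T a q) g =
      trFun (Cfsg.permRep ℂ G (OPair p))
        ((proj T a q * swapOp p) * (proj T a q * swapOp p)) g := by
    have e : mid T a q * mid T a q = (proj T a q * swapOp p * proj T a q * swapOp p) * proj T a q := by
      rw [mid]
      simp only [mul_assoc]
      rw [← mul_assoc (proj T a q) (proj T a q), gr.proj_mul_proj H]
    rw [trFun, trFun, e, mul_assoc (proj T a q * swapOp p * proj T a q * swapOp p), gr.isEnd_proj g,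
      ← mul_assoc, LinearMap.trace_mul_comm ℂ]
    simp only [← mul_assoc]
    rw [gr.proj_mul_proj H]
  rw [hc, proj, swapOp, opM_mul, opM_mul, trFun_opM]
  have e1 : ∀ v w : OPair p, mulM (projM T a q) (fun v w => if w = swapPair v then (1 : ℂ) else 0) v w =
      projM T a q v (swapPair w) := fun v w => by
    rw [mulM, Finset.sum_eq_single (swapPair w)]
    · rw [if_pos (swapPair_swapPair _).symm, mul_one]
    · intro z _ hz
      rw [if_neg (fun e => hz (by rw [e, swapPair_swapPair])), mul_zero]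
    · exact fun h => absurd (Finset.mem_univ _) h
  have e2 : ∀ v : OPair p,
      mulM (mulM (projM T a q) (fun v w => if w = swapPair v then (1 : ℂ) else 0))
        (mulM (projM T a q) (fun v w => if w = swapPair v then (1 : ℂ) else 0)) v (g • v) =
      if g • v.1.2 ≠ v.1.1 then (kerQ T a q v.1.1 v.1.2 (g • v.1.2) : ℂ) *
        (kerQ T a q (g • v.1.2) v.1.1 (g • v.1.1) : ℂ) else 0 := by
    intro v
    rw [mulM, Finset.sum_congr rfl fun w _ => by rw [e1, e1]]
    show ∑ w : OPair p, (if v.1.1 = w.1.2 then (kerQ T a q v.1.1 v.1.2 w.1.1 : ℂ) else 0) *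
      (if w.1.1 = g • v.1.2 then (kerQ T a q w.1.1 w.1.2 (g • v.1.1) : ℂ) else 0) = _
    by_cases h : g • v.1.2 = v.1.1
    · rw [if_neg (not_not.2 h)]
      refine Finset.sum_eq_zero fun w _ => ?_
      by_cases h1 : v.1.1 = w.1.2
      · rw [if_pos h1, if_neg (fun e => w.2 (e.trans (h.trans h1))), mul_zero]
      · rw [if_neg h1, zero_mul]
    · rw [if_pos h, Finset.sum_eq_single ⟨(g • v.1.2, v.1.1), h⟩]
      · simp
      · intro w _ hw
        by_cases h1 : v.1.1 = w.1.2
        · by_cases h2 : w.1.1 = g • v.1.2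
          · exact absurd (Subtype.ext (Prod.ext h2 h1.symm)) hw
          · rw [if_neg h2, mul_zero]
        · rw [if_neg h1, zero_mul]
      · exact fun h => absurd (Finset.mem_univ _) h
  rw [Finset.sum_congr rfl fun v _ => e2 v, sum_pairs fun x y => if g • y ≠ x then
    (kerQ T a q x y (g • y) : ℂ) * (kerQ T a q (g • y) x (g • x) : ℂ) else 0]

theorem trace_mid : trFun (Cfsg.permRep ℂ G (OPair p)) (mid T a q) 1 = 0 := by
  rw [gr.trFun_mid H]
  exact Finset.sum_eq_zero fun y _ => Finset.sum_eq_zero fun x hx => by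
    rw [one_smul, if_neg (Ne.symm (Finset.ne_of_mem_erase hx))]

theorem ker_diag {x y : ZMod p} :
    (q : ℂ) * (kerQ T a q x y y : ℂ) = (a : ℂ) * (a + 1) := by
  refine mul_left_cancel₀ gr.aC_ne ?_
  rw [mul_left_comm, gr.kerC H, if_pos rfl, if_neg (fun e => (gr.irr e).2.2 rfl)]
  have := gr.qC_ne H
  field_simp
  rw [gr.qC]; ring

theorem trace_mid_sq :
    (q : ℂ) * trFun (Cfsg.permRep ℂ G (OPair p)) (mid T a q * mid T a q) 1 =
      2 * (p : ℂ) * ((a : ℂ) * (a + 1)) ^ 2 := by
  have hq0 := gr.qC_ne H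
  refine mul_left_cancel₀ hq0 ?_
  rw [gr.trFun_mid_sq H, ← mul_assoc, Finset.mul_sum, Finset.sum_congr rfl fun x _ => Finset.mul_sum _ _ _,
    Finset.sum_congr rfl fun x _ => Finset.sum_congr rfl fun y hy => show (q : ℂ) * q * _ =
      ((a : ℂ) * (a + 1)) ^ 2 by
      rw [one_smul, one_smul, if_pos (Finset.ne_of_mem_erase hy), mul_mul_mul_comm, gr.ker_diag H, gr.ker_diag H]
      ring]
  simp only [Finset.sum_const, nsmul_eq_mul, gr.card_erase _ H.pq, Finset.card_univ, ZMod.card]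
  ring

omit gr in
theorem sum_zpowers_shift (f : G → ℂ) [Fintype H.P] :
    ∑ x : H.P, f x = ∑ j : ZMod p, f (H.shift ^ j.val) := by
  symm
  refine Fintype.sum_bijective (fun j : ZMod p => (⟨H.shift ^ j.val, pow_mem (mem_zpowers _) _⟩ : H.P))
    ?_ _ _ fun j => rfl
  rw [Fintype.bijective_iff_injective_and_card]
  refine ⟨fun i j e => ?_, by rw [ZMod.card, ← Nat.card_eq_fintype_card, H.card_P]⟩
  have h := congrArg (fun g : H.P => (g : G) • (0 : ZMod p)) e
  simpa [H.shift_pow_smul] using h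

theorem tri_opp {j : ZMod p} (hj : j ≠ 0) : T 0 (-j) j ↔ T 0 1 (-1) := by
  have hh : ∀ i : ℕ, T 0 (-(4 ^ i)) (4 ^ i) ↔ T 0 1 (-1) := fun i => by
    rw [← mul_neg_one, ← mul_one ((4 : ZMod p) ^ i), mul_assoc, one_mul, H.tri_scale gr]
    exact ⟨gr.sym23, gr.sym23⟩
  obtain ⟨i, -, hi⟩ : ∃ i < q, j = 4 ^ i ∨ j = -(4 ^ i) := by
    by_contra hno
    push Not at hno
    have h3 := H.sum_nonzero fun y => if y = j then (1 : ℂ) else 0
    rw [Finset.sum_ite_eq', if_pos (Finset.mem_erase.2 ⟨hj, Finset.mem_univ _⟩),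
      Finset.sum_eq_zero fun i hi => by
        rw [if_neg (Ne.symm (hno i (Finset.mem_range.1 hi)).1),
          if_neg (Ne.symm (hno i (Finset.mem_range.1 hi)).2), add_zero]] at h3
    exact one_ne_zero h3
  rcases hi with rfl | rfl
  · exact hh i
  · rw [neg_neg]
    exact ⟨fun e => (hh i).1 (gr.sym23 e), fun e => gr.sym23 ((hh i).2 e)⟩

theorem psum_mid [Fintype H.P] :
    (2 * (a : ℂ) + 1) * ∑ x : H.P, trFun (Cfsg.permRep ℂ G (OPair p)) (mid T a q) (x : G) =
      (p : ℂ) * (2 * ((a : ℂ) ^ 2 - (q : ℂ) * (if T 0 1 (-1) then 1 else 0))) := by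
  rw [sum_zpowers_shift H (trFun (Cfsg.permRep ℂ G (OPair p)) (mid T a q)),
    ← Finset.add_sum_erase _ _ (Finset.mem_univ (0 : ZMod p)), ZMod.val_zero, pow_zero, gr.trace_mid H,
    zero_add, Finset.mul_sum]
  have hterm : ∀ j ∈ Finset.univ.erase (0 : ZMod p),
      (2 * (a : ℂ) + 1) * trFun (Cfsg.permRep ℂ G (OPair p)) (mid T a q) (H.shift ^ j.val) =
        (p : ℂ) * ((a : ℂ) ^ 2 / q - (if T 0 1 (-1) then 1 else 0)) := by
    intro j hj
    have hj0 := Finset.ne_of_mem_erase hj
    rw [gr.trFun_mid H, Finset.mul_sum, Finset.sum_congr rfl fun y _ => show _ =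
      (a : ℂ) ^ 2 / q - (if T 0 1 (-1) then 1 else 0) from ?_, Finset.sum_const, Finset.card_univ,
      ZMod.card, nsmul_eq_mul]
    simp only [H.shift_pow_smul, ZMod.natCast_zmod_val]
    rw [Finset.sum_ite_eq, if_pos (Finset.mem_erase.2 ⟨by simpa using hj0, Finset.mem_univ _⟩),
      gr.kerC H, if_neg (show y ≠ y + j + j by
        intro e
        have e2 : (2 : ZMod p) * j = 0 := by linear_combination -e
        rcases mul_eq_zero.1 e2 with h | h
        · have := Nat.le_of_dvd two_pos ((ZMod.natCast_eq_zero_iff 2 p).1 (by exact_mod_cast h))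
          have := H.p23
          omega
        · exact hj0 h),
      show (T (y + j) y (y + j + j)) = (T 0 (-j) j) from ?_, if_congr (gr.tri_opp H hj0) rfl rfl]
    · ring
    · have := gr.inv (H.shift ^ (y + j).val) 0 (-j) j
      rw [H.shift_pow_smul, H.shift_pow_smul, H.shift_pow_smul, ZMod.natCast_zmod_val, zero_add,
        show -j + (y + j) = y by ring, show j + (y + j) = y + j + j by ring] at this
      exact propext this
  rw [Finset.sum_congr rfl hterm, Finset.sum_const, nsmul_eq_mul, gr.card_erase 0 H.pq]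
  have := gr.qC_ne H
  field_simp

theorem exists_psum_mid_sq [Fintype H.P] :
    ∃ V : ℤ, (2 * (a : ℂ) + 1) ^ 2 *
      ∑ x : H.P, trFun (Cfsg.permRep ℂ G (OPair p)) (mid T a q * mid T a q) (x : G) = (p : ℂ) * V := by
  set c : ℂ := (a : ℂ) ^ 2 / q with hcdef
  set B : ZMod p → ZMod p → ℤ :=
    fun d d' => (a : ℤ) * (if d = d' then 1 else 0) - (if T 0 d d' then 1 else 0) with hB
  set E := Finset.univ.erase (0 : ZMod p) with hE
  refine ⟨∑ d ∈ E, ∑ d' ∈ E, B d d' * B (-d) (-d') - 4 * (a : ℤ) ^ 4, ?_⟩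
  have hK : ∀ d d', (2 * (a : ℂ) + 1) * (kerQ T a q 0 d d' : ℂ) = (B d d' : ℂ) + c := fun d d' => by
    rw [gr.kerC H, hB]
    simp only [Int.cast_sub, Int.cast_mul, Int.cast_natCast, apply_ite (Int.cast : ℤ → ℂ), Int.cast_one,
      Int.cast_zero, hcdef]
  rw [sum_zpowers_shift H (trFun (Cfsg.permRep ℂ G (OPair p)) (mid T a q * mid T a q))]
  -- move every link to zero
  have hterm : ∀ j : ZMod p, trFun (Cfsg.permRep ℂ G (OPair p)) (mid T a q * mid T a q) (H.shift ^ j.val) =
      (p : ℂ) * ∑ d ∈ E, if d + j ≠ 0 then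
        (kerQ T a q 0 d (d + j) : ℂ) * (kerQ T a q 0 (-d) (-(d + j)) : ℂ) else 0 := by
    intro j
    rw [gr.trFun_mid_sq H]
    simp only [H.shift_pow_smul, ZMod.natCast_zmod_val]
    rw [Finset.sum_congr rfl fun x _ => show _ = ∑ d ∈ E, if d + j ≠ 0 then
        (kerQ T a q 0 d (d + j) : ℂ) * (kerQ T a q 0 (-d) (-(d + j)) : ℂ) else 0 from ?_,
      Finset.sum_const, Finset.card_univ, ZMod.card, nsmul_eq_mul]
    refine Finset.sum_bij' (fun y _ => y - x) (fun d _ => d + x)
      (fun y hy => Finset.mem_erase.2 ⟨sub_ne_zero.2 (Finset.ne_of_mem_erase hy), Finset.mem_univ _⟩)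
      (fun d hd => Finset.mem_erase.2 ⟨by simpa using Finset.ne_of_mem_erase hd, Finset.mem_univ _⟩)
      (fun y _ => sub_add_cancel y x) (fun d _ => add_sub_cancel_right d x) fun y hy => ?_
    refine if_congr ?_ ?_ rfl
    · exact not_congr ⟨fun e => by linear_combination e, fun e => by linear_combination e⟩
    · congr 2
      · exact_mod_cast (by
          rw [← gr.kerQ_add H x 0 (y - x) (y - x + j), zero_add, sub_add_cancel,
            show y - x + j + x = y + j by ring] :
          kerQ T a q x y (y + j) = kerQ T a q 0 (y - x) (y - x + j))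
      · rw [← gr.kerQ_add H (y + j) 0 (-(y - x)) (-(y - x + j)), gr.kerQ_symm]
        congr 1 <;> ring
  rw [Finset.sum_congr rfl fun j _ => hterm j, ← Finset.mul_sum, mul_left_comm, Finset.sum_comm]
  congr 1
  have hrow : ∀ d ∈ E, ∑ d' ∈ E, (B d d' : ℂ) = -2 * (a : ℂ) ^ 2 := by
    intro d hd
    simp only [hB, Int.cast_sub, Int.cast_mul, Int.cast_natCast, apply_ite (Int.cast : ℤ → ℂ),
      Int.cast_one, Int.cast_zero, Finset.sum_sub_distrib, hE]
    rw [← Finset.mul_sum, Finset.sum_ite_eq, if_pos hd, gr.sum_tri H (Ne.symm (Finset.ne_of_mem_erase hd))]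
    ring
  have hcard : (E.card : ℂ) = 2 * q := gr.card_erase 0 H.pq
  have hneg : ∀ f : ZMod p → ℂ, ∑ d ∈ E, f (-d) = ∑ d ∈ E, f d := fun f =>
    Finset.sum_nbij' (fun d => -d) (fun d => -d)
      (fun d hd => Finset.mem_coe.2 (Finset.mem_erase.2
        ⟨neg_ne_zero.2 (Finset.ne_of_mem_erase (Finset.mem_coe.1 hd)), Finset.mem_univ _⟩))
      (fun d hd => Finset.mem_coe.2 (Finset.mem_erase.2
        ⟨neg_ne_zero.2 (Finset.ne_of_mem_erase (Finset.mem_coe.1 hd)), Finset.mem_univ _⟩))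
      (fun d _ => neg_neg d) (fun d _ => neg_neg d) (fun d _ => rfl)
  rw [Finset.mul_sum, Finset.sum_congr rfl fun d hd => show _ =
      ∑ d' ∈ E, ((B d d' : ℂ) + c) * ((B (-d) (-d') : ℂ) + c) from ?_]
  · simp only [add_mul, mul_add, Finset.sum_add_distrib, Int.cast_sub, Int.cast_sum, Int.cast_mul,
      Int.cast_pow, Int.cast_natCast, Int.cast_ofNat]
    rw [Finset.sum_congr rfl fun d hd => (Finset.sum_mul E (fun d' => (B d d' : ℂ)) c).symm.trans
        (by rw [hrow d hd]),
      Finset.sum_congr rfl fun d hd => (Finset.mul_sum E (fun d' => (B (-d) (-d') : ℂ)) c).symm.trans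
        (by rw [hneg (fun d' => (B (-d) d' : ℂ)),
          hrow (-d) (Finset.mem_erase.2 ⟨neg_ne_zero.2 (Finset.ne_of_mem_erase hd), Finset.mem_univ _⟩)])]
    simp only [Finset.sum_const, nsmul_eq_mul, hcard, hcdef]
    have := gr.qC_ne H
    field_simp
    ring
  · rw [Finset.mul_sum, ← Equiv.sum_comp (Equiv.subRight d)]
    simp only [Equiv.subRight_apply, add_sub_cancel]
    refine (Finset.sum_erase (a := (0 : ZMod p)) _ (by simp)).symm.trans
      (Finset.sum_congr rfl fun d' hd' => ?_)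
    rw [if_pos (Finset.ne_of_mem_erase hd'), ← hK, ← hK]
    ring

end Traces

theorem proj_apply (f : OPair p → ℂ) (v : OPair p) (φ : ZMod p → ℂ)
    (hφ : ∀ (z : ZMod p) (hz : v.1.1 ≠ z), f ⟨(v.1.1, z), hz⟩ = φ z) :
    proj T a q f v = ∑ z ∈ Finset.univ.erase v.1.1, (kerQ T a q v.1.1 v.1.2 z : ℂ) * φ z := by
  rw [proj, opM_apply]
  simp only [projM, ite_mul, zero_mul]
  rw [sum_pair_fst v.1.1, ← Finset.sum_attach _ fun z => (kerQ T a q v.1.1 v.1.2 z : ℂ) * φ z]
  exact Finset.sum_congr rfl fun z _ => by rw [hφ]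

/-- The adjacency acts by `-(a + 1)` on the rows of the kernel. -/
theorem ker_mul_tri {x y z : ZMod p} (hy : y ≠ x) (hz : z ≠ x) :
    ∑ w ∈ Finset.univ.erase x, (kerQ T a q x y w : ℂ) * (if T x w z then 1 else 0) =
      -((a : ℂ) + 1) * (kerQ T a q x y z : ℂ) := by
  refine mul_left_cancel₀ gr.aC_ne ?_
  rw [Finset.mul_sum, mul_left_comm, gr.kerC H,
    Finset.sum_congr rfl fun w _ => show _ = (a : ℂ) * (if y = w then (if T x w z then 1 else 0) else 0) -
      (if T x y w then (1 : ℂ) else 0) * (if T x w z then 1 else 0) +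
      (a : ℂ) ^ 2 / q * (if T x w z then 1 else 0) by
      rw [← mul_assoc, gr.kerC H]; split_ifs <;> ring,
    Finset.sum_add_distrib, Finset.sum_sub_distrib, ← Finset.mul_sum, ← Finset.mul_sum, Finset.sum_ite_eq,
    if_pos (Finset.mem_erase.2 ⟨hy, Finset.mem_univ _⟩), gr.sum_tri_tri H hy hz, gr.sum_tri' H (Ne.symm hz)]
  have := gr.qC_ne H
  field_simp
  rw [gr.qC]
  ring

/-- The compressed reflection on the functions of the second entry. -/
theorem mid_pullback {g : ZMod p → ℂ} (hg : ∑ z, g z = 0) :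
    ((q : ℂ) * (2 * a + 1)) • mid T a q (fun v => g v.1.2) =
      (((a : ℂ) + 1) * q - (a : ℂ) ^ 2) • proj T a q (fun v => g v.1.2) := by
  funext v
  obtain ⟨⟨x, y⟩, hxy⟩ := v
  set j : OPair p → ℂ := fun v => g v.1.2 with hj
  have hpj : ∀ (x : ZMod p) (v : OPair p), v.1.1 = x →
      proj T a q j v = ∑ z ∈ Finset.univ.erase x, (kerQ T a q x v.1.2 z : ℂ) * g z := by
    rintro x v rfl
    exact gr.proj_apply H j v g fun z hz => rfl
  have hsum : ∀ x : ZMod p, ∑ z ∈ Finset.univ.erase x, g z = -g x := fun x => by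
    rw [Finset.sum_erase_eq_sub (Finset.mem_univ x), hg, zero_sub]
  set L : ZMod p → ℂ := fun w => ∑ z ∈ Finset.univ.erase w, (kerQ T a q w x z : ℂ) * g z with hL
  have hL' : ∀ w, w ≠ x → (2 * (a : ℂ) + 1) * L w = (a : ℂ) * g x -
      (∑ z ∈ Finset.univ.erase x, (if T x w z then 1 else 0) * g z) - (a : ℂ) ^ 2 / q * g w := by
    intro w hw
    rw [hL]; dsimp only
    rw [Finset.mul_sum, Finset.sum_congr rfl fun z _ => show _ = (a : ℂ) * (if x = z then g z else 0) -
        (if T w x z then (1 : ℂ) else 0) * g z + (a : ℂ) ^ 2 / q * g z by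
        rw [← mul_assoc, gr.kerC H]; split_ifs <;> ring,
      Finset.sum_add_distrib, Finset.sum_sub_distrib, ← Finset.mul_sum, ← Finset.mul_sum, Finset.sum_ite_eq,
      if_pos (Finset.mem_erase.2 ⟨Ne.symm hw, Finset.mem_univ _⟩), hsum]
    have e : ∑ z ∈ Finset.univ.erase w, (if T w x z then (1 : ℂ) else 0) * g z =
        ∑ z ∈ Finset.univ.erase x, (if T x w z then (1 : ℂ) else 0) * g z := by
      rw [Finset.sum_erase _ (by rw [if_neg, zero_mul]; exact fun e => (gr.irr e).2.1 rfl),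
        Finset.sum_erase _ (by rw [if_neg, zero_mul]; exact fun e => (gr.irr e).2.1 rfl)]
      exact Finset.sum_congr rfl fun z _ => by
        rw [if_congr (⟨gr.sym12, gr.sym12⟩ : T w x z ↔ T x w z) rfl rfl]
    rw [e]
    ring
  have hm : mid T a q j ⟨(x, y), hxy⟩ =
      ∑ w ∈ Finset.univ.erase x, (kerQ T a q x y w : ℂ) * L w := by
    rw [mid, Module.End.mul_apply, Module.End.mul_apply,
      gr.proj_apply H _ (⟨(x, y), hxy⟩ : OPair p) L fun w hw => ?_]
    rw [swapOp_apply, hpj w _ rfl]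
    rfl
  show (q : ℂ) * (2 * a + 1) * mid T a q j ⟨(x, y), hxy⟩ =
    (((a : ℂ) + 1) * q - (a : ℂ) ^ 2) * proj T a q j ⟨(x, y), hxy⟩
  rw [hm, hpj x _ rfl, mul_assoc, Finset.mul_sum, Finset.sum_congr rfl fun w hw => show _ =
      (a : ℂ) * g x * (kerQ T a q x y w : ℂ) -
      (∑ z ∈ Finset.univ.erase x, (kerQ T a q x y w : ℂ) * (if T x w z then 1 else 0) * g z) -
      (a : ℂ) ^ 2 / q * ((kerQ T a q x y w : ℂ) * g w) by
      rw [mul_left_comm, hL' w (Finset.ne_of_mem_erase hw), mul_sub, mul_sub, Finset.mul_sum,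
        Finset.sum_congr rfl fun z _ => (mul_assoc (kerQ T a q x y w : ℂ) _ (g z)).symm]
      ring,
    Finset.sum_sub_distrib, Finset.sum_sub_distrib, ← Finset.mul_sum, ← Finset.mul_sum,
    gr.sum_ker H (Ne.symm hxy), Finset.sum_comm,
    Finset.sum_congr rfl fun z hz => by
      rw [← Finset.sum_mul, gr.ker_mul_tri H (Ne.symm hxy) (Finset.ne_of_mem_erase hz), mul_assoc],
    ← Finset.mul_sum]
  have := gr.qC_ne H
  field_simp
  ring

/-- The projection does not kill all of them. -/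
theorem exists_pullback_ne_zero :
    ∃ g : ZMod p → ℂ, ∑ z, g z = 0 ∧ proj T a q (fun v => g v.1.2) ≠ 0 := by
  have h11 : (1 : ZMod p) ≠ -1 := fun e => H.neg_one_not_square (by rw [← e]; exact IsSquare.one)
  refine ⟨fun z => (if z = 1 then 1 else 0) - (if z = -1 then 1 else 0), by
    simp [Finset.sum_sub_distrib], fun e => ?_⟩
  have e1 := congrFun e (⟨(0, 1), zero_ne_one⟩ : OPair p)
  rw [gr.proj_apply H _ _ (fun z => (if z = (1 : ZMod p) then (1 : ℂ) else 0) -
      (if z = -1 then 1 else 0)) fun z hz => rfl, Pi.zero_apply] at e1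
  simp only [mul_sub, Finset.sum_sub_distrib, mul_ite, mul_one, mul_zero, Finset.sum_ite_eq',
    Finset.mem_erase, Finset.mem_univ, and_true, ne_eq, one_ne_zero, not_false_eq_true, neg_eq_zero,
    if_true] at e1
  have e2 := congrArg (fun z : ℂ => (2 * (a : ℂ) + 1) * z) e1
  simp only [mul_sub, mul_zero, gr.kerC H, if_true, h11, if_false] at e2
  rw [if_neg (fun e => (gr.irr e).2.2 rfl)] at e2
  have hh : (a : ℂ) + (if T 0 1 (-1) then 1 else 0) = 0 := by linear_combination e2
  have h2 := gr.two_le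
  split_ifs at hh
  · exact Nat.succ_ne_zero a (by exact_mod_cast hh)
  · rw [add_zero, Nat.cast_eq_zero] at hh
    omega

end Graph

end CfsgLib.Perm.ItoTwoQ
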