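import Mathlib.Tactic.LinearCombination
import Mathlib.Tactic.Ring
import Mathlib.Tactic.FieldSimp
import Mathlib.Tactic.Linarith
import Mathlib.Data.Complex.Basic
import Mathlib.RingTheory.Coprime.Lemmas
import Mathlib.RingTheory.Int.Basic

/-!
# The arithmetic of the rank three case

* `part_one_false`: the trace equations have no solution.
-/

set_option autoImplicit false

namespace CfsgLib.Perm.ItoTwoQ

theorem multiplier_eq_one {m k e f : ℤ} (hm : 3 ≤ m) (he : 1 ≤ e) (hf : 1 ≤ f)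
    (hk : 2 * e - 1 = k * m) (hef : m * m - 1 = 2 * (e * f)) : k = 1 := by
  have hk0 : 0 < k := by
    by_contra h
    have : k * m ≤ 0 := mul_nonpos_of_nonpos_of_nonneg (by omega) (by omega)
    omega
  by_contra hk1
  have h2 : 2 ≤ k := by omega
  have hid : k * k - 1 = 2 * e * (2 * (e - 1) - k * k * f) := by
    linear_combination (-(2 * e - 1) - k * m) * hk - k * k * hef
  have hpos : 0 < k * k - 1 := by nlinarith
  have hfac : 1 ≤ 2 * (e - 1) - k * k * f := by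
    by_contra h
    have : 2 * e * (2 * (e - 1) - k * k * f) ≤ 0 := mul_nonpos_of_nonneg_of_nonpos (by omega) (by omega)
    omega
  have hge : 2 * e ≤ k * k - 1 := by
    rw [hid]
    exact le_mul_of_one_le_right (by omega) hfac
  -- so `k > m`, which is too large
  have hkm : m < k := by nlinarith
  have hbig : 2 * e ≤ m * m - 1 := by nlinarith
  nlinarith

theorem final_false {a V : ℤ} (ha : 2 ≤ a)
    (h : (2 * a ^ 2 + a + 1) * V = 4 * a ^ 4 * (a + 1) * (2 * a + 1)) : False := by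
  set N := 2 * a ^ 2 + a + 1 with hN
  have c1 : IsCoprime N a := ⟨1, -(2 * a + 1), by rw [hN]; ring⟩
  have c2 : IsCoprime N (2 * a + 1) := ⟨1, -a, by rw [hN]; ring⟩
  have hd : N ∣ 4 * a ^ 4 * (a + 1) * (2 * a + 1) := ⟨V, h.symm⟩
  have hd1 : N ∣ 4 * a ^ 4 * (a + 1) := c2.dvd_of_dvd_mul_right hd
  have hd2 : N ∣ 4 * (a + 1) :=
    (c1.pow_right (n := 4)).dvd_of_dvd_mul_right (by rwa [mul_right_comm] at hd1)
  have hle := Int.le_of_dvd (by omega) hd2
  rcases (show a = 2 ∨ 3 ≤ a by omega) with rfl | h3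
  · norm_num [hN] at hd2
  · nlinarith

/-- The equations of the rank three case are inconsistent. -/
theorem part_one_false {a q p e f : ℕ} {h : ℕ} (ha : 2 ≤ a) (hq : q = 2 * a ^ 2 + 2 * a + 1)
    (hp : p = 2 * q + 1) (hh : h ≤ 1) (hef : f * e = q - 1) {Z V : ℤ} {S₁ S₂ t D : ℂ}
    (hD : D = (p : ℂ) * e - 2 * q)
    (ht : (q : ℂ) * (2 * a + 1) * t = ((a : ℂ) + 1) * q - (a : ℂ) ^ 2)
    (h1 : D * S₁ + 2 * q * t + q * (Z : ℂ) = 0)
    (h2 : (2 * (a : ℂ) + 1) * ((e : ℂ) * S₁) = 2 * ((a : ℂ) ^ 2 - q * (h : ℂ)))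
    (h3 : (q : ℂ) * (D * S₂ + 2 * q * (t * t) + ((p : ℂ) * ((q : ℂ) - 1) - 2 * q - f * D)) =
      2 * (p : ℂ) * ((a : ℂ) * (a + 1)) ^ 2)
    (h4 : (2 * (a : ℂ) + 1) ^ 2 * ((e : ℂ) * S₂) = (V : ℂ)) : False := by
  have hq1 : 1 ≤ q - 1 := by
    have : 2 * 2 ≤ 2 * a ^ 2 := by nlinarith
    omega
  have he : 1 ≤ e := by
    rcases Nat.eq_zero_or_pos e with rfl | h0
    · rw [mul_zero] at hef; omega
    · exact h0
  have hf : 1 ≤ f := by
    rcases Nat.eq_zero_or_pos f with rfl | h0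
    · rw [zero_mul] at hef; omega
    · exact h0
  have hA : (2 * (a : ℂ) + 1) ≠ 0 := by exact_mod_cast (Nat.succ_ne_zero (2 * a) : 2 * a + 1 ≠ 0)
  have hq0 : (q : ℂ) ≠ 0 := by exact_mod_cast (show q ≠ 0 by omega)
  have hqC : (q : ℂ) = 2 * (a : ℂ) ^ 2 + 2 * a + 1 := by rw [hq]; push_cast; ring
  have hpC : (p : ℂ) = 2 * (q : ℂ) + 1 := by rw [hp]; push_cast; ring
  -- the scalar of the permutation constituent
  have htv : 2 * (q : ℂ) * t = q + 1 := by
    refine mul_left_cancel₀ hA ?_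
    rw [hqC] at ht ⊢
    linear_combination 2 * ht
  -- the linear equation
  set DZ : ℤ := (p : ℤ) * e - 2 * q with hDZ
  have hDc : D = (DZ : ℂ) := by rw [hD, hDZ]; push_cast; ring
  have hlin : DZ * (2 * ((a : ℤ) ^ 2 - q * h)) = (2 * (a : ℤ) + 1) * e * (-((q : ℤ) + 1) - q * Z) := by
    have e0 : (DZ : ℂ) * (2 * ((a : ℂ) ^ 2 - q * (h : ℂ))) =
        (2 * (a : ℂ) + 1) * e * (-((q : ℂ) + 1) - q * Z) := by
      rw [← h2, ← hDc]
      linear_combination (2 * (a : ℂ) + 1) * (e : ℂ) * h1 - (2 * (a : ℂ) + 1) * (e : ℂ) * htv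
    exact_mod_cast e0
  have hdvd : (2 * (a : ℤ) + 1) ∣ DZ := by
    have hd : (2 * (a : ℤ) + 1) ∣ DZ * (2 * ((a : ℤ) ^ 2 - q * h)) :=
      ⟨e * (-((q : ℤ) + 1) - q * Z), by rw [hlin]; ring⟩
    refine IsCoprime.dvd_of_dvd_mul_right ?_ hd
    rcases (show h = 0 ∨ h = 1 by omega) with rfl | rfl
    · refine ⟨-(2 * (a : ℤ) - 1), 2, ?_⟩
      push_cast
      ring
    · refine ⟨-(2 * (a : ℤ) + 3), -2, ?_⟩
      rw [show (q : ℤ) = 2 * (a : ℤ) ^ 2 + 2 * a + 1 by exact_mod_cast hq]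
      push_cast
      ring
  obtain ⟨k, hk⟩ : (2 * (a : ℤ) + 1) ∣ 2 * (e : ℤ) - 1 := by
    obtain ⟨w, hw⟩ := hdvd
    refine ⟨w - (2 * a + 1) * e + (2 * a + 1), ?_⟩
    rw [hDZ, show (q : ℤ) = 2 * (a : ℤ) ^ 2 + 2 * a + 1 by exact_mod_cast hq,
      show (p : ℤ) = 2 * (q : ℤ) + 1 by exact_mod_cast hp,
      show (q : ℤ) = 2 * (a : ℤ) ^ 2 + 2 * a + 1 by exact_mod_cast hq] at hw
    linear_combination hw
  have hef' : ((e : ℤ) * f) = (q : ℤ) - 1 := by
    have : e * f + 1 = q := by rw [mul_comm e, hef]; omega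
    have : (e : ℤ) * f + 1 = q := by exact_mod_cast this
    linarith
  have hk1 : k = 1 := multiplier_eq_one (m := 2 * (a : ℤ) + 1) (e := e) (f := f) (by omega)
    (by exact_mod_cast he) (by exact_mod_cast hf) (by linear_combination hk)
    (by rw [hef', show (q : ℤ) = 2 * (a : ℤ) ^ 2 + 2 * a + 1 by exact_mod_cast hq]; ring)
  subst hk1
  have hea : e = a + 1 := by omega
  have hfa : f = 2 * a := by
    have h5 : q - 1 = 2 * a * (a + 1) := by
      rw [hq, show 2 * a * (a + 1) = 2 * a ^ 2 + 2 * a by ring]; omega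
    rw [hea, h5] at hef
    exact Nat.eq_of_mul_eq_mul_right (by omega) hef
  subst hea hfa
  -- the quadratic equation
  have hDv : D = (2 * (a : ℂ) + 1) * (2 * (a : ℂ) ^ 2 + a + 1) := by
    rw [hD, hpC, hqC]; push_cast; ring
  have hS : D * S₂ = 4 * (a : ℂ) ^ 4 := by
    refine mul_left_cancel₀ (mul_ne_zero two_ne_zero hq0) ?_
    have htt : 2 * (q : ℂ) * (2 * q * (t * t)) = ((q : ℂ) + 1) * ((q : ℂ) + 1) := by
      linear_combination (2 * (q : ℂ) * t + q + 1) * htv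
    rw [hDv] at h3 ⊢
    rw [hpC, hqC] at h3
    rw [hqC] at htt ⊢
    push_cast at h3
    linear_combination 2 * h3 - htt
  refine final_false (a := (a : ℤ)) (V := V) (by omega) ?_
  have e0 : (2 * (a : ℂ) ^ 2 + a + 1) * (V : ℂ) = 4 * (a : ℂ) ^ 4 * (a + 1) * (2 * a + 1) := by
    rw [← h4, ← hS, hDv]
    push_cast
    ring
  exact_mod_cast e0

end CfsgLib.Perm.ItoTwoQ
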