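import Cfsg.Agent.Lib.Perm.ItoTwoQ.PairFixed
import Cfsg.Agent.Lib.Perm.ItoTwoQ.PartOneArith

/-!
# A group of this kind is triply transitive

* `Hyp.three`: the rank three configuration does not occur.
-/

set_option autoImplicit false
set_option linter.all false

open scoped ComplexConjugate

namespace CfsgLib.Perm.ItoTwoQ

open Equiv MulAction Subgroup Cfsg CfsgLib.Char CfsgLib.Perm.CentralizerRing
open scoped _root_.Classical

variable {p q a : ℕ} [Fact p.Prime] {G : Subgroup (Equiv.Perm (ZMod p))}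

theorem eq_one_or_of_dvd_add {q : ℕ} {n c : ℤ} (h : (q : ℤ) ∣ n + c) (hn : 1 ≤ n) (hn' : n ≤ (q : ℤ) - 1)
    (hc : c = 0 ∨ c = 1 ∨ c = -1) : n = 1 ∨ n = (q : ℤ) - 1 := by
  obtain ⟨k, hk⟩ := h
  rcases le_or_gt k 0 with hk0 | hk0
  · have : (q : ℤ) * k ≤ 0 := mul_nonpos_of_nonneg_of_nonpos (by omega) hk0
    omega
  · have : (q : ℤ) ≤ (q : ℤ) * k := le_mul_of_one_le_right (by omega) (by omega)
    omega

theorem eq_or_sub_of_dvd_sub {q : ℕ} {n c e : ℤ} (h : (q : ℤ) ∣ n - e * c) (hn : 1 ≤ n)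
    (hn' : n ≤ (q : ℤ) - 1) (he : 1 ≤ e) (he' : e ≤ (q : ℤ) - 1) (hc : c = 1 ∨ c = -1) :
    n = e ∨ n = (q : ℤ) - e := by
  obtain ⟨k, hk⟩ := h
  rcases le_or_gt k 0 with hk0 | hk0
  · rcases lt_or_eq_of_le hk0 with hk1 | rfl
    · have : (q : ℤ) * k ≤ -(q : ℤ) := by
        have := mul_le_mul_of_nonneg_left (show k ≤ -1 by omega) (Int.natCast_nonneg q)
        omega
      rcases hc with rfl | rfl <;> omega
    · rcases hc with rfl | rfl <;> omega
  · rcases (show k = 1 ∨ 2 ≤ k by omega) with rfl | hk2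
    · rcases hc with rfl | rfl <;> omega
    · have : (q : ℤ) * 2 ≤ (q : ℤ) * k := mul_le_mul_of_nonneg_left hk2 (Int.natCast_nonneg q)
      rcases hc with rfl | rfl <;> omega

namespace Hyp

variable (H : Hyp p q G)
include H

theorem fusionIndex_P : fusionIndex H.P = q := by
  have h := ((centralizer (H.P : Set G)).subgroupOf (normalizer (H.P : Set G))).index_mul_card
  rw [Nat.card_congr (Subgroup.subgroupOfEquivOfLe (centralizer_le_normalizer _)).toEquiv,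
    H.card_normalizer_P] at h
  have e : Nat.card (centralizer (H.P : Set G)) = p :=
    (congrArg (fun K : Subgroup G => Nat.card K) H.centralizer_P).trans H.card_P
  have h' : fusionIndex H.P * Nat.card (centralizer (H.P : Set G)) = q * p :=
    h.trans (mul_comm p q)
  exact Nat.eq_of_mul_eq_mul_right (Fact.out : p.Prime).pos (((congrArg (fusionIndex H.P * ·) e).symm.trans h'))

theorem q_not_dvd_P {x : G} (hx : x ∈ H.P) : ¬ q ∣ orderOf x := fun hd => by
  have h1 := hd.trans (Subgroup.orderOf_dvd_natCard _ hx)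
  rw [H.card_P] at h1
  have := ((Nat.prime_dvd_prime_iff_eq H.qprime Fact.out).1 h1)
  have := H.pq
  omega

variable [Fintype G] [Fintype (IrrCharacter G)]

theorem amult_eq_of_agree [Fintype H.P] {θ φ : IrrCharacter G}
    (h : ∀ x ∈ H.P, (θ : G → ℂ) x = (φ : G → ℂ) x) (l : IrrCharacter H.P) :
    amult H.P θ l = amult H.P φ l := by
  apply Nat.cast_injective (R := ℂ)
  rw [← amult_spec, ← amult_spec]
  exact congrArg (fun f => classInner f (l : H.P → ℂ)) (funext fun x => h x x.2)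

end Hyp

namespace Graph

variable {T : ZMod p → ZMod p → ZMod p → Prop} (gr : Graph p q a G T) (H : Hyp p q G)
  [Fintype G] [Fintype (IrrCharacter G)]

include gr H

/-- The deficient constituents. -/
theorem exists_theta [Fintype H.P] [Fintype (IrrCharacter H.P)] [Fintype H.Q]
    [Fintype (IrrCharacter H.Q)] [Fintype (stabilizer G (0 : ZMod p))] {M : IrrCharacter G → ℕ}
    (hM : ∀ φ : IrrCharacter G, coef (Cfsg.permRep ℂ G (OPair p)) (proj T a q) (φ : G → ℂ) = M φ)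
    (hχ : M H.perm₁ = 1) (ht : M (trivChar G) = 0)
    (hpow : ∀ (φ : IrrCharacter G) (k : ℕ) (hk : k.Coprime (Nat.card G)), M (powConj φ hk) = M φ)
    (hdeg : ∀ φ : IrrCharacter G, φ ≠ trivChar G → φ ≠ H.perm₁ → M φ ≠ 0 →
      q - 1 ≤ charDegree (φ : G → ℂ) ∧
      (coef (Cfsg.permRep ℂ G (OPair p)) (1 - proj T a q) (φ : G → ℂ) ≠ 0 →
        2 * q - 1 ≤ charDegree (φ : G → ℂ) ∧ charDegree (φ : G → ℂ) ≠ 2 * q)) :
    ∃ (Θ : Finset (IrrCharacter G)) (e : ℕ), Θ.card * e = q - 1 ∧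
      fixDim H.P H.perm₁ = 0 ∧
      (∀ φ, φ ∉ Θ → M φ * fixDim H.P φ = 0) ∧
      (∀ θ ∈ Θ, θ ≠ H.perm₁ ∧ M θ = 1 ∧ fixDim H.P θ = e ∧
        (charDegree (θ : G → ℂ) : ℤ) = (p : ℤ) * e - 2 * q) := by
  haveI := Fact.mk H.qprime
  set ρ := Cfsg.permRep ℂ G (OPair p) with hρ
  have hP : IsEnd ρ (proj T a q) := gr.isEnd_proj
  have hsP := H.selfCentral_P
  have hsQ := H.selfCentral_Q
  have hpq := H.pq
  have hq11 := H.q11
  have hpZ : (p : ℤ) = 2 * (q : ℤ) + 1 := by exact_mod_cast hpq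
  -- the character of the range and the total fixed dimension
  have hf : trFun ρ (proj T a q) = ∑ φ : IrrCharacter G, (M φ : ℂ) • (φ : G → ℂ) := by
    funext g
    rw [trFun_eq_sum hP, Finset.sum_apply]
    exact Finset.sum_congr rfl fun φ _ => by rw [hM, Pi.smul_apply, smul_eq_mul]
  have htot : ∀ l : IrrCharacter H.P, ∑ φ, M φ * amult H.P φ l = q - 1 := by
    intro l
    apply Nat.cast_injective (R := ℂ)
    rw [← hsP.sum_mult_amult hf l, hsP.classInner_of_const (v := 0) (fun x hx =>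
      gr.trFun_proj_P H x.2 (fun e => hx (Subtype.ext e))), gr.trFun_proj_one H, ite_self, add_zero,
      sub_zero, Nat.cast_sub (by omega : 1 ≤ q), Nat.cast_one,
      mul_div_assoc, mul_comm, div_mul_cancel₀ _ (Nat.cast_ne_zero.2 (Fact.out : p.Prime).ne_zero)]
  have hχv : ∀ x : H.P, x ≠ 1 → (H.perm₁ : G → ℂ) x = -1 := fun x hx => by
    rw [H.perm₁_apply, H.card_fixedBy_P x.2 (fun e => hx (Subtype.ext e)), Nat.cast_zero, zero_sub]
  have hχl : ∀ l : IrrCharacter H.P, (amult H.P H.perm₁ l : ℂ) = 1 + if l = trivChar H.P then -1 else 0 := by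
    intro l
    rw [← amult_spec, hsP.classInner_of_const hχv, H.perm₁_one, sub_neg_eq_add,
      show (2 * (q : ℂ) + 1) = (p : ℂ) by rw [hpq]; push_cast; rfl,
      div_self (Nat.cast_ne_zero.2 (Fact.out : p.Prime).ne_zero)]
  have hχn : fixDim H.P H.perm₁ = 0 := by
    have := hχl (trivChar H.P)
    rw [if_pos rfl, add_neg_cancel, Nat.cast_eq_zero] at this
    exact this
  -- a deficient constituent
  obtain ⟨l₀, hl₀⟩ : ∃ l : IrrCharacter H.P, l ≠ trivChar H.P := by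
    by_contra hno
    push Not at hno
    have h1 := hsP.card_lchar
    rw [Fintype.card_eq_one_iff.2 ⟨trivChar H.P, hno⟩] at h1
    exact (Fact.out : p.Prime).one_lt.ne h1
  obtain ⟨φ, hφM, hφlt⟩ : ∃ φ, M φ ≠ 0 ∧ amult H.P φ l₀ < fixDim H.P φ := by
    by_contra hno
    push Not at hno
    have h1 : ∑ φ, M φ * fixDim H.P φ < ∑ φ, M φ * amult H.P φ l₀ := by
      refine Finset.sum_lt_sum (fun φ _ => ?_) ⟨H.perm₁, Finset.mem_univ _, ?_⟩
      · rcases Nat.eq_zero_or_pos (M φ) with e | e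
        · rw [e, zero_mul, zero_mul]
        · exact Nat.mul_le_mul_left _ (hno φ (by omega))
      · have e := hχl l₀
        rw [if_neg hl₀, add_zero, Nat.cast_eq_one] at e
        rw [hχ, hχn, e]
        norm_num
    rw [htot l₀, show ∑ φ, M φ * fixDim H.P φ = q - 1 from htot (trivChar H.P)] at h1
    exact lt_irrefl _ h1
  have hn1 : 1 ≤ fixDim H.P φ := by omega
  have hφχ : φ ≠ H.perm₁ := fun e => by rw [e, hχn] at hn1; omega
  have hφt : φ ≠ trivChar G := fun e => hφM (by rw [e, ht])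
  have hge : 2 * q - 1 ≤ charDegree (φ : G → ℂ) := by
    refine ((hdeg φ hφt hφχ hφM).2 fun h0 => ?_).1
    have := gr.fixDim_eq_zero H φ (by rw [hM]; exact_mod_cast hφM) h0
    omega
  set n := fixDim H.P φ with hn
  have hbound : ∀ S : Finset (IrrCharacter G), (∀ θ ∈ S, M φ * n ≤ M θ * fixDim H.P θ) →
      S.card * (M φ * n) ≤ q - 1 := by
    intro S hS
    rw [← htot (trivChar H.P)]
    calc S.card * (M φ * n) = ∑ θ ∈ S, M φ * n := by rw [Finset.sum_const, smul_eq_mul]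
      _ ≤ ∑ θ ∈ S, M θ * fixDim H.P θ := Finset.sum_le_sum hS
      _ ≤ _ := Finset.sum_le_sum_of_subset (Finset.subset_univ _)
  have hn2 : n ≤ q - 1 := by
    have h1 := hbound {φ} fun θ hθ => by rw [Finset.mem_singleton.1 hθ]
    rw [Finset.card_singleton, one_mul] at h1
    have := Nat.le_mul_of_pos_left n (Nat.pos_of_ne_zero hφM)
    omega
  -- the congruences coming from `Q`
  have hcong : ∀ d : ℤ, (charDegree (φ : G → ℂ) : ℤ) = (p : ℤ) * n + q * d →
      n = 1 ∨ n = q - 1 ∨ ∃ μ c, IsExc H.Q φ μ c ∧ (n = H.e ∨ n = q - H.e) := by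
    intro d hd
    rcases hsQ.dichotomy φ with ⟨c, hc, hC⟩ | ⟨μ, c, hX⟩
    · have e := hsQ.degree_const hC
      rw [hd] at e
      have hdvd : (q : ℤ) ∣ (n : ℤ) + c := ⟨(fixDim H.Q φ : ℤ) + c - 2 * n - d, by
        linear_combination e - (n : ℤ) * hpZ⟩
      rcases eq_one_or_of_dvd_add hdvd (by omega) (by omega) hc with e1 | e1
      · exact Or.inl (by omega)
      · exact Or.inr (Or.inl (by omega))
    · have e := hsQ.degree_exc hX
      rw [hd] at e
      have hdvd : (q : ℤ) ∣ (n : ℤ) - (H.e : ℤ) * c := ⟨(fixDim H.Q φ : ℤ) - 2 * n - d, by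
        rw [Hyp.e]
        linear_combination e - (n : ℤ) * hpZ⟩
      obtain ⟨Θ, -, hcard, h2, -⟩ := hsQ.exists_family hX
      rw [← Hyp.e] at hcard
      have he2 : 2 * H.e ≤ q - 1 := by rw [← hcard]; exact Nat.mul_le_mul_right _ h2
      have := H.two_le_e
      rcases eq_or_sub_of_dvd_sub hdvd (by omega) (by omega) (by omega) (by omega) hX.2.1 with e1 | e1
      · exact Or.inr (Or.inr ⟨μ, c, hX, Or.inl (by omega)⟩)
      · exact Or.inr (Or.inr ⟨μ, c, hX, Or.inr (by omega)⟩)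
  have hfamQ : ∀ {μ c}, IsExc H.Q φ μ c → ∃ Θ : Finset (IrrCharacter G), φ ∈ Θ ∧
      Θ.card * H.e = q - 1 ∧ 2 ≤ Θ.card ∧
      ∀ θ ∈ Θ, M θ = M φ ∧ ∀ x ∈ H.P, (θ : G → ℂ) x = (φ : G → ℂ) x := by
    intro μ c hX
    obtain ⟨Θ, hmem, hcard, h2, hall⟩ := hsQ.exists_family hX
    refine ⟨Θ, hmem, hcard, h2, fun θ hθ => ?_⟩
    obtain ⟨-, k, hk, -, hθe, -, hreg⟩ := hall θ hθ
    exact ⟨by rw [hθe, hpow], fun x hx => hreg x (H.q_not_dvd_P hx)⟩
  have hfix : ∀ θ : IrrCharacter G, (∀ x ∈ H.P, (θ : G → ℂ) x = (φ : G → ℂ) x) → fixDim H.P θ = n :=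
    fun θ hθ => H.amult_eq_of_agree hθ (trivChar H.P)
  rcases hsP.dichotomy φ with ⟨c, hc, hC⟩ | ⟨μ, c, hX⟩
  · -- constant on `P`
    have hc1 : c = -1 := by
      have := hC l₀ hl₀
      rcases hc with rfl | rfl | rfl <;> omega
    subst hc1
    have hd : (charDegree (φ : G → ℂ) : ℤ) = (p : ℤ) * n - 2 * q := by
      rw [hsP.degree_const hC, hn]; linear_combination -hpZ
    have hne1 : n ≠ 1 := fun e1 => hφt (H.eq_triv_of_degree_one (by
      rw [CfsgLib.Blocks.apply_one_eq_charDegree]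
      rw [e1] at hd
      have : charDegree (φ : G → ℂ) = 1 := by push_cast at hd; omega
      rw [this, Nat.cast_one]))
    obtain ⟨Θ, hΘmem, hΘcard, hΘ⟩ : ∃ Θ : Finset (IrrCharacter G), φ ∈ Θ ∧ Θ.card * n = q - 1 ∧
        ∀ θ ∈ Θ, M θ = M φ ∧ ∀ x ∈ H.P, (θ : G → ℂ) x = (φ : G → ℂ) x := by
      rcases hcong (-2) (by rw [hd]; ring) with e1 | e1 | ⟨μ, c, hX, e1 | e1⟩
      · exact absurd e1 hne1
      · exact ⟨{φ}, Finset.mem_singleton_self _, by rw [Finset.card_singleton, one_mul, e1],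
          fun θ hθ => by rw [Finset.mem_singleton.1 hθ]; exact ⟨rfl, fun x _ => rfl⟩⟩
      · obtain ⟨Θ, h1, h2, -, h4⟩ := hfamQ hX
        exact ⟨Θ, h1, by rw [e1, h2], h4⟩
      · exfalso
        obtain ⟨Θ, h1, h2, h3, h4⟩ := hfamQ hX
        have h5 := hbound Θ fun θ hθ => by rw [(h4 θ hθ).1, hfix θ (h4 θ hθ).2]
        have he2 : 2 * H.e ≤ q - 1 := by rw [← h2]; exact Nat.mul_le_mul_right _ h3
        have h6 : n ≤ M φ * n := Nat.le_mul_of_pos_left n (Nat.pos_of_ne_zero hφM)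
        have h7 : 2 * (M φ * n) ≤ Θ.card * (M φ * n) := Nat.mul_le_mul_right _ h3
        omega
    have hM1 : M φ = 1 := by
      have h5 := hbound Θ fun θ hθ => by rw [(hΘ θ hθ).1, hfix θ (hΘ θ hθ).2]
      rw [← hΘcard] at h5
      have h6 := Nat.le_of_mul_le_mul_left h5 (Finset.card_pos.2 ⟨φ, hΘmem⟩)
      have : M φ ≤ 1 := Nat.le_of_mul_le_mul_right (by rw [one_mul]; exact h6) hn1
      omega
    refine ⟨Θ, n, hΘcard, hχn, fun ψ hψ => ?_, fun θ hθ => ⟨?_, ?_, hfix θ (hΘ θ hθ).2, ?_⟩⟩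
    · have h5 : ∑ θ ∈ Θ, M θ * fixDim H.P θ = q - 1 := by
        rw [Finset.sum_congr rfl fun θ hθ => by rw [(hΘ θ hθ).1, hfix θ (hΘ θ hθ).2, hM1, one_mul],
          Finset.sum_const, smul_eq_mul, hΘcard]
      have h6 := Finset.sum_add_sum_compl Θ (fun θ => M θ * fixDim H.P θ)
      rw [h5, show ∑ φ, M φ * fixDim H.P φ = q - 1 from htot (trivChar H.P)] at h6
      have h7 : ∑ θ ∈ Θᶜ, M θ * fixDim H.P θ = 0 := by omega
      exact Finset.sum_eq_zero_iff.1 h7 ψ (Finset.mem_compl.2 hψ)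
    · intro e
      have := hfix θ (hΘ θ hθ).2
      rw [e, hχn] at this
      omega
    · rw [(hΘ θ hθ).1, hM1]
    · have hv : (θ : G → ℂ) 1 = (φ : G → ℂ) 1 := (hΘ θ hθ).2 1 (one_mem _)
      rw [CfsgLib.Blocks.apply_one_eq_charDegree, CfsgLib.Blocks.apply_one_eq_charDegree, Nat.cast_inj] at hv
      rw [hv, hd]
  · -- exceptional on `P`
    exfalso
    have hc1 : c = -1 := by
      have h1 := hX.2.2.1 l₀ hl₀
      rcases hX.2.1 with rfl | rfl
      · split_ifs at h1 <;> omega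
      · rfl
    subst hc1
    obtain ⟨Φ, hΦmem, hΦcard, hΦ2, hΦ⟩ := hsP.exists_family hX
    have hd : (charDegree (φ : G → ℂ) : ℤ) = (p : ℤ) * n - q := by
      rw [hsP.degree_exc hX, H.fusionIndex_P]; rw [hn]; ring
    have hΦeq : ∀ θ ∈ Φ, M φ * n ≤ M θ * fixDim H.P θ := fun θ hθ => by
      obtain ⟨-, k, hk, -, hθe, hθn, -⟩ := hΦ θ hθ
      rw [hθn, hθe, hpow]
    have h5 := hbound Φ hΦeq
    have h6 : n ≤ M φ * n := Nat.le_mul_of_pos_left n (Nat.pos_of_ne_zero hφM)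
    have h7 : 2 * (M φ * n) ≤ Φ.card * (M φ * n) := Nat.mul_le_mul_right _ hΦ2
    rcases hcong (-1) (by rw [hd]; ring) with e1 | e1 | ⟨μ', c', hX', e1 | e1⟩
    · rw [e1] at hd
      push_cast at hd
      omega
    · omega
    · obtain ⟨Θ, h1, h2, h3, h4⟩ := hfamQ hX'
      obtain ⟨θ', hθ', hne⟩ := Finset.exists_mem_ne hΦ2 φ
      obtain ⟨hdiff, -⟩ := hΦ θ' hθ'
      obtain ⟨x, hx, hxne⟩ := hdiff hne
      have hnot : θ' ∉ Θ := fun h => hxne ((h4 θ' h).2 x hx)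
      have h8 := hbound (insert θ' Θ) fun θ hθ => by
        rcases Finset.mem_insert.1 hθ with rfl | hθ
        · exact hΦeq θ hθ'
        · rw [(h4 θ hθ).1, hfix θ (h4 θ hθ).2]
      rw [Finset.card_insert_of_notMem hnot, add_mul, one_mul] at h8
      have h9 : Θ.card * n ≤ Θ.card * (M φ * n) := Nat.mul_le_mul_left _ h6
      rw [e1, h2] at h9
      rw [e1] at h6 h8
      have := H.two_le_e
      omega
    · obtain ⟨Θ, h1, h2, h3, h4⟩ := hfamQ hX'
      have : 2 * H.e ≤ q - 1 := by rw [← h2]; exact Nat.mul_le_mul_right _ h3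
      omega

theorem rank_three_false : False := by
  haveI := Fintype.ofFinite (stabilizer G (0 : ZMod p))
  haveI := Fintype.ofFinite H.P
  haveI := Fintype.ofFinite (IrrCharacter H.P)
  haveI := Fintype.ofFinite H.Q
  haveI := Fintype.ofFinite (IrrCharacter H.Q)
  obtain ⟨M, hM, hχ, ht, hpow, hdeg⟩ := gr.exists_mult H
  obtain ⟨Θ, e, hcard, hχn, hoff, hΘ⟩ := gr.exists_theta H hM hχ ht hpow hdeg
  set ρ := Cfsg.permRep ℂ G (OPair p) with hρ
  have hP : IsEnd ρ (proj T a q) := gr.isEnd_proj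
  have hPP := gr.proj_mul_proj H
  have hT : IsEnd ρ (mid T a q) := gr.isEnd_mid
  have hpq := H.pq
  have hsP := H.selfCentral_P
  set χ := H.perm₁ with hχdef
  set R := (Finset.univ.erase χ) \ Θ with hR
  have hsplit : ∀ F : IrrCharacter G → ℂ, ∑ φ, F φ = F χ + ∑ θ ∈ Θ, F θ + ∑ φ ∈ R, F φ := by
    intro F
    rw [add_assoc, hR, ← Finset.add_sum_erase _ _ (Finset.mem_univ χ)]
    congr 1
    rw [add_comm, Finset.sum_sdiff]
    intro θ hθ
    exact Finset.mem_erase.2 ⟨(hΘ θ hθ).1, Finset.mem_univ _⟩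
  -- the remaining constituents
  have hrest : ∀ φ ∈ R, ∃ z : ℤ,
      coef ρ (mid T a q) (φ : G → ℂ) * (charDegree (φ : G → ℂ) : ℂ) = (q : ℂ) * z ∧
      coef ρ (mid T a q * mid T a q) (φ : G → ℂ) = (M φ : ℂ) ∧
      coef ρ (mid T a q) (φ : G → ℂ) * (fixDim H.P φ : ℂ) = 0 ∧
      (M φ : ℂ) * (fixDim H.P φ : ℂ) = 0 := by
    intro φ hφ
    obtain ⟨hφ1, hφΘ⟩ := Finset.mem_sdiff.1 hφ
    have hφχ := Finset.ne_of_mem_erase hφ1
    rcases Nat.eq_zero_or_pos (M φ) with h0 | hpos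
    · have hc : coef ρ (proj T a q) (φ : G → ℂ) = 0 := by rw [hM, h0, Nat.cast_zero]
      refine ⟨0, ?_, ?_, ?_, by rw [h0, Nat.cast_zero, zero_mul]⟩
      · rw [coef_eq_zero_of_proj hP hPP (gr.mid_mul_proj H) φ hc]; simp
      · rw [coef_eq_zero_of_proj hP hPP (by rw [mul_assoc, gr.mid_mul_proj H]) φ hc, h0, Nat.cast_zero]
      · rw [coef_eq_zero_of_proj hP hPP (gr.mid_mul_proj H) φ hc, zero_mul]
    · have hn : fixDim H.P φ = 0 := (mul_eq_zero.1 (hoff φ hφΘ)).resolve_left (by omega)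
      have hφt : φ ≠ trivChar G := fun e => by rw [e, ht] at hpos; omega
      obtain ⟨hlow, hcomp⟩ := hdeg φ hφt hφχ (by omega)
      have hq11 := H.q11
      have hd : charDegree (φ : G → ℂ) = q ∨ charDegree (φ : G → ℂ) = 2 * q := by
        rcases hsP.dichotomy φ with ⟨c, hc, hC⟩ | ⟨μ, c, hX⟩
        · have e1 := hsP.degree_const hC
          rw [hn] at e1
          push_cast at e1
          have hpZ : (p : ℤ) = 2 * (q : ℤ) + 1 := by exact_mod_cast hpq
          rcases hc with rfl | rfl | rfl <;> omega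
        · have e1 := hsP.degree_exc hX
          rw [hn, H.fusionIndex_P] at e1
          rcases hX.2.1 with rfl | rfl <;> omega
      have hN0 : coef ρ (1 - proj T a q) (φ : G → ℂ) = 0 := by
        by_contra hne
        obtain ⟨h1, h2⟩ := hcomp hne
        omega
      obtain ⟨⟨z, hz⟩, h2⟩ := coef_compress hP hPP isEnd_swapOp swapOp_mul_swapOp φ hN0
      obtain ⟨k, hk⟩ : ∃ k : ℕ, charDegree (φ : G → ℂ) = q * k := by
        rcases hd with h | h
        · exact ⟨1, by rw [h, mul_one]⟩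
        · exact ⟨2, by rw [h, mul_comm]⟩
      refine ⟨z * k, ?_, h2.trans (hM φ), by rw [hn, Nat.cast_zero, mul_zero],
        by rw [hn, Nat.cast_zero, mul_zero]⟩
      rw [show coef ρ (mid T a q) (φ : G → ℂ) = z from hz, hk]
      push_cast
      ring
  choose! z hz1 hz2 hz3 hz4 using hrest
  have hscal : ∀ θ ∈ Θ, coef ρ (mid T a q * mid T a q) (θ : G → ℂ) =
      coef ρ (mid T a q) (θ : G → ℂ) * coef ρ (mid T a q) (θ : G → ℂ) := by
    intro θ hθ
    obtain ⟨t, -, h1, h2⟩ := exists_scalar hP hPP hT (gr.proj_mul_mid H) (gr.mid_mul_proj H) θ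
      (by rw [hM, (hΘ θ hθ).2.1, Nat.cast_one])
    rw [h2, h1]
  obtain ⟨hchi, hchi2⟩ := gr.scalar_perm₁ H (by rw [hM, hχ, Nat.cast_one])
  rw [← hχdef] at hchi hchi2
  set D : ℂ := (p : ℂ) * e - 2 * q with hDdef
  have hDθ : ∀ θ ∈ Θ, (charDegree (θ : G → ℂ) : ℂ) = D := fun θ hθ => by
    have e1 := congrArg (fun x : ℤ => (x : ℂ)) (hΘ θ hθ).2.2.2
    push_cast at e1
    exact e1
  have hdχ : (charDegree (χ : G → ℂ) : ℂ) = 2 * q := by
    rw [← CfsgLib.Blocks.apply_one_eq_charDegree, hχdef, H.perm₁_one]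
  set t := coef ρ (mid T a q) (χ : G → ℂ) with htdef
  set S₁ := ∑ θ ∈ Θ, coef ρ (mid T a q) (θ : G → ℂ) with hS1
  set S₂ := ∑ θ ∈ Θ, coef ρ (mid T a q) (θ : G → ℂ) * coef ρ (mid T a q) (θ : G → ℂ) with hS2
  have e1 : D * S₁ + 2 * q * t + q * ((∑ φ ∈ R, z φ : ℤ) : ℂ) = 0 := by
    rw [← gr.trace_mid H, sum_coef hT, hsplit, Finset.sum_congr rfl fun θ (hθ : θ ∈ Θ) =>
      show coef ρ (mid T a q) (θ : G → ℂ) * _ = coef ρ (mid T a q) (θ : G → ℂ) * D by rw [hDθ θ hθ],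
      ← Finset.sum_mul, hdχ, Finset.sum_congr rfl fun φ hφ => hz1 φ hφ, ← Finset.mul_sum, Int.cast_sum]
    ring
  have hp0 : (p : ℂ) ≠ 0 := Nat.cast_ne_zero.2 (Fact.out : p.Prime).ne_zero
  have e2 : (2 * (a : ℂ) + 1) * ((e : ℂ) * S₁) =
      2 * ((a : ℂ) ^ 2 - q * ((if T 0 1 (-1) then 1 else 0 : ℕ) : ℂ)) := by
    refine mul_left_cancel₀ hp0 ?_
    rw [Nat.cast_ite, Nat.cast_one, Nat.cast_zero, ← gr.psum_mid H, psum_coef hT H.P, H.card_P, hsplit,
      hχn, Nat.cast_zero, mul_zero, Finset.sum_congr rfl fun θ hθ => by rw [(hΘ θ hθ).2.2.1],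
      ← Finset.sum_mul, Finset.sum_eq_zero fun φ hφ => hz3 φ hφ]
    ring
  have hrestdeg : ∑ φ ∈ R, (M φ : ℂ) * (charDegree (φ : G → ℂ) : ℂ) =
      (p : ℂ) * ((q : ℂ) - 1) - 2 * q - Θ.card * D := by
    have h := sum_coef hP
    rw [gr.trFun_proj_one H, hsplit, hM, hχ, hdχ, Nat.cast_one, one_mul,
      Finset.sum_congr rfl fun θ hθ => by rw [hM, (hΘ θ hθ).2.1, hDθ θ hθ, Nat.cast_one, one_mul],
      Finset.sum_const, nsmul_eq_mul, Finset.sum_congr rfl fun φ _ => by rw [hM]] at h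
    linear_combination -h
  have e3 : (q : ℂ) * (D * S₂ + 2 * q * (t * t) + ((p : ℂ) * ((q : ℂ) - 1) - 2 * q - Θ.card * D)) =
      2 * (p : ℂ) * ((a : ℂ) * (a + 1)) ^ 2 := by
    rw [← gr.trace_mid_sq H, sum_coef (hT.mul hT), hsplit, hchi2, hdχ,
      Finset.sum_congr rfl fun θ (hθ : θ ∈ Θ) =>
        show coef ρ (mid T a q * mid T a q) (θ : G → ℂ) * _ =
          coef ρ (mid T a q) (θ : G → ℂ) * coef ρ (mid T a q) (θ : G → ℂ) * D by rw [hscal θ hθ, hDθ θ hθ],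
      ← Finset.sum_mul, Finset.sum_congr rfl fun φ (hφ : φ ∈ R) =>
        show coef ρ (mid T a q * mid T a q) (φ : G → ℂ) * (charDegree (φ : G → ℂ) : ℂ) =
          (M φ : ℂ) * (charDegree (φ : G → ℂ) : ℂ) by rw [hz2 φ hφ], hrestdeg]
    ring
  obtain ⟨V, hV⟩ := gr.exists_psum_mid_sq H
  have e4 : (2 * (a : ℂ) + 1) ^ 2 * ((e : ℂ) * S₂) = (V : ℂ) := by
    refine mul_left_cancel₀ hp0 ?_
    rw [← hV, psum_coef (hT.mul hT) H.P, H.card_P, hsplit, hχn, Nat.cast_zero, mul_zero,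
      Finset.sum_congr rfl fun θ (hθ : θ ∈ Θ) =>
        show coef ρ (mid T a q * mid T a q) (θ : G → ℂ) * _ =
          coef ρ (mid T a q) (θ : G → ℂ) * coef ρ (mid T a q) (θ : G → ℂ) * (e : ℂ) by
          rw [hscal θ hθ, (hΘ θ hθ).2.2.1],
      ← Finset.sum_mul, Finset.sum_eq_zero fun φ (hφ : φ ∈ R) =>
        show coef ρ (mid T a q * mid T a q) (φ : G → ℂ) * (fixDim H.P φ : ℂ) = 0 by
          rw [hz2 φ hφ, hz4 φ hφ]]
    ring
  exact part_one_false gr.two_le gr.hq hpq (by split_ifs <;> omega) hcard hDdef hchi e1 e2 e3 e4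

end Graph

/-- The group is triply transitive. -/
theorem Hyp.three (H : Hyp p q G) : IsMultiplyPretransitive G (ZMod p) 3 := by
  by_contra h3
  obtain ⟨a, T, gr⟩ := H.exists_graph h3
  haveI := Fintype.ofFinite G
  haveI := Fintype.ofFinite (IrrCharacter G)
  exact gr.rank_three_false H

end CfsgLib.Perm.ItoTwoQ
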