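import Cfsg.Agent.Lib.Perm.ItoTwoQ.Restrict
import Cfsg.Agent.Lib.Perm.ItoTwoQ.Cycles
import Cfsg.Agent.Lib.Perm.WielandtTwoP.Frame
import Cfsg.Agent.S0675
import Cfsg.Agent.S3612
import Mathlib

/-!
# A group of degree `p = 2 q + 1` with normalizer of order `p q`

The coordinates are such that the shift and the scalings by squares belong to the group.
-/

set_option autoImplicit false
set_option linter.all false

namespace CfsgLib.Perm.ItoTwoQ

open Equiv MulAction Subgroup
open scoped _root_.Classical

/-- The group under consideration. -/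
structure Hyp (p q : ℕ) [Fact p.Prime] (G : Subgroup (Equiv.Perm (ZMod p))) : Prop where
  qprime : q.Prime
  pq : p = 2 * q + 1
  q11 : 11 ≤ q
  shift_mem : Equiv.addRight (1 : ZMod p) ∈ G
  scale_mem : ∀ (s : ZMod p) (hs : s ≠ 0), IsSquare s → Equiv.mulLeft₀ s hs ∈ G
  norm_sylow : ∀ P : Sylow p G,
    Nat.card (Subgroup.normalizer ((P : Subgroup G) : Set G)) = p * q
  insoluble : ¬ Group.IsSolvable G
  not_four : ¬ IsMultiplyPretransitive G (ZMod p) 4

namespace Hyp

variable {p q : ℕ} [Fact p.Prime] {G : Subgroup (Equiv.Perm (ZMod p))} (H : Hyp p q G)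
include H

theorem p23 : 23 ≤ p := by have := H.pq; have := H.q11; omega

theorem qodd : q % 2 = 1 := H.qprime.eq_two_or_odd.resolve_left (by have := H.q11; omega)

theorem p_mod : p % 4 = 3 := by have := H.pq; have := H.qodd; omega

theorem q_mod_three : q % 3 = 2 := by
  have h1 := H.pq
  have h2 := H.q11
  have hp := (Fact.out : p.Prime)
  have h3 : ¬ 3 ∣ p := fun h => by rcases hp.eq_one_or_self_of_dvd 3 h with e | e <;> omega
  have h4 : ¬ 3 ∣ q := fun h => by rcases H.qprime.eq_one_or_self_of_dvd 3 h with e | e <;> omega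
  omega

theorem four_ne_zero : (4 : ZMod p) ≠ 0 := fun e => by
  have := (ZMod.natCast_eq_zero_iff 4 p).1 (by exact_mod_cast e)
  have := Nat.le_of_dvd (by norm_num) this
  have := H.p23
  omega

theorem four_ne_one : (4 : ZMod p) ≠ 1 := fun e => by
  have e3 : ((3 : ℕ) : ZMod p) = 0 := by push_cast; linear_combination e
  have := Nat.le_of_dvd (by norm_num) ((ZMod.natCast_eq_zero_iff 3 p).1 e3)
  have := H.p23
  omega

theorem four_square : IsSquare (4 : ZMod p) := ⟨2, by norm_num⟩

/-- The shift. -/
def shift : G := ⟨Equiv.addRight (1 : ZMod p), H.shift_mem⟩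

/-- The scaling by four. -/
def scale : G := ⟨Equiv.mulLeft₀ (4 : ZMod p) H.four_ne_zero, H.scale_mem _ _ H.four_square⟩

theorem shift_smul (x : ZMod p) : H.shift • x = x + 1 := rfl

theorem scale_smul (x : ZMod p) : H.scale • x = 4 * x := rfl

theorem shift_pow_smul (n : ℕ) (x : ZMod p) : H.shift ^ n • x = x + n := by
  induction n generalizing x with
  | zero => simp
  | succ n ih => rw [pow_succ, mul_smul, shift_smul, ih]; push_cast; ring

theorem scale_pow_smul (n : ℕ) (x : ZMod p) : H.scale ^ n • x = 4 ^ n * x := by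
  induction n generalizing x with
  | zero => simp
  | succ n ih => rw [pow_succ, mul_smul, scale_smul, ih, pow_succ]; ring

omit H in
theorem ext_smul {a b : G} (h : ∀ x : ZMod p, a • x = b • x) : a = b :=
  Subtype.ext (Equiv.ext h)

theorem orderOf_shift : orderOf H.shift = p := by
  refine orderOf_eq_prime (ext_smul fun x => ?_) fun e => ?_
  · rw [H.shift_pow_smul, one_smul, ZMod.natCast_self, add_zero]
  · have := congrArg (fun g : G => g • (0 : ZMod p)) e
    simp [shift_smul] at this

theorem orderOf_scale : orderOf H.scale = q := by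
  haveI := Fact.mk H.qprime
  refine orderOf_eq_prime (ext_smul fun x => ?_) fun e => ?_
  · rw [H.scale_pow_smul, one_smul,
      show q = p / 2 by have := H.pq; omega,
      (ZMod.euler_criterion p H.four_ne_zero).1 H.four_square, one_mul]
  · have := congrArg (fun g : G => g • (1 : ZMod p)) e
    simp only [scale_smul, one_smul, mul_one] at this
    exact H.four_ne_one this

theorem trans : IsPretransitive G (ZMod p) := ⟨fun x y => ⟨H.shift ^ (y - x).val, by
  rw [H.shift_pow_smul, ZMod.natCast_zmod_val, add_sub_cancel]⟩⟩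

theorem two : IsMultiplyPretransitive G (ZMod p) 2 := by
  haveI := H.trans
  exact (Cfsg.Agent.S0675.result (by rw [ZMod.card]; exact Fact.out) G).resolve_left H.insoluble

theorem prim : IsPreprimitive G (ZMod p) := by
  haveI := H.trans
  exact IsPreprimitive.of_prime_card (by rw [Nat.card_zmod]; exact Fact.out)

/-- The Sylow subgroup of order `p`. -/
def P : Subgroup G := zpowers H.shift

/-- The Sylow subgroup of order `q`. -/
def Q : Subgroup G := zpowers H.scale

theorem prim_stabilizer :
    IsPreprimitive (stabilizer G (0 : ZMod p)) ↥(SubMulAction.ofStabilizer G (0 : ZMod p)) := by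
  obtain ⟨S⟩ := (inferInstance : Nonempty (Sylow p G))
  refine Cfsg.Agent.S3612.result p Fact.out (Nat.card_zmod p) H.trans H.insoluble S ?_
    (by have := H.p23; omega) 0
  rw [H.norm_sylow S, show p - 1 = 2 * q by have := H.pq; omega]
  ring

theorem card_P : Nat.card H.P = p := by rw [P, Nat.card_zpowers, H.orderOf_shift]

theorem card_Q : Nat.card H.Q = q := by rw [Q, Nat.card_zpowers, H.orderOf_scale]

omit H in
theorem card_dvd_factorial : Nat.card G ∣ Nat.factorial p := by
  have h := Subgroup.card_subgroup_dvd_card G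
  rwa [Nat.card_perm, Nat.card_zmod] at h

theorem not_dvd_index_P : ¬ p ∣ H.P.index := by
  intro h
  have hp := (Fact.out : p.Prime)
  have h2 : p * p ∣ Nat.card G := by
    rw [← H.P.card_mul_index, H.card_P]
    exact mul_dvd_mul_left p h
  have h3 := h2.trans card_dvd_factorial
  rw [← Nat.mul_factorial_pred hp.ne_zero] at h3
  have h4 := hp.dvd_factorial.1 (Nat.dvd_of_mul_dvd_mul_left hp.pos h3)
  have := hp.pos
  omega

theorem centralizer_P : centralizer (H.P : Set G) = H.P := by
  refine le_antisymm (fun c hc => ?_) (Subgroup.le_centralizer_iff_isMulCommutative.2 ?_)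
  · have hc' := mem_centralizer_iff.1 hc
    have hc1 : ∀ x : ZMod p, c • (x + 1) = c • x + 1 := fun x => by
      rw [← H.shift_smul, ← H.shift_smul, ← mul_smul, ← mul_smul,
        hc' H.shift (mem_zpowers H.shift)]
    have hn : ∀ n : ℕ, c • (n : ZMod p) = c • (0 : ZMod p) + n := by
      intro n
      induction n with
      | zero => simp
      | succ n ih => rw [Nat.cast_succ, hc1, ih]; ring
    have : c = H.shift ^ (c • (0 : ZMod p)).val := ext_smul fun x => by
      rw [H.shift_pow_smul, ZMod.natCast_zmod_val, ← ZMod.natCast_zmod_val x, hn]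
      ring
    rw [this]
    exact pow_mem (mem_zpowers _) _
  · unfold P; infer_instance

theorem four_pow_ne_one {n : ℕ} (h : ¬ q ∣ n) : (4 : ZMod p) ^ n ≠ 1 := by
  intro e
  apply h
  rw [← H.orderOf_scale]
  exact orderOf_dvd_of_pow_eq_one (ext_smul fun x => by
    rw [H.scale_pow_smul, e, one_mul, one_smul])

theorem smul_Q_fix {g : G} (hg : g ∈ H.Q) (hg1 : g ≠ 1) (x : ZMod p) : g • x = x ↔ x = 0 := by
  obtain ⟨n, rfl⟩ := Submonoid.mem_powers_iff _ _ |>.1 ((mem_powers_iff_mem_zpowers).2 hg)
  rw [H.scale_pow_smul]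
  refine ⟨fun e => ?_, fun e => by rw [e, mul_zero]⟩
  have hn : ¬ q ∣ n := fun hd => hg1 (by
    rw [← H.orderOf_scale] at hd
    exact orderOf_dvd_iff_pow_eq_one.1 hd)
  have : ((4 : ZMod p) ^ n - 1) * x = 0 := by linear_combination e
  exact (mul_eq_zero.1 this).resolve_left (sub_ne_zero.2 (H.four_pow_ne_one hn))

theorem no_short_cycle {g : Equiv.Perm (ZMod p)} (hg : g ∈ G) (hc : g.IsCycle) :
    g.support.card ≠ q := by
  intro hs
  apply H.not_four
  haveI := H.prim
  have h1 := H.pq
  have h2 := H.q11
  have hsum := Set.ncard_add_ncard_compl (g.support : Set (ZMod p))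
  rw [Set.ncard_coe_finset, Nat.card_zmod, hs] at hsum
  have hn : ((g.support : Set (ZMod p))ᶜ).ncard = q + 1 := by omega
  have := Equiv.Perm.isPretransitive_of_isCycle_mem hc hg
  have h := H.prim.isMultiplyPreprimitive (s := (g.supportᶜ : Set (ZMod p))) hn
    (by rw [Nat.card_zmod]; omega)
    (IsPreprimitive.of_prime_card (by
      convert! (hs ▸ H.qprime : (g.support.card).Prime) using 1
      rw [Nat.card_eq_fintype_card, Fintype.card_subtype]
      congr 1
      ext x
      simp [SubMulAction.mem_ofFixingSubgroup_iff]))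
  haveI := h.isMultiplyPretransitive
  exact isMultiplyPretransitive_of_le (n := q + 2) (by omega) (by rw [Nat.card_zmod]; omega)

theorem sq_not_dvd : ¬ q ^ 2 ∣ Nat.card G := by
  intro hd
  haveI := Fact.mk H.qprime
  have h1 := H.pq
  have h2 := H.q11
  obtain ⟨S⟩ := (inferInstance : Nonempty (Sylow q G))
  obtain ⟨U, hU⟩ := (S.isPGroup'.map G.subtype).exists_le_sylow
  have hfac : padicValNat q (Nat.factorial p) = 2 := by
    have hlog : Nat.log q p < 2 := Nat.log_lt_of_lt_pow (by omega) (by
      rw [pow_two]
      have : 3 * q ≤ q * q := Nat.mul_le_mul_right q (by omega)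
      omega)
    rw [padicValNat_factorial hlog, show Finset.Ico 1 2 = {1} from rfl, Finset.sum_singleton, pow_one, h1]
    rw [show (2 * q + 1) / q = 2 by
      rw [mul_comm, Nat.mul_add_div H.qprime.pos, Nat.div_eq_of_lt (by omega)]]
  have hUc : Nat.card U = q ^ 2 := by
    rw [U.card_eq_multiplicity, Nat.card_perm, Nat.card_zmod, Nat.factorization_def _ H.qprime, hfac]
  have hUG : (U : Subgroup (Equiv.Perm (ZMod p))) ≤ G := by
    have hSc : q ^ 2 ≤ Nat.card ((S : Subgroup G).map G.subtype) := by
      rw [Subgroup.card_map_of_injective G.subtype_injective]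
      refine Nat.le_of_dvd Nat.card_pos ?_
      rw [S.card_eq_multiplicity]
      exact pow_dvd_pow q ((H.qprime.pow_dvd_iff_le_factorization Nat.card_pos.ne').1 hd)
    have : (S : Subgroup G).map G.subtype = (U : Subgroup _) :=
      Subgroup.eq_of_le_of_card_ge hU (le_of_eq_of_le hUc hSc)
    rw [← this]
    exact Subgroup.map_subtype_le _
  let l : List (ZMod p) := (List.range q).map Nat.cast
  have hl : l.Nodup := List.Nodup.map_on (fun a ha b hb e => by
    rw [List.mem_range] at ha hb
    have := (ZMod.natCast_eq_natCast_iff' a b p).1 e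
    rwa [Nat.mod_eq_of_lt (by omega), Nat.mod_eq_of_lt (by omega)] at this) List.nodup_range
  have hlen : l.length = q := by simp [l]
  have hcyc : (l.formPerm).IsCycle := List.isCycle_formPerm hl (by omega)
  have hsupp : (l.formPerm).support.card = q := by
    rw [List.support_formPerm_of_nodup l hl (fun x e => by rw [e] at hlen; simp at hlen; omega),
      List.toFinset_card_of_nodup hl, hlen]
  have ho : orderOf l.formPerm = q := by rw [hcyc.orderOf, hsupp]
  obtain ⟨T, hT⟩ := (IsPGroup.of_card (p := q) (G := zpowers l.formPerm) (n := 1)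
    (by rw [Nat.card_zpowers, ho, pow_one])).exists_le_sylow
  obtain ⟨w, hw⟩ := MulAction.exists_smul_eq (Equiv.Perm (ZMod p)) T U
  have hmem : w * l.formPerm * w⁻¹ ∈ (U : Subgroup _) := by
    have h3 : MulAut.conj w l.formPerm ∈ ((w • T : Sylow q _) : Subgroup (Equiv.Perm (ZMod p))) :=
      Subgroup.smul_mem_pointwise_smul _ _ _ (hT (mem_zpowers _))
    rw [hw] at h3
    exact h3
  exact H.no_short_cycle (hUG hmem) (hcyc.conj) (by rw [Equiv.Perm.card_support_conj, hsupp])

theorem not_dvd_index_Q : ¬ q ∣ H.Q.index := fun h => H.sq_not_dvd (by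
  rw [← H.Q.card_mul_index, H.card_Q, pow_two]
  exact mul_dvd_mul_left q h)

/-- The Sylow subgroup as a bundled object. -/
noncomputable def sylowP : Sylow p G :=
  (IsPGroup.of_card (n := 1) (by rw [H.card_P, pow_one]) : IsPGroup p H.P).toSylow H.not_dvd_index_P

theorem card_normalizer_P : Nat.card (normalizer (H.P : Set G)) = p * q := H.norm_sylow H.sylowP

theorem shift_mem_normalizer : H.shift ∈ normalizer (H.P : Set G) :=
  le_normalizer (mem_zpowers _)

theorem scale_conj_shift : H.scale * H.shift * H.scale⁻¹ = H.shift ^ 4 := by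
  rw [mul_inv_eq_iff_eq_mul]
  refine ext_smul fun x => ?_
  rw [mul_smul, mul_smul, scale_smul, scale_smul, shift_smul, shift_pow_smul]
  push_cast
  ring

theorem scale_mem_normalizer : H.scale ∈ normalizer (H.P : Set G) := by
  refine Subgroup.mem_normalizer_iff.2 fun g => ?_
  have himg : H.P.map (MulAut.conj H.scale).toMonoidHom = H.P := by
    refine Subgroup.eq_of_le_of_card_ge ?_
      (le_of_eq (Subgroup.card_map_of_injective (MulAut.conj H.scale).injective).symm)
    rintro _ ⟨y, hy, rfl⟩
    obtain ⟨n, rfl⟩ := mem_zpowers_iff.1 hy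
    show H.scale * H.shift ^ n * H.scale⁻¹ ∈ H.P
    rw [← conj_zpow, H.scale_conj_shift]
    exact zpow_mem (pow_mem (mem_zpowers _) _) _
  constructor
  · intro hg
    rw [← himg]
    exact ⟨g, hg, rfl⟩
  · intro hg
    rw [← himg] at hg
    obtain ⟨y, hy, e⟩ := hg
    rwa [← (MulAut.conj H.scale).injective e]

/-- A subgroup containing both generators contains the normalizer of `P`. -/
theorem normalizer_P_le {K : Subgroup G} (h1 : H.shift ∈ K) (h2 : H.scale ∈ K) :
    normalizer (H.P : Set G) ≤ K := by
  have e : normalizer (H.P : Set G) ⊓ K = normalizer (H.P : Set G) := by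
    refine Subgroup.eq_of_le_of_card_ge inf_le_left ?_
    rw [H.card_normalizer_P]
    refine Nat.le_of_dvd Nat.card_pos (Nat.Coprime.mul_dvd_of_dvd_of_dvd ?_ ?_ ?_)
    · refine (Nat.coprime_primes Fact.out H.qprime).2 ?_
      have := H.pq; omega
    · exact (dvd_of_eq H.orderOf_shift.symm).trans
        (Subgroup.orderOf_dvd_natCard _ ⟨H.shift_mem_normalizer, h1⟩)
    · exact (dvd_of_eq H.orderOf_scale.symm).trans
        (Subgroup.orderOf_dvd_natCard _ ⟨H.scale_mem_normalizer, h2⟩)
  exact inf_eq_left.1 e

/-- A normal subgroup containing both generators is everything. -/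
theorem eq_top_of_normal {K : Subgroup G} [K.Normal] (h1 : H.shift ∈ K) (h2 : H.scale ∈ K) :
    K = ⊤ := by
  have h := H.sylowP.normalizer_sup_eq_top' (N := K) (by
    show H.P ≤ K
    exact zpowers_le.2 h1)
  exact (sup_eq_right.2 (H.normalizer_P_le h1 h2)).symm.trans h

theorem le_alternating : G ≤ alternatingGroup (ZMod p) := by
  let f : G →* ℤˣ := Equiv.Perm.sign.comp G.subtype
  have hker : ∀ {g : G}, Odd (orderOf g) → g ∈ f.ker := fun {g} hg => by
    rw [MonoidHom.mem_ker]
    rcases Int.units_eq_one_or (f g) with e | e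
    · exact e
    · have h1 : f g ^ orderOf g = 1 := by rw [← map_pow, pow_orderOf_eq_one, map_one]
      rw [e, hg.neg_one_pow] at h1
      exact absurd h1 (by decide)
  have h := H.eq_top_of_normal (K := f.ker)
    (hker (by rw [H.orderOf_shift]; exact Nat.odd_iff.2 (by have := H.p_mod; omega)))
    (hker (by rw [H.orderOf_scale]; exact Nat.odd_iff.2 H.qodd))
  intro g hg
  have : (⟨g, hg⟩ : G) ∈ f.ker := h ▸ Subgroup.mem_top _
  exact Equiv.Perm.mem_alternatingGroup.2 this

theorem exists_scale {s : ZMod p} (hs : s ≠ 0) (hss : IsSquare s) :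
    ∃ g ∈ H.Q, ∀ x : ZMod p, g • x = s * x := by
  haveI := Fact.mk H.qprime
  have hq2 : q = p / 2 := by have := H.pq; omega
  have h4 : (4 : ZMod p) ^ q = 1 := by
    rw [hq2]; exact (ZMod.euler_criterion p H.four_ne_zero).1 H.four_square
  have ho : orderOf (4 : ZMod p) = q := orderOf_eq_prime h4 H.four_ne_one
  have hsq : s ^ q = 1 := by
    rw [hq2]; exact (ZMod.euler_criterion p hs).1 hss
  haveI : NeZero q := ⟨H.qprime.ne_zero⟩
  obtain ⟨n, -, hn⟩ := (ho ▸ IsPrimitiveRoot.orderOf (4 : ZMod p)).eq_pow_of_pow_eq_one hsq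
  exact ⟨H.scale ^ n, pow_mem (mem_zpowers _) n, fun x => by rw [H.scale_pow_smul, hn]⟩

theorem card_nonsquare :
    (Finset.univ.filter fun x : ZMod p => x ≠ 0 ∧ cls x = false).card = q := by
  have h1 := H.pq
  set A := Finset.univ.filter fun x : ZMod p => x ≠ 0 ∧ cls x = false with hA
  set B := Finset.univ.filter fun x : ZMod p => x ≠ 0 ∧ cls x = true with hB
  have hAB : A.card = B.card := by
    refine Finset.card_nbij' (fun x => -x) (fun x => -x) ?_ ?_ (fun x _ => neg_neg x)
      (fun x _ => neg_neg x) <;>
    · intro x hx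
      simp only [hA, hB, Finset.coe_filter, Finset.mem_univ, true_and, Set.mem_setOf_eq] at hx ⊢
      exact ⟨neg_ne_zero.2 hx.1, by rw [cls_neg H.p_mod hx.1, hx.2]; rfl⟩
  have hsum : A.card + B.card = p - 1 := by
    rw [← Finset.card_union_of_disjoint (by
      rw [Finset.disjoint_left]
      intro x hx hx'
      simp only [hA, hB, Finset.mem_filter] at hx hx'
      rw [hx.2.2] at hx'
      exact absurd hx'.2.2 (by simp))]
    rw [show A ∪ B = (Finset.univ : Finset (ZMod p)).erase 0 by
      ext x
      simp only [hA, hB, Finset.mem_union, Finset.mem_filter, Finset.mem_univ, true_and,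
        Finset.mem_erase, and_true]
      cases h : cls x <;> simp,
      Finset.card_erase_of_mem (Finset.mem_univ _), Finset.card_univ, ZMod.card]
  omega

theorem centralizer_Q : centralizer (H.Q : Set G) = H.Q := by
  refine le_antisymm (fun c hc => ?_) (Subgroup.le_centralizer_iff_isMulCommutative.2 (by
    unfold Q; infer_instance))
  have hc' : ∀ s : ZMod p, s ≠ 0 → IsSquare s → ∀ x : ZMod p, c • (s * x) = s * (c • x) := by
    intro s hs hss x
    obtain ⟨g, hg, hgs⟩ := H.exists_scale hs hss
    rw [← hgs, ← hgs, ← mul_smul, ← mul_smul, mem_centralizer_iff.1 hc g hg]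
  have h0 : c • (0 : ZMod p) = 0 := by
    have e := hc' 4 H.four_ne_zero H.four_square 0
    rw [mul_zero] at e
    have : ((4 : ZMod p) - 1) * (c • (0 : ZMod p)) = 0 := by linear_combination -e
    exact (mul_eq_zero.1 this).resolve_left (sub_ne_zero.2 H.four_ne_one)
  set a := c • (1 : ZMod p) with ha
  set b := -(c • (-1 : ZMod p)) with hb
  have ha0 : a ≠ 0 := fun e => one_ne_zero (MulAction.injective c ((ha ▸ e).trans h0.symm))
  have hb0 : b ≠ 0 := fun e => neg_ne_zero.2 one_ne_zero
    (MulAction.injective c ((neg_eq_zero.1 (hb ▸ e)).trans h0.symm))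
  have hval : ∀ x : ZMod p, c • x = (if cls x then a else b) * x := by
    intro x
    rcases eq_or_ne x 0 with rfl | hx
    · rw [h0, mul_zero]
    cases h : cls x
    · have hn : cls (-x) = true := by rw [cls_neg H.p_mod hx, h]; rfl
      have hs : IsSquare (-x) := by simpa [cls] using hn
      rw [show x = -x * -1 by ring, hc' _ (neg_ne_zero.2 hx) hs, if_neg (by simp), hb]
      ring
    · have hs : IsSquare x := by simpa [cls] using h
      rw [if_pos rfl]
      conv_lhs => rw [← mul_one x]
      rw [hc' _ hx hs, mul_comm, ha]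
  have hsame : cls a = cls b := by
    by_contra hne
    -- otherwise both orbits go to one
    set y := -(b / a) with hy
    have hy0 : y ≠ 0 := neg_ne_zero.2 (div_ne_zero hb0 ha0)
    have hyc : cls y = true := by
      rw [hy, cls_neg H.p_mod (div_ne_zero hb0 ha0)]
      have : cls (b / a) = false := by
        rw [cls_false (div_ne_zero hb0 ha0), div_eq_mul_inv, qc_mul, qc_inv]
        cases h : cls a <;> cases h' : cls b
        · exact absurd (h.trans h'.symm) hne
        · rw [(cls_false ha0).1 h, (cls_true hb0).1 h']; ring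
        · rw [(cls_true ha0).1 h, (cls_false hb0).1 h']; ring
        · exact absurd (h.trans h'.symm) hne
      rw [this]; rfl
    have h1 : c • y = c • (-1 : ZMod p) := by
      rw [hval y, hyc, if_pos rfl, hy, hval (-1), cls_neg H.p_mod one_ne_zero]
      simp [cls]
      field_simp
    have := MulAction.injective c h1
    rw [this, cls_neg H.p_mod one_ne_zero] at hyc
    simp [cls] at hyc
  haveI := Fact.mk H.qprime
  have hq2 : q = p / 2 := by have := H.pq; omega
  cases hca : cls a
  · -- the two orbits are exchanged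
    exfalso
    have hcb : cls b = false := hsame ▸ hca
    have hab : IsSquare (a * b) := by
      have : cls (a * b) = true := by
        rw [cls_true (mul_ne_zero ha0 hb0), qc_mul, (cls_false ha0).1 hca, (cls_false hb0).1 hcb]
        ring
      simpa [cls] using this
    obtain ⟨g, hg, hgs⟩ := H.exists_scale (mul_ne_zero ha0 hb0) hab
    have hsq2 : c * c = g := by
      refine ext_smul fun x => ?_
      rcases eq_or_ne x 0 with rfl | hx
      · rw [mul_smul, h0, h0, hgs, mul_zero]
      rw [mul_smul, hgs, hval x, hval]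
      cases h : cls x
      · have : cls (b * x) = true := by
          rw [cls_true (mul_ne_zero hb0 hx), qc_mul, (cls_false hb0).1 hcb, (cls_false hx).1 h]
          ring
        simp [this]; ring
      · have : cls (a * x) = false := by
          rw [cls_false (mul_ne_zero ha0 hx), qc_mul, (cls_false ha0).1 hca, (cls_true hx).1 h]
          ring
        simp [this]; ring
    have hgpow : ∀ (n : ℕ) (y : ZMod p), g ^ n • y = (a * b) ^ n * y := by
      intro n
      induction n with
      | zero => simp
      | succ n ih => intro y; rw [pow_succ, mul_smul, hgs, ih, pow_succ]; ring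
    obtain ⟨r, hr⟩ : ∃ r, q = 2 * r + 1 := ⟨q / 2, by have := H.qodd; omega⟩
    set u := c ^ q with hu
    have hue : u = g ^ r * c := by rw [hu, hr, pow_succ, pow_mul, sq, hsq2]
    have hu2 : u * u = 1 := by
      have hgq : g ^ q = 1 := by
        rw [← orderOf_dvd_iff_pow_eq_one, ← H.card_Q]
        exact Subgroup.orderOf_dvd_natCard _ hg
      rw [hu, ← pow_add, ← two_mul, pow_mul, sq, hsq2, hgq]
    have hfix : ∀ x : ZMod p, u • x = x ↔ x = 0 := by
      intro x
      constructor
      swap
      · rintro rfl
        rw [hue, mul_smul, h0, hgpow, mul_zero]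
      intro e
      by_contra hx
      rw [hue, mul_smul, hgpow, hval x] at e
      set k := (if cls x then a else b) with hk
      have hk0 : k ≠ 0 := by rw [hk]; split_ifs <;> assumption
      have hkc : qc k = -1 := by
        rw [hk]; split_ifs
        exacts [(cls_false ha0).1 hca, (cls_false hb0).1 hcb]
      have h1 : (a * b) ^ r * k = 1 := mul_right_cancel₀ hx (by rw [one_mul, mul_assoc]; exact e)
      have h2 := congrArg qc h1
      rw [qc_mul, hkc, qc_sq (pow_ne_zero _ (mul_ne_zero ha0 hb0)) (IsSquare.pow r hab),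
        qc_sq one_ne_zero (IsSquare.one (α := ZMod p))] at h2
      norm_num at h2
    have hu1 : (u : Equiv.Perm (ZMod p)) ≠ 1 := fun e => one_ne_zero (α := ZMod p) ((hfix 1).1 (by
      show (u : Equiv.Perm (ZMod p)) 1 = 1
      rw [e]; rfl))
    have hsupp : (u : Equiv.Perm (ZMod p)).support.card = 2 * q := by
      have : (u : Equiv.Perm (ZMod p)).support = (Finset.univ : Finset (ZMod p)).erase 0 := by
        ext x
        rw [Equiv.Perm.mem_support, Finset.mem_erase]
        show u • x ≠ x ↔ _
        rw [ne_eq, hfix]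
        simp
      rw [this, Finset.card_erase_of_mem (Finset.mem_univ _), Finset.card_univ, ZMod.card]
      have := H.pq; omega
    have hsign := Equiv.Perm.mem_alternatingGroup.1 (H.le_alternating u.2)
    haveI : Fact (Nat.Prime 2) := ⟨Nat.prime_two⟩
    have hord : orderOf (u : Equiv.Perm (ZMod p)) = 2 :=
      orderOf_eq_prime (by rw [sq]; exact congrArg Subtype.val hu2) hu1
    obtain ⟨nn, hnn⟩ := Equiv.Perm.cycleType_prime_order
      (show (orderOf (u : Equiv.Perm (ZMod p))).Prime by rw [hord]; exact Nat.prime_two)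
    have hsum := Equiv.Perm.sum_cycleType (u : Equiv.Perm (ZMod p))
    rw [hnn, hord, Multiset.sum_replicate, hsupp, smul_eq_mul] at hsum
    have hnq : nn + 1 = q := by omega
    rw [Equiv.Perm.sign_of_cycleType, hnn, hord, Multiset.sum_replicate, Multiset.card_replicate,
      smul_eq_mul, hnq] at hsign
    rw [Odd.neg_one_pow (Nat.odd_iff.2 (by have := H.qodd; omega))] at hsign
    exact absurd hsign (by decide)
  · -- the two orbits are kept
    have hsa : IsSquare a := by simpa [cls] using hca
    obtain ⟨g, hg, hgs⟩ := H.exists_scale ha0 hsa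
    have hcb : cls b = true := hsame ▸ hca
    have hsb : IsSquare b := by simpa [cls] using hcb
    set d := g⁻¹ * c with hd
    have hdv : ∀ x : ZMod p, d • x = (if cls x then 1 else b / a) * x := by
      intro x
      rw [hd, mul_smul, inv_smul_eq_iff, hgs, hval x]
      split_ifs <;> field_simp
    by_cases hd1 : d = 1
    · rw [hd, inv_mul_eq_one] at hd1
      rw [← hd1]
      exact hg
    exfalso
    have hba : b / a ≠ 1 := fun e => hd1 (ext_smul fun x => by
      rw [hdv, e, one_smul]; simp)
    have hsupp : (d : Equiv.Perm (ZMod p)).support =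
        Finset.univ.filter (fun x : ZMod p => x ≠ 0 ∧ cls x = false) := by
      ext x
      rw [Equiv.Perm.mem_support, Finset.mem_filter]
      show d • x ≠ x ↔ _
      rw [hdv]
      cases h : cls x
      · rcases eq_or_ne x 0 with e | e
        · simp [e]
        · simp [e, hba]
      · simp
    have hcard : (d : Equiv.Perm (ZMod p)).support.card = q := by rw [hsupp, H.card_nonsquare]
    have hiter : ∀ (j : ℕ) (x : ZMod p), d ^ j • x = (if cls x then 1 else b / a) ^ j * x := by
      intro j x
      induction j with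
      | zero => simp
      | succ j ih =>
        rw [pow_succ', mul_smul, ih, hdv]
        rcases eq_or_ne x 0 with e | e
        · simp [e]
        have : cls ((if cls x then 1 else b / a) ^ j * x) = cls x := by
          have hk : (if cls x then (1 : ZMod p) else b / a) ≠ 0 := by
            split_ifs
            exacts [one_ne_zero, div_ne_zero hb0 ha0]
          rw [cls_eq_iff (mul_ne_zero (pow_ne_zero _ hk) e) e, qc_mul,
            qc_sq (pow_ne_zero _ hk) (IsSquare.pow _ (by
              split_ifs
              exacts [IsSquare.one, hsb.div hsa])), one_mul]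
        rw [this, pow_succ]
        ring
    have hdq : d ^ q = 1 := by
      refine ext_smul fun x => ?_
      rw [hiter, one_smul]
      cases cls x
      · rw [if_neg (by simp), hq2, (ZMod.euler_criterion p (div_ne_zero hb0 ha0)).1 (hsb.div hsa),
          one_mul]
      · simp
    have ho : orderOf (d : Equiv.Perm (ZMod p)) = q := by
      rw [Subgroup.orderOf_coe]
      exact orderOf_eq_prime hdq hd1
    refine H.no_short_cycle d.2 (Equiv.Perm.isCycle_of_prime_order (ho ▸ H.qprime) ?_) hcard
    rw [ho, hcard]
    have := H.qprime.pos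
    omega

theorem selfCentral_P : SelfCentral p H.P :=
  selfCentral_of H.card_P H.not_dvd_index_P H.centralizer_P

theorem selfCentral_Q : haveI := Fact.mk H.qprime; SelfCentral q H.Q := by
  haveI := Fact.mk H.qprime
  exact selfCentral_of H.card_Q H.not_dvd_index_Q H.centralizer_Q

end Hyp

end CfsgLib.Perm.ItoTwoQ
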