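import Cfsg.Agent.Lib.Perm.ItoTwoQ.PartOne
import Cfsg.Agent.Lib.CharDegree.Basic

/-!
# The point stabilizer of a triply transitive group of degree `2 q + 1`

* `stabChar`: the character `π - 2` of the stabilizer is irreducible of degree `2 q - 1`.
* `linear_eq_one`: a linear character fixing it is trivial.
* `degree_ne`: a constituent of the pair module other than the two of the permutation character has
  degree at least `2 q - 1`, different from `2 q` and `2 q + 1`.
-/

set_option autoImplicit false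
set_option linter.all false

open scoped ComplexConjugate

namespace CfsgLib.Perm.ItoTwoQ

open Equiv MulAction Subgroup Cfsg CfsgLib.Char
open scoped _root_.Classical

variable {p q : ℕ} [Fact p.Prime] {G : Subgroup (Equiv.Perm (ZMod p))}

namespace Hyp

variable (H : Hyp p q G)
include H

theorem three_move {a b c a' b' c' : ZMod p} (h1 : a ≠ b) (h2 : a ≠ c) (h3 : b ≠ c)
    (h1' : a' ≠ b') (h2' : a' ≠ c') (h3' : b' ≠ c') :
    ∃ g : G, g • a = a' ∧ g • b = b' ∧ g • c = c' := by
  haveI := H.three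
  let x : Fin 3 ↪ ZMod p := ⟨![a, b, c], fun i j e => by fin_cases i <;> fin_cases j <;> simp_all⟩
  let y : Fin 3 ↪ ZMod p := ⟨![a', b', c'], fun i j e => by fin_cases i <;> fin_cases j <;> simp_all⟩
  obtain ⟨g, hg⟩ := exists_smul_eq G x y
  exact ⟨g, DFunLike.congr_fun hg 0, DFunLike.congr_fun hg 1, DFunLike.congr_fun hg 2⟩

theorem Q_normalizer_of_stabilizer {K : Subgroup (stabilizer G (0 : ZMod p))} [K.Normal]
    (hs : (⟨H.scale, H.scale_stabilizer⟩ : stabilizer G (0 : ZMod p)) ∈ K)
    (h : stabilizer G (0 : ZMod p)) :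
    ∃ n : stabilizer G (0 : ZMod p), (n : G) ∈ normalizer (H.Q : Set G) ∧ h * n⁻¹ ∈ K := by
  haveI := Fact.mk H.qprime
  set Q' := H.Q.subgroupOf (stabilizer G (0 : ZMod p)) with hQ'
  have hQc : Nat.card Q' = q :=
    (Nat.card_congr (Subgroup.subgroupOfEquivOfLe H.Q_le_stabilizer).toEquiv).trans H.card_Q
  have hnd : ¬ q ∣ Q'.index := fun hd => H.sq_not_dvd (by
    rw [pow_two, ← (stabilizer G (0 : ZMod p)).card_mul_index, ← Q'.card_mul_index, hQc, mul_assoc]
    exact mul_dvd_mul_left q (hd.trans (dvd_mul_right _ _)))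
  set P' : Sylow q (stabilizer G (0 : ZMod p)) := (IsPGroup.of_card (n := 1) (by rw [hQc, pow_one]) : IsPGroup q Q').toSylow hnd
    with hP'
  have hle : (P' : Subgroup (stabilizer G (0 : ZMod p))) ≤ K := by
    intro x hx
    have hx' : (x : G) ∈ H.Q := hx
    obtain ⟨k, hk⟩ := (Submonoid.mem_powers_iff _ _).1 (mem_powers_iff_mem_zpowers.2 hx')
    have : x = (⟨H.scale, H.scale_stabilizer⟩ : (stabilizer G (0 : ZMod p))) ^ k := Subtype.ext hk.symm
    rw [this]
    exact pow_mem hs k
  have htop := Sylow.normalizer_sup_eq_top' P' hle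
  have hmem : h ∈ (normalizer ((P' : Subgroup (stabilizer G (0 : ZMod p))) : Set (stabilizer G (0 : ZMod p))) ⊔ K : Subgroup (stabilizer G (0 : ZMod p))) := by
    exact htop.symm ▸ Subgroup.mem_top _
  obtain ⟨k, hk, n, hn, rfl⟩ := (Subgroup.mem_sup_of_normal_left (s := K)
    (t := normalizer ((P' : Subgroup (stabilizer G (0 : ZMod p))) : Set (stabilizer G (0 : ZMod p))))).1 (by rwa [sup_comm] at hmem)
  refine ⟨n, ?_, by rwa [mul_inv_cancel_right]⟩
  have hn' := Subgroup.mem_normalizer_iff.1 hn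
  refine Subgroup.mem_normalizer_iff.2 fun g => ?_
  constructor
  · intro hg
    exact (hn' ⟨g, H.Q_le_stabilizer hg⟩).1 hg
  · intro hg
    have hgS : g ∈ (stabilizer G (0 : ZMod p)) := by
      have := mul_mem (mul_mem (inv_mem n.2) (H.Q_le_stabilizer hg)) n.2
      simpa [mul_assoc] using this
    exact (hn' ⟨g, hgS⟩).2 hg

theorem hom_pow_eq_one {A : Type*} [CommGroup A] (f : stabilizer G (0 : ZMod p) →* A)
    (h : stabilizer G (0 : ZMod p)) : f h ^ (q - 1) = 1 := by
  obtain ⟨n, hn, hk⟩ := H.Q_normalizer_of_stabilizer (K := f.ker)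
    (MonoidHom.mem_ker.2 (H.hom_stabilizer_scale f)) h
  rw [MonoidHom.mem_ker, map_mul, map_inv, mul_inv_eq_one] at hk
  rw [hk, ← map_pow]
  obtain ⟨j, hj⟩ := (Submonoid.mem_powers_iff _ _).1
    (mem_powers_iff_mem_zpowers.2 (H.pow_normalizer_Q hn))
  rw [show n ^ (q - 1) = (⟨H.scale, H.scale_stabilizer⟩ : stabilizer G (0 : ZMod p)) ^ j from
    Subtype.ext hj.symm, map_pow, H.hom_stabilizer_scale, one_pow]

/-- An irreducible character of the stabilizer which is trivial on `Q` is linear. -/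
theorem degree_one_of_scale [Fintype (stabilizer G (0 : ZMod p))]
    (ν : IrrCharacter (stabilizer G (0 : ZMod p)))
    (h : (ν : stabilizer G (0 : ZMod p) → ℂ) ⟨H.scale, H.scale_stabilizer⟩ =
      (ν : stabilizer G (0 : ZMod p) → ℂ) 1) :
    charDegree (ν : stabilizer G (0 : ZMod p) → ℂ) = 1 := by
  rw [CfsgLib.CharDegree.charDegree_eq_one_iff_commutator]
  intro g hg
  set K := CfsgLib.CharDegree.kerSubgroup ν with hK
  haveI := CfsgLib.CharDegree.kerSubgroup_normal ν
  have hQK : ∀ x : (stabilizer G (0 : ZMod p)), (x : G) ∈ H.Q → x ∈ K := by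
    intro x hx
    obtain ⟨k, hk⟩ := (Submonoid.mem_powers_iff _ _).1 (mem_powers_iff_mem_zpowers.2 hx)
    rw [show x = (⟨H.scale, H.scale_stabilizer⟩ : (stabilizer G (0 : ZMod p))) ^ k from Subtype.ext hk.symm]
    exact pow_mem (CfsgLib.CharDegree.mem_kerSubgroup.2 h) k
  refine CfsgLib.CharDegree.mem_kerSubgroup.1 ?_
  rw [commutator_def] at hg
  refine (Subgroup.commutator_le.2 fun x _ y _ => ?_) hg
  have hs : (⟨H.scale, H.scale_stabilizer⟩ : (stabilizer G (0 : ZMod p))) ∈ K := CfsgLib.CharDegree.mem_kerSubgroup.2 h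
  obtain ⟨n, hn, hn'⟩ := H.Q_normalizer_of_stabilizer hs x
  obtain ⟨m, hm, hm'⟩ := H.Q_normalizer_of_stabilizer hs y
  rw [← QuotientGroup.eq_one_iff] at hn' hm' ⊢
  rw [commutatorElement_def]
  simp only [QuotientGroup.mk_mul, QuotientGroup.mk_inv, mul_inv_eq_one] at hn' hm' ⊢
  rw [hn', hm', ← QuotientGroup.mk_inv, ← QuotientGroup.mk_mul,
    ← QuotientGroup.mk_mul, QuotientGroup.eq]
  have h1 : n * m * n⁻¹ * m⁻¹ ∈ K := hQK _ (H.commutator_normalizer_Q hn hm)
  have : (n * m * n⁻¹)⁻¹ * m = m⁻¹ * (n * m * n⁻¹ * m⁻¹)⁻¹ * m := by group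
  rw [this]
  have := Subgroup.Normal.conj_mem (inferInstance : K.Normal) _ (inv_mem h1) m⁻¹
  simpa using this

section

variable [Fintype G] [Fintype (stabilizer G (0 : ZMod p))]

/-- The fixed point count on the nonzero points. -/
theorem card_fixed_nonzero (h : stabilizer G (0 : ZMod p)) :
    Nat.card (fixedBy (ZMod p) (h : G)) =
      Nat.card (fixedBy ↥(SubMulAction.ofStabilizer G (0 : ZMod p)) h) + 1 := by
  rw [Nat.card_coe_set_eq, Nat.card_coe_set_eq,
    ← Set.ncard_image_of_injective (f := ((↑) : ↥(SubMulAction.ofStabilizer G (0 : ZMod p)) → ZMod p)) _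
      Subtype.val_injective,
    ← Set.ncard_insert_of_notMem (a := (0 : ZMod p))
      (s := ((↑) : ↥(SubMulAction.ofStabilizer G (0 : ZMod p)) → ZMod p) '' fixedBy _ h)
      (fun ⟨z, _, e⟩ => z.2 e)]
  congr 1
  ext w
  simp only [Set.mem_insert_iff, Set.mem_image, MulAction.mem_fixedBy]
  constructor
  · intro hw
    rcases eq_or_ne w 0 with e | e
    · exact Or.inl e
    · exact Or.inr ⟨⟨w, e⟩, Subtype.ext hw, rfl⟩
  · rintro (rfl | ⟨z, hz, rfl⟩)
    · exact h.2
    · exact congrArg Subtype.val hz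

theorem isIrr_stab_sub_two :
    IsIrrCharacter (stabilizer G (0 : ZMod p))
      (fun h => (Nat.card (fixedBy (ZMod p) (h : G)) : ℂ) - 2) := by
  haveI := H.trans
  set X := ↥(SubMulAction.ofStabilizer G (0 : ZMod p)) with hX
  haveI : IsMultiplyPretransitive (stabilizer G (0 : ZMod p)) X 2 :=
    (SubMulAction.ofStabilizer.isMultiplyPretransitive (n := 2) (a := (0 : ZMod p))).1 H.three
  haveI : IsPretransitive (stabilizer G (0 : ZMod p)) X := H.prim_stabilizer.toIsPretransitive
  have hc : 2 ≤ Nat.card X := by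
    have := SubMulAction.nat_card_ofStabilizer_add_one_eq (G := G) (α := ZMod p) (0 : ZMod p)
    rw [Nat.card_zmod] at this
    change Nat.card X + 1 = p at this
    have := H.p23
    omega
  have h := (isIrrCharacter_permChar_sub_one_iff (G := stabilizer G (0 : ZMod p)) X hc).2 inferInstance
  have e : (fun h : stabilizer G (0 : ZMod p) => (Nat.card (fixedBy (ZMod p) (h : G)) : ℂ) - 2) =
      fun h => permChar (stabilizer G (0 : ZMod p)) X h - 1 := funext fun h => by
    rw [card_fixed_nonzero H h, Nat.cast_add, Nat.cast_one, permChar]; ring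
  rw [e]
  exact h

/-- The nontrivial constituent of the stabilizer on the other points. -/
noncomputable def stabChar : IrrCharacter (stabilizer G (0 : ZMod p)) := ⟨_, H.isIrr_stab_sub_two⟩

theorem stabChar_apply (h : stabilizer G (0 : ZMod p)) :
    (H.stabChar : _ → ℂ) h = (Nat.card (fixedBy (ZMod p) (h : G)) : ℂ) - 2 := rfl

theorem stabChar_one : (H.stabChar : stabilizer G (0 : ZMod p) → ℂ) 1 = 2 * (q : ℂ) - 1 := by
  rw [H.stabChar_apply, show fixedBy (ZMod p) ((1 : stabilizer G (0 : ZMod p)) : G) = Set.univ from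
    Set.ext fun x => by simp, Nat.card_coe_set_eq, Set.ncard_univ, Nat.card_zmod,
    show (p : ℂ) = 2 * q + 1 by rw [H.pq]; push_cast; rfl]
  ring

theorem charDegree_stabChar :
    charDegree (H.stabChar : stabilizer G (0 : ZMod p) → ℂ) = 2 * q - 1 := by
  have e := H.stabChar_one
  rw [CfsgLib.Blocks.apply_one_eq_charDegree] at e
  have : charDegree (H.stabChar : stabilizer G (0 : ZMod p) → ℂ) + 1 = 2 * q := by
    exact_mod_cast (show (charDegree (H.stabChar : stabilizer G (0 : ZMod p) → ℂ) : ℂ) + 1 = 2 * q by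
      linear_combination e)
  omega

theorem stabChar_ne_triv : H.stabChar ≠ trivChar (stabilizer G (0 : ZMod p)) := fun e => by
  have h := H.stabChar_one
  rw [e, trivChar_apply] at h
  have : q = 1 := by exact_mod_cast (show (q : ℂ) = 1 by linear_combination -h / 2)
  have := H.q11
  omega

/-- A linear character fixing `stabChar` is trivial. -/
theorem linear_eq_one (l : stabilizer G (0 : ZMod p) →* ℂˣ)
    (hl : ∀ h, ((l h : ℂˣ) : ℂ) * (H.stabChar : _ → ℂ) h = (H.stabChar : _ → ℂ) h) : l = 1 := by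
  haveI := H.trans
  have hne : ∀ h : (stabilizer G (0 : ZMod p)), Nat.card (fixedBy (ZMod p) (h : G)) ≠ 2 → l h = 1 := by
    intro h hh
    have h1 : (H.stabChar : (stabilizer G (0 : ZMod p)) → ℂ) h ≠ 0 := by
      rw [H.stabChar_apply, sub_ne_zero]
      exact_mod_cast hh
    exact Units.ext ((mul_eq_right₀ h1).1 (hl h))
  refine MonoidHom.ext fun h => ?_
  by_cases hh : Nat.card (fixedBy (ZMod p) (h : G)) = 2
  swap
  · exact hne h hh
  obtain ⟨b, hb, hb0⟩ : ∃ b ∈ fixedBy (ZMod p) (h : G), b ≠ 0 := by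
    by_contra hno
    push Not at hno
    have : fixedBy (ZMod p) (h : G) ⊆ {0} := fun x hx => hno x hx
    have := Set.ncard_le_ncard this
    rw [Set.ncard_singleton, ← Nat.card_coe_set_eq, hh] at this
    omega
  set K := stabilizer (stabilizer G (0 : ZMod p)) b with hK
  obtain ⟨c, hc0, hcb⟩ : ∃ c : ZMod p, c ≠ 0 ∧ c ≠ b := by
    by_contra hno
    push Not at hno
    have h3 : (Finset.univ : Finset (ZMod p)).card ≤ ({0, b} : Finset (ZMod p)).card :=
      Finset.card_le_card fun x _ => by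
        by_cases e : x = 0
        · simp [e]
        · simp [hno x e]
    rw [Finset.card_univ, ZMod.card] at h3
    have := (Finset.card_le_two (a := (0 : ZMod p)) (b := b))
    have := H.p23
    omega
  set L := stabilizer K c with hL
  set f := l.comp K.subtype with hf
  have hker : L ≤ f.ker := by
    intro k hk
    rw [MonoidHom.mem_ker]
    refine hne (k : (stabilizer G (0 : ZMod p))) fun e2 => ?_
    have hsub : ({0, b, c} : Set (ZMod p)) ⊆ fixedBy (ZMod p) ((k : (stabilizer G (0 : ZMod p))) : G) := by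
      intro x hx
      rcases hx with rfl | rfl | rfl
      · exact (k : (stabilizer G (0 : ZMod p))).2
      · exact k.2
      · exact hk
    have h3 := Set.ncard_le_ncard hsub
    rw [← Nat.card_coe_set_eq (fixedBy (ZMod p) ((k : (stabilizer G (0 : ZMod p))) : G)), e2,
      show ({0, b, c} : Set (ZMod p)).ncard = 3 from Set.ncard_eq_three.2
        ⟨0, b, c, Ne.symm hb0, Ne.symm hc0, Ne.symm hcb, rfl⟩] at h3
    omega
  have hidx : L.index = 2 * q - 1 := by
    rw [hL, index_stabilizer]
    have e : orbit K c = ({0, b} : Set (ZMod p))ᶜ := by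
      ext z
      constructor
      · rintro ⟨k, rfl⟩
        simp only [Set.mem_compl_iff, Set.mem_insert_iff, Set.mem_singleton_iff, not_or]
        exact ⟨fun e => hc0 (MulAction.injective ((k : (stabilizer G (0 : ZMod p))) : G) ((e : ((k : (stabilizer G (0 : ZMod p))) : G) • c = 0).trans (k : (stabilizer G (0 : ZMod p))).2.symm)),
          fun e => hcb (MulAction.injective ((k : (stabilizer G (0 : ZMod p))) : G) ((e : ((k : (stabilizer G (0 : ZMod p))) : G) • c = b).trans k.2.symm))⟩
      · intro hz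
        simp only [Set.mem_compl_iff, Set.mem_insert_iff, Set.mem_singleton_iff, not_or] at hz
        obtain ⟨g, g0, gb, gc⟩ := H.three_move (Ne.symm hb0) (Ne.symm hc0) (Ne.symm hcb)
          (Ne.symm hb0) (Ne.symm hz.1) (Ne.symm hz.2)
        exact ⟨⟨⟨g, g0⟩, gb⟩, gc⟩
    rw [e, Set.ncard_compl, Nat.card_zmod, Set.ncard_pair (Ne.symm hb0)]
    have := H.pq
    omega
  have hpow : f ⟨h, hb⟩ ^ (2 * q - 1) = 1 := by
    rw [← hidx, ← map_pow]
    obtain ⟨d, hd⟩ : f.ker.index ∣ L.index := Subgroup.index_dvd_of_le hker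
    rw [hd, pow_mul, map_pow, MonoidHom.mem_ker.1 (Subgroup.pow_index_mem f.ker _), one_pow]
  have hpow2 : l h ^ (q - 1) = 1 := H.hom_pow_eq_one l h
  have hpow' : l h ^ (2 * q - 1) = 1 := hpow
  have hcop : Nat.Coprime (2 * q - 1) (q - 1) := by
    have := H.q11
    rw [show 2 * q - 1 = 1 + (q - 1) * 2 by omega, Nat.coprime_add_mul_left_left]
    exact Nat.coprime_one_left _
  show l h = 1
  rw [← orderOf_eq_one_iff]
  exact Nat.eq_one_of_dvd_coprimes hcop (orderOf_dvd_of_pow_eq_one hpow') (orderOf_dvd_of_pow_eq_one hpow2)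

end

end Hyp

end CfsgLib.Perm.ItoTwoQ
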