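import Cfsg.Agent.Lib.Perm.ItoTwoQ.Stabilizer
import Cfsg.Agent.Lib.Char.Indicator

/-!
# The symmetric and the alternating part of the pair module of a triply transitive group

* `exists_parts`: their multiplicities, values and the degree restrictions of the constituents.
* `part_le`, `indicator_sum`, `seven_false`: the three global relations.
-/

set_option autoImplicit false
set_option linter.all false

open scoped ComplexConjugate

namespace CfsgLib.Perm.ItoTwoQ

open Equiv MulAction Subgroup Cfsg CfsgLib.Char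
open scoped _root_.Classical

variable {p q : ℕ} [Fact p.Prime] {G : Subgroup (Equiv.Perm (ZMod p))}

/-- The projection on symmetric functions of pairs. -/
noncomputable def plusOp (p : ℕ) [Fact p.Prime] : Module.End ℂ (OPair p → ℂ) :=
  (2 : ℂ)⁻¹ • (1 + swapOp p)

/-- The projection on alternating functions of pairs. -/
noncomputable def minusOp (p : ℕ) [Fact p.Prime] : Module.End ℂ (OPair p → ℂ) :=
  (2 : ℂ)⁻¹ • (1 - swapOp p)

theorem plusOp_mul_plusOp : plusOp p * plusOp p = plusOp p := by
  rw [plusOp, smul_mul_smul_comm, add_mul, one_mul, mul_add, mul_one, swapOp_mul_swapOp,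
    show (1 : Module.End ℂ (OPair p → ℂ)) + swapOp p + (swapOp p + 1) = (2 : ℂ) • (1 + swapOp p) by
      rw [two_smul]; abel, smul_smul]
  norm_num

theorem minusOp_mul_minusOp : minusOp p * minusOp p = minusOp p := by
  rw [minusOp, smul_mul_smul_comm, sub_mul, one_mul, mul_sub, mul_one, swapOp_mul_swapOp,
    show (1 : Module.End ℂ (OPair p → ℂ)) - swapOp p - (swapOp p - 1) = (2 : ℂ) • (1 - swapOp p) by
      rw [two_smul]; abel, smul_smul]
  norm_num

theorem isEnd_plusOp : IsEnd (Cfsg.permRep ℂ G (OPair p)) (plusOp p) :=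
  (isEnd_one.add isEnd_swapOp).smul _

theorem isEnd_minusOp : IsEnd (Cfsg.permRep ℂ G (OPair p)) (minusOp p) :=
  (isEnd_one.sub isEnd_swapOp).smul _

/-- An equivariant map moves on average one point in a transitive action. -/
theorem sum_card_twist {Γ : Type*} [Group Γ] [Fintype Γ] {X : Type*} [Fintype X] [MulAction Γ X]
    [IsPretransitive Γ X] [hX : Nonempty X] (σ : X → X) :
    ∑ g : Γ, (Finset.univ.filter fun x => g • x = σ x).card = Nat.card Γ := by
  have hfib : ∀ x : X, (Finset.univ.filter fun g : Γ => g • x = σ x).card = Nat.card (stabilizer Γ x) := by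
    intro x
    obtain ⟨c, hc⟩ := exists_smul_eq Γ x (σ x)
    rw [Nat.card_eq_fintype_card, Fintype.card_subtype]
    refine Finset.card_equiv (Equiv.mulLeft c⁻¹) fun g => ?_
    simp only [Finset.mem_filter, Finset.mem_univ, true_and, Equiv.coe_mulLeft, mem_stabilizer_iff,
      mul_smul, inv_smul_eq_iff, hc]
  obtain ⟨x₀⟩ := hX
  calc ∑ g : Γ, (Finset.univ.filter fun x => g • x = σ x).card
      = ∑ x : X, (Finset.univ.filter fun g : Γ => g • x = σ x).card := by
        simp only [Finset.card_filter]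
        exact Finset.sum_comm
    _ = ∑ x : X, Nat.card (stabilizer Γ x) := Finset.sum_congr rfl fun x _ => hfib x
    _ = ∑ x : X, Nat.card (stabilizer Γ x₀) := Finset.sum_congr rfl fun x _ => by
        obtain ⟨c, rfl⟩ := exists_smul_eq Γ x₀ x
        exact (Nat.card_congr (stabilizerEquivStabilizer rfl).toEquiv).symm
    _ = _ := by
        rw [Finset.sum_const, Finset.card_univ, smul_eq_mul, ← (stabilizer Γ x₀).index_mul_card,
          index_stabilizer_of_transitive, Nat.card_eq_fintype_card (α := X)]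

namespace Hyp

variable (H : Hyp p q G)
include H

theorem trans_pairs : IsPretransitive G (OPair p) :=
  ⟨fun v w => by
    obtain ⟨g, h1, h2⟩ := (is_two_pretransitive_iff.1 H.two) v.2 w.2
    exact ⟨g, Subtype.ext (Prod.ext h1 h2)⟩⟩

variable [Fintype G]

theorem trFun_one_apply (g : G) :
    trFun (Cfsg.permRep ℂ G (OPair p)) (1 : Module.End ℂ (OPair p → ℂ)) g =
      (Nat.card (fixedBy (ZMod p) g) : ℂ) * ((Nat.card (fixedBy (ZMod p) g) : ℂ) - 1) := by
  rw [trFun_one, CfsgLib.Perm.CentralizerRing.permRep_character]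
  show ((Nat.card (fixedBy (OPair p) g) : ℕ) : ℂ) = _
  set A : Finset (ZMod p) := Finset.univ.filter fun x => g • x = x with hA
  have hF : Nat.card (fixedBy (ZMod p) g) = A.card := by
    rw [Nat.card_coe_set_eq, ← Set.ncard_coe_finset]
    congr 1; ext x; simp [hA, MulAction.mem_fixedBy]
  have hc : Nat.card (fixedBy (OPair p) g) = (A.offDiag).card := by
    rw [Nat.card_coe_set_eq, ← Set.ncard_coe_finset,
      ← Set.ncard_image_of_injective (f := ((↑) : OPair p → ZMod p × ZMod p)) _ Subtype.val_injective]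
    congr 1
    ext ⟨x, y⟩
    simp only [Set.mem_image, Finset.coe_offDiag, Set.mem_offDiag, Finset.mem_coe, hA, Finset.mem_filter,
      Finset.mem_univ, true_and, MulAction.mem_fixedBy]
    constructor
    · rintro ⟨v, hv, e⟩
      obtain ⟨rfl, rfl⟩ := Prod.mk.inj e.symm
      exact ⟨congrArg (fun w : OPair p => w.1.1) hv, congrArg (fun w : OPair p => w.1.2) hv,
        fun e => v.2 (by simpa using e)⟩
    · rintro ⟨h1, h2, h3⟩
      exact ⟨⟨(x, y), h3⟩, Subtype.ext (Prod.ext h1 h2), rfl⟩
  rw [hc, hF, Finset.offDiag_card, Nat.cast_sub (Nat.le_mul_self _), Nat.cast_mul]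
  ring

theorem trFun_swap_apply (g : G) :
    trFun (Cfsg.permRep ℂ G (OPair p)) (swapOp p) g =
      (Nat.card (fixedBy (ZMod p) (g * g)) : ℂ) - (Nat.card (fixedBy (ZMod p) g) : ℂ) := by
  rw [swapOp, trFun_opM]
  set A : Finset (ZMod p) := Finset.univ.filter fun x => g • x = x with hA
  set B : Finset (ZMod p) := Finset.univ.filter fun x => (g * g) • x = x with hB
  have hF : Nat.card (fixedBy (ZMod p) g) = A.card := by
    rw [Nat.card_coe_set_eq, ← Set.ncard_coe_finset]
    congr 1; ext x; simp [hA, MulAction.mem_fixedBy]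
  have hF2 : Nat.card (fixedBy (ZMod p) (g * g)) = B.card := by
    rw [Nat.card_coe_set_eq, ← Set.ncard_coe_finset]
    congr 1; ext x; simp [hB, MulAction.mem_fixedBy]
  have hsub : A ⊆ B := fun x hx => by
    simp only [hA, hB, Finset.mem_filter, Finset.mem_univ, true_and] at hx ⊢
    rw [mul_smul, hx, hx]
  rw [hF, hF2, ← Nat.cast_sub (Finset.card_le_card hsub), ← Finset.card_sdiff_of_subset hsub,
    Finset.sum_boole, Nat.cast_inj]
  refine Finset.card_bij' (fun v _ => v.1.1) (fun x hx => ⟨(x, g • x), ?_⟩) ?_ ?_ ?_ (fun x _ => rfl)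
  · intro e
    exact (Finset.mem_sdiff.1 hx).2 (Finset.mem_filter.2 ⟨Finset.mem_univ _, e.symm⟩)
  · intro v hv
    have e := (Finset.mem_filter.1 hv).2
    have e1 : g • v.1.1 = v.1.2 := congrArg (fun w : OPair p => w.1.1) e
    have e2 : g • v.1.2 = v.1.1 := congrArg (fun w : OPair p => w.1.2) e
    refine Finset.mem_sdiff.2 ⟨Finset.mem_filter.2 ⟨Finset.mem_univ _, by rw [mul_smul, e1, e2]⟩, fun h => ?_⟩
    exact v.2 ((Finset.mem_filter.1 h).2.symm.trans e1)
  · intro x hx
    refine Finset.mem_filter.2 ⟨Finset.mem_univ _, Subtype.ext (Prod.ext rfl ?_)⟩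
    show g • g • x = x
    rw [← mul_smul]
    exact (Finset.mem_filter.1 (Finset.mem_sdiff.1 hx).1).2
  · intro v hv
    exact Subtype.ext (Prod.ext rfl (congrArg (fun w : OPair p => w.1.1) (Finset.mem_filter.1 hv).2))

end Hyp

end CfsgLib.Perm.ItoTwoQ
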