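import Cfsg.Agent.Lib.Perm.ItoTwoQ.ThreeChar

/-!
# Multiplicities in the symmetric and the alternating part

* `exists_parts`: the multiplicities, the values at `1`, `P`, `Q`, and the degree restrictions.
* `part_le`, `indicator_sum`, `seven_false`: the global relations.
-/

set_option autoImplicit false
set_option linter.all false

open scoped ComplexConjugate

namespace CfsgLib.Perm.ItoTwoQ

open Equiv MulAction Subgroup Cfsg CfsgLib.Char CfsgLib.Perm.CentralizerRing
open scoped _root_.Classical

variable {p q : ℕ} [Fact p.Prime] {G : Subgroup (Equiv.Perm (ZMod p))}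

/-- The multiplicity data of the two parts. -/
structure Parts (H : Hyp p q G) [Fintype G] [Fintype (IrrCharacter G)]
    (U A : IrrCharacter G → ℕ) : Prop where
  plus : ∀ φ : IrrCharacter G, coef (Cfsg.permRep ℂ G (OPair p)) (plusOp p) (φ : G → ℂ) = U φ
  minus : ∀ φ : IrrCharacter G, coef (Cfsg.permRep ℂ G (OPair p)) (minusOp p) (φ : G → ℂ) = A φ
  plus_triv : U (trivChar G) = 1
  minus_triv : A (trivChar G) = 0
  plus_perm : U H.perm₁ = 1
  minus_perm : A H.perm₁ = 1
  degree : ∀ φ : IrrCharacter G, φ ≠ trivChar G → φ ≠ H.perm₁ → U φ + A φ ≠ 0 →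
    2 * q - 1 ≤ charDegree (φ : G → ℂ) ∧ charDegree (φ : G → ℂ) ≠ 2 * q ∧
      charDegree (φ : G → ℂ) ≠ 2 * q + 1

namespace Hyp

variable (H : Hyp p q G) [Fintype G]
include H

theorem coef_one_pairs [Fintype (stabilizer G (0 : ZMod p))] {φ : G → ℂ} (hφ : IsClassFunction G φ) :
    coef (Cfsg.permRep ℂ G (OPair p)) (1 : Module.End ℂ (OPair p → ℂ)) φ =
      classInner ((trivChar (stabilizer G (0 : ZMod p)) : IrrCharacter _) : stabilizer G (0 : ZMod p) → ℂ)
          (fun h : stabilizer G (0 : ZMod p) => φ h) +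
        classInner (H.stabChar : stabilizer G (0 : ZMod p) → ℂ)
          (fun h : stabilizer G (0 : ZMod p) => φ h) := by
  haveI := H.trans
  rw [coef, ← classInner_add_left]
  refine Eq.trans (congrArg (fun F => classInner F φ) (funext fun g => ?_))
    ((classInner_fixSum (0 : ZMod p) (f := fun _ g => (Nat.card (fixedBy (ZMod p) g) : ℂ) - 1)
      (fun c g x => by rw [card_fixedBy_of_isConj (isConj_iff.2 ⟨c, rfl⟩ : IsConj g (c * g * c⁻¹))]) hφ).trans ?_)
  · have e : (Nat.card (fixedBy (ZMod p) g) : ℂ) * ((Nat.card (fixedBy (ZMod p) g) : ℂ) - 1) =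
        ∑ x : ZMod p, if g • x = x then ((Nat.card (fixedBy (ZMod p) g) : ℂ) - 1) else 0 := by
      rw [Finset.sum_ite, Finset.sum_const, Finset.sum_const_zero, add_zero, nsmul_eq_mul]
      congr 2
      rw [Nat.card_coe_set_eq, ← Set.ncard_coe_finset]
      congr 1
      ext x
      simp [MulAction.mem_fixedBy]
    rw [H.trFun_one_apply, e]
    exact Finset.sum_congr rfl fun x _ => by split_ifs <;> rfl
  · congr 1
    funext h
    rw [Pi.add_apply, trivChar_apply, H.stabChar_apply]
    ring

theorem trFun_swap_eq_card (g : G) :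
    trFun (Cfsg.permRep ℂ G (OPair p)) (swapOp p) g =
      ((Finset.univ.filter fun v : OPair p => g • v = swapPair v).card : ℂ) := by
  rw [swapOp, trFun_opM, Finset.sum_boole]

theorem coef_swap_triv :
    coef (Cfsg.permRep ℂ G (OPair p)) (swapOp p) ((trivChar G : IrrCharacter G) : G → ℂ) = 1 := by
  haveI := H.trans_pairs
  haveI : Nonempty (OPair p) := ⟨⟨(0, 1), zero_ne_one⟩⟩
  have hs : ∑ g : G, (Finset.univ.filter fun v : OPair p => g • v = swapPair v).card = Nat.card G := by
    convert sum_card_twist (Γ := G) (X := OPair p) swapPair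
  simp only [coef, classInner, trivChar_apply, map_one, mul_one, H.trFun_swap_eq_card]
  rw [← Nat.cast_sum, hs, inv_mul_cancel₀ (Nat.cast_ne_zero.2 Nat.card_pos.ne')]

theorem coef_swap_perm :
    coef (Cfsg.permRep ℂ G (OPair p)) (swapOp p) (H.perm₁ : G → ℂ) = 0 := by
  letI : MulAction G (Fin 3 ↪ ZMod p) := Function.Embedding.instMulAction
  haveI : IsPretransitive G (Fin 3 ↪ ZMod p) := H.three
  haveI : Nonempty (Fin 3 ↪ ZMod p) := by
    refine Function.Embedding.nonempty_of_card_le ?_
    rw [Fintype.card_fin, ZMod.card]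
    have := H.p23
    omega
  have hs := sum_card_twist (Γ := G) (X := Fin 3 ↪ ZMod p)
    (fun e => (Equiv.swap (0 : Fin 3) 1).toEmbedding.trans e)
  have hper : ∀ g : G, (Finset.univ.filter fun e : Fin 3 ↪ ZMod p =>
      g • e = (Equiv.swap (0 : Fin 3) 1).toEmbedding.trans e).card =
      (Finset.univ.filter fun v : OPair p => g • v = swapPair v).card * Nat.card (fixedBy (ZMod p) g) := by
    intro g
    rw [Nat.card_coe_set_eq, show (fixedBy (ZMod p) g).ncard =
        (Finset.univ.filter fun z : ZMod p => g • z = z).card by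
      rw [← Set.ncard_coe_finset]; congr 1; ext x; simp [MulAction.mem_fixedBy], ← Finset.card_product]
    refine Finset.card_bij (fun e _ => ((⟨(e 0, e 1), fun h => absurd (e.injective h) (by decide)⟩ : OPair p), e 2))
      ?_ ?_ ?_
    · intro e he
      have h := (Finset.mem_filter.1 he).2
      refine Finset.mem_product.2 ⟨Finset.mem_filter.2 ⟨Finset.mem_univ _, ?_⟩,
        Finset.mem_filter.2 ⟨Finset.mem_univ _, ?_⟩⟩
      · exact Subtype.ext (Prod.ext (DFunLike.congr_fun h 0) (DFunLike.congr_fun h 1))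
      · exact DFunLike.congr_fun h 2
    · intro e _ e' _ h
      have h1 := congrArg (fun x : OPair p × ZMod p => x.1.1.1) h
      have h2 := congrArg (fun x : OPair p × ZMod p => x.1.1.2) h
      have h3 := congrArg (fun x : OPair p × ZMod p => x.2) h
      refine Function.Embedding.ext fun i => ?_
      fin_cases i
      exacts [h1, h2, h3]
    · rintro ⟨v, z⟩ hvz
      obtain ⟨hv, hz⟩ := Finset.mem_product.1 hvz
      have hv' := (Finset.mem_filter.1 hv).2
      have hz' : g • z = z := (Finset.mem_filter.1 hz).2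
      have e1 : g • v.1.1 = v.1.2 := congrArg (fun w : OPair p => w.1.1) hv'
      have e2 : g • v.1.2 = v.1.1 := congrArg (fun w : OPair p => w.1.2) hv'
      have hn1 : v.1.1 ≠ z := fun e => v.2 (e.trans (hz'.symm.trans (e ▸ e1)))
      have hn2 : v.1.2 ≠ z := fun e => v.2 ((e.trans (hz'.symm.trans (e ▸ e2))).symm)
      let e : Fin 3 ↪ ZMod p := ⟨![v.1.1, v.1.2, z], fun i j h => by
        have := v.2
        fin_cases i <;> fin_cases j <;> simp_all⟩
      refine ⟨e, Finset.mem_filter.2 ⟨Finset.mem_univ _, Function.Embedding.ext fun i => ?_⟩, rfl⟩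
      fin_cases i
      exacts [e1, e2, hz']
  have hs : ∑ g : G, (Finset.univ.filter fun v : OPair p => g • v = swapPair v).card *
      Nat.card (fixedBy (ZMod p) g) = Nat.card G := by
    rw [← hs]
    refine Finset.sum_congr rfl fun g _ => ?_
    rw [← hper g]
    convert rfl
  have h1 : coef (Cfsg.permRep ℂ G (OPair p)) (swapOp p)
      (fun g : G => (Nat.card (fixedBy (ZMod p) g) : ℂ)) = 1 := by
    simp only [coef, classInner, H.trFun_swap_eq_card, Complex.conj_natCast, ← Nat.cast_mul]
    rw [← Nat.cast_sum, hs, inv_mul_cancel₀ (Nat.cast_ne_zero.2 Nat.card_pos.ne')]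
  have e : (H.perm₁ : G → ℂ) = (fun g : G => (Nat.card (fixedBy (ZMod p) g) : ℂ)) -
      ((trivChar G : IrrCharacter G) : G → ℂ) := funext fun g => by
    rw [Pi.sub_apply, H.perm₁_apply, trivChar_apply]
  rw [e, coef, classInner_sub_right, ← coef, ← coef, h1, H.coef_swap_triv, sub_self]

section Linear

variable [Fintype (stabilizer G (0 : ZMod p))] [Fintype (IrrCharacter G)]

/-- The pair module has no linear constituent on the stabilizer but the trivial one. -/
theorem no_linear (φ : IrrCharacter G)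
    (hφ : coef (Cfsg.permRep ℂ G (OPair p)) (1 : Module.End ℂ (OPair p → ℂ)) (φ : G → ℂ) ≠ 0)
    (ν : IrrCharacter (stabilizer G (0 : ZMod p))) (hν : ν ≠ trivChar _)
    (hν1 : charDegree (ν : stabilizer G (0 : ZMod p) → ℂ) = 1)
    (hn : classInner (fun h : stabilizer G (0 : ZMod p) => (φ : G → ℂ) h) (ν : _ → ℂ) ≠ 0) : False := by
  haveI := Fintype.ofFinite (IrrCharacter (stabilizer G (0 : ZMod p)))
  set ρ := Cfsg.permRep ℂ G (OPair p) with hρ
  set ψ : stabilizer G (0 : ZMod p) → ℂ := (H.stabChar : stabilizer G (0 : ZMod p) → ℂ) with hψ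
  have hone : IsEnd ρ (1 : Module.End ℂ (OPair p → ℂ)) := isEnd_one
  choose m hm using fun χ : IrrCharacter G => exists_nat_coef hone (one_mul 1) χ
  choose k hk using fun χ : IrrCharacter G =>
    IsChar.classInner_eq_natCast (IsChar.restrict (stabilizer G (0 : ZMod p)) (IsIrr.isCharacter χ.2))
      (IsIrr.isCharacter ν.2)
  have hpos : classInner (fun h : stabilizer G (0 : ZMod p) => trFun ρ 1 (h : G)) (ν : _ → ℂ) ≠ 0 := by
    have e : (fun h : stabilizer G (0 : ZMod p) => trFun ρ (1 : Module.End ℂ (OPair p → ℂ)) (h : G)) =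
        ∑ χ : IrrCharacter G, (m χ : ℂ) • fun h : stabilizer G (0 : ZMod p) => (χ : G → ℂ) h := by
      funext h
      rw [trFun_eq_sum hone, Finset.sum_apply]
      exact Finset.sum_congr rfl fun χ _ => by rw [hm, Pi.smul_apply, smul_eq_mul]
    rw [e, classInner_sum_left]
    simp only [classInner_smul_left, hk, ← Nat.cast_mul, ← Nat.cast_sum, ne_eq, Nat.cast_eq_zero,
      Finset.sum_eq_zero_iff, Finset.mem_univ, forall_const, not_forall]
    refine ⟨φ, Nat.mul_ne_zero (fun e => hφ ?_) (fun e => hn ?_)⟩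
    · rw [hm, e, Nat.cast_zero]
    · rw [hk, e, Nat.cast_zero]
  have hψr : ∀ h, conj (ψ h) = ψ h := fun h => by
    rw [hψ, H.stabChar_apply, map_sub, Complex.conj_natCast, map_ofNat]
  have e2 : (fun h : stabilizer G (0 : ZMod p) => trFun ρ (1 : Module.End ℂ (OPair p → ℂ)) (h : G)) =
      (2 : ℂ) • ((trivChar (stabilizer G (0 : ZMod p)) : IrrCharacter _) : _ → ℂ) + (3 : ℂ) • ψ + ψ * ψ := by
    funext h
    rw [H.trFun_one_apply, Pi.add_apply, Pi.add_apply, Pi.smul_apply, Pi.smul_apply, Pi.mul_apply,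
      trivChar_apply, hψ, H.stabChar_apply, smul_eq_mul, smul_eq_mul]
    ring
  have hνψ : ν ≠ H.stabChar := fun e => by
    rw [e, H.charDegree_stabChar] at hν1
    have := H.q11
    omega
  rw [e2, classInner_add_left, classInner_add_left, classInner_smul_left, classInner_smul_left,
    classInner_irr, if_neg (Ne.symm hν), hψ, classInner_irr, if_neg (Ne.symm hνψ), mul_zero, mul_zero,
    zero_add, zero_add, ← hψ] at hpos
  obtain ⟨l, hl⟩ := exists_linear_of_degree_one (IsIrr.isCharacter ν.2) (by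
    rw [CfsgLib.Blocks.apply_one_eq_charDegree, hν1, Nat.cast_one])
  -- the product with the linear character is the same irreducible character
  set θ : stabilizer G (0 : ZMod p) → ℂ := (ν : stabilizer G (0 : ZMod p) → ℂ) * ψ with hθ
  have hθn : classInner θ θ = 1 := by
    rw [← classInner_irr_self H.stabChar, classInner, classInner]
    congr 1
    refine Finset.sum_congr rfl fun h _ => ?_
    have hu : (ν : stabilizer G (0 : ZMod p) → ℂ) h * conj ((ν : stabilizer G (0 : ZMod p) → ℂ) h) = 1 := by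
      rw [← IsIrr.map_inv ν.2, hl]
      show ((l h : ℂˣ) : ℂ) * ((l h⁻¹ : ℂˣ) : ℂ) = 1
      rw [← Units.val_mul, ← map_mul, mul_inv_cancel, map_one, Units.val_one]
    rw [hθ, Pi.mul_apply, map_mul, mul_mul_mul_comm, hu, one_mul]
  have hθi : IsIrrCharacter (stabilizer G (0 : ZMod p)) θ :=
    isIrr_iff_classInner_eq_one.2
      ⟨IsChar.mul (IsIrr.isCharacter ν.2) (IsIrr.isCharacter H.stabChar.2), hθn⟩
  have hin : classInner ψ θ = classInner (ψ * ψ) (ν : stabilizer G (0 : ZMod p) → ℂ) := by
    rw [classInner, classInner]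
    congr 1
    refine Finset.sum_congr rfl fun h _ => ?_
    rw [hθ, Pi.mul_apply, Pi.mul_apply, map_mul, hψr]
    ring
  have heq : H.stabChar = (⟨θ, hθi⟩ : IrrCharacter (stabilizer G (0 : ZMod p))) := by
    by_contra hne
    exact hpos (by rw [← hin, hψ]; exact (classInner_irr H.stabChar ⟨θ, hθi⟩).trans (if_neg hne))
  have hl1 : l = 1 := H.linear_eq_one l fun h => by
    have e := congrArg (fun χ : IrrCharacter (stabilizer G (0 : ZMod p)) => (χ : _ → ℂ) h) heq
    simp only at e
    conv_rhs => rw [e, hθ, Pi.mul_apply, hl]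
  refine hν (Subtype.ext ?_)
  rw [hl, hl1]
  funext h
  rw [trivChar_apply]
  simp

theorem degree_of_constituent (φ : IrrCharacter G) (h1 : φ ≠ trivChar G) (h2 : φ ≠ H.perm₁)
    (hm : coef (Cfsg.permRep ℂ G (OPair p)) (1 : Module.End ℂ (OPair p → ℂ)) (φ : G → ℂ) ≠ 0) :
    2 * q - 1 ≤ charDegree (φ : G → ℂ) ∧ charDegree (φ : G → ℂ) ≠ 2 * q ∧
      charDegree (φ : G → ℂ) ≠ 2 * q + 1 := by
  haveI := Fintype.ofFinite (IrrCharacter (stabilizer G (0 : ZMod p)))
  haveI := Fact.mk H.qprime
  haveI := Fintype.ofFinite H.Q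
  haveI := Fintype.ofFinite (IrrCharacter H.Q)
  have hq11 := H.q11
  obtain ⟨n, hn, hn'⟩ := exists_mult_of_isCharacter
    (IsChar.restrict (stabilizer G (0 : ZMod p)) (IsIrr.isCharacter φ.2))
  have hnc : ∀ ν : IrrCharacter (stabilizer G (0 : ZMod p)),
      classInner (ν : stabilizer G (0 : ZMod p) → ℂ)
        (fun h : stabilizer G (0 : ZMod p) => (φ : G → ℂ) h) = (n ν : ℂ) := fun ν => by
    rw [← classInner_conj_symm, hn' ν, Complex.conj_natCast]
  have hnt : n (trivChar _) = 0 := by
    by_contra hne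
    rcases H.eq_of_stabilizer_triv φ (by rw [hn']; exact_mod_cast hne) with e | e
    · exact h1 e
    · exact h2 e
  have hψ1 : 1 ≤ n H.stabChar := by
    by_contra hlt
    refine hm ?_
    rw [H.coef_one_pairs (IsIrr.isClassFunction φ.2), hnc, hnc, hnt, show n H.stabChar = 0 by omega]
    simp
  have hdeg := sum_mult_degree hn
  rw [Subgroup.coe_one, CfsgLib.Blocks.apply_one_eq_charDegree, Nat.cast_inj] at hdeg
  have hsum := Finset.add_sum_erase Finset.univ
    (fun ν => n ν * charDegree (ν : stabilizer G (0 : ZMod p) → ℂ)) (Finset.mem_univ H.stabChar)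
  rw [← hdeg, H.charDegree_stabChar] at hsum
  have hlow : 2 * q - 1 ≤ n H.stabChar * (2 * q - 1) := Nat.le_mul_of_pos_left _ hψ1
  refine ⟨by omega, ?_⟩
  -- small complements
  have hrest : ∀ r : ℕ, r ≤ 2 → charDegree (φ : G → ℂ) = 2 * q - 1 + r →
      n H.stabChar = 1 ∧ ∀ ν ∈ Finset.univ.erase H.stabChar, n ν ≠ 0 →
        charDegree (ν : stabilizer G (0 : ZMod p) → ℂ) = r ∧ n ν = 1 ∧
        ∀ μ, μ ≠ H.stabChar → μ ≠ ν → n μ = 0 := by
    intro r hr hd
    have hψ : n H.stabChar = 1 := by
      by_contra hne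
      have : 2 * (2 * q - 1) ≤ n H.stabChar * (2 * q - 1) := Nat.mul_le_mul_right _ (by omega)
      omega
    refine ⟨hψ, fun ν hν hν0 => ?_⟩
    rw [hψ, one_mul] at hsum
    have hne1 : ∀ μ : IrrCharacter (stabilizer G (0 : ZMod p)), μ ∈ Finset.univ.erase H.stabChar →
        n μ ≠ 0 → 2 ≤ charDegree (μ : stabilizer G (0 : ZMod p) → ℂ) := by
      intro μ _ hμ0
      by_contra hlt
      have hd0 : charDegree (μ : stabilizer G (0 : ZMod p) → ℂ) ≠ 0 := by
        obtain ⟨d, hd0, hde⟩ := IsIrr.exists_degree μ.2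
        rw [CfsgLib.Blocks.apply_one_eq_charDegree, Nat.cast_inj] at hde
        omega
      refine H.no_linear φ hm μ (fun e => hμ0 (by rw [e, hnt])) (by omega) ?_
      rw [hn']
      exact_mod_cast hμ0
    have hs1 := Finset.single_le_sum
      (f := fun ν => n ν * charDegree (ν : stabilizer G (0 : ZMod p) → ℂ)) (fun _ _ => Nat.zero_le _) hν
    have h2' := hne1 ν hν hν0
    have hge : charDegree (ν : stabilizer G (0 : ZMod p) → ℂ) ≤
        n ν * charDegree (ν : stabilizer G (0 : ZMod p) → ℂ) := Nat.le_mul_of_pos_left _ (Nat.pos_of_ne_zero hν0)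
    have hn1 : n ν = 1 := by
      by_contra hne
      have : 2 * 2 ≤ n ν * charDegree (ν : stabilizer G (0 : ZMod p) → ℂ) := Nat.mul_le_mul (by omega) h2'
      omega
    refine ⟨by omega, hn1, fun μ hμ hμν => ?_⟩
    by_contra hμ0
    have hμm : μ ∈ Finset.univ.erase H.stabChar := Finset.mem_erase.2 ⟨hμ, Finset.mem_univ _⟩
    have h3 := Finset.sum_le_sum_of_subset (f := fun ν => n ν * charDegree (ν : stabilizer G (0 : ZMod p) → ℂ))
      (show {ν, μ} ⊆ Finset.univ.erase H.stabChar from by
        intro x hx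
        rcases Finset.mem_insert.1 hx with rfl | hx
        · exact hν
        · rw [Finset.mem_singleton.1 hx]; exact hμm)
    rw [Finset.sum_pair (Ne.symm hμν)] at h3
    have h4 := hne1 μ hμm hμ0
    have hge2 : charDegree (μ : stabilizer G (0 : ZMod p) → ℂ) ≤
        n μ * charDegree (μ : stabilizer G (0 : ZMod p) → ℂ) := Nat.le_mul_of_pos_left _ (Nat.pos_of_ne_zero hμ0)
    omega
  constructor
  · intro hd
    obtain ⟨hψ, hall⟩ := hrest 1 (by omega) (by omega)
    rw [hψ, one_mul] at hsum
    obtain ⟨ν, hν, hν0⟩ := Finset.exists_ne_zero_of_sum_ne_zero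
      (show ∑ ν ∈ Finset.univ.erase H.stabChar, n ν * charDegree (ν : stabilizer G (0 : ZMod p) → ℂ) ≠ 0 by omega)
    have hn0 : n ν ≠ 0 := left_ne_zero_of_mul hν0
    obtain ⟨hd1, -, -⟩ := hall ν hν hn0
    refine H.no_linear φ hm ν (fun e => hn0 (by rw [e, hnt])) hd1 ?_
    rw [hn']
    exact_mod_cast hn0
  · intro hd
    obtain ⟨hψ, hall⟩ := hrest 2 le_rfl (by omega)
    rw [hψ, one_mul] at hsum
    obtain ⟨ν, hν, hν0⟩ := Finset.exists_ne_zero_of_sum_ne_zero
      (show ∑ ν ∈ Finset.univ.erase H.stabChar, n ν * charDegree (ν : stabilizer G (0 : ZMod p) → ℂ) ≠ 0 by omega)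
    obtain ⟨hd2, hn1, hothers⟩ := hall ν hν (left_ne_zero_of_mul hν0)
    -- the value at the element of order `q`
    have hval : (φ : G → ℂ) H.scale = 1 := by
      have hx : (⟨H.scale, mem_zpowers _⟩ : H.Q) ≠ 1 := fun e => H.scale_ne_one (congrArg Subtype.val e)
      rcases H.selfCentral_Q.dichotomy φ with ⟨c, hc, hC⟩ | ⟨μ, c, hX⟩
      · have e := H.selfCentral_Q.degree_const hC
        rw [hd] at e
        push_cast at e
        have hc1 : c = -1 := by
          rcases hc with rfl | rfl | rfl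
          · exfalso
            have : (q : ℤ) ∣ 1 := ⟨(fixDim H.Q φ : ℤ) - 2, by linear_combination e⟩
            have := Int.le_of_dvd one_pos this
            omega
          · exfalso
            have : (q : ℤ) ∣ 2 := ⟨(fixDim H.Q φ : ℤ) + 1 - 2, by linear_combination e⟩
            have := Int.le_of_dvd two_pos this
            omega
          · rfl
        have e3 := H.selfCentral_Q.value_const hC hx
        rw [hc1] at e3
        simpa using e3
      · exfalso
        have e := H.selfCentral_Q.degree_exc hX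
        rw [hd] at e
        push_cast at e
        obtain ⟨Θ, -, hcard, h2, -⟩ := H.selfCentral_Q.exists_family hX
        have he : 2 * H.e ≤ q - 1 := by rw [← hcard]; exact Nat.mul_le_mul_right _ h2
        have := H.two_le_e
        rw [← Hyp.e] at e
        rcases hX.2.1 with rfl | rfl
        · have hd' : (q : ℤ) ∣ (H.e : ℤ) - 1 := ⟨2 - (fixDim H.Q φ : ℤ), by linear_combination -e⟩
          have := Int.le_of_dvd (by omega) hd'
          omega
        · have hd' : (q : ℤ) ∣ (H.e : ℤ) + 1 := ⟨(fixDim H.Q φ : ℤ) - 2, by linear_combination e⟩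
          have := Int.le_of_dvd (by omega) hd'
          omega
    set s : stabilizer G (0 : ZMod p) := ⟨H.scale, H.scale_stabilizer⟩ with hs
    have e := congrFun hn s
    rw [Finset.sum_apply, ← Finset.add_sum_erase _ _ (Finset.mem_univ H.stabChar),
      ← Finset.add_sum_erase _ _ hν, Finset.sum_eq_zero fun μ hμ => by
        rw [hothers μ (Finset.ne_of_mem_erase (Finset.mem_of_mem_erase hμ)) (Finset.ne_of_mem_erase hμ),
          Nat.cast_zero, zero_smul, Pi.zero_apply],
      hψ, hn1, Nat.cast_one, one_smul, one_smul, add_zero, H.stabChar_apply] at e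
    change (φ : G → ℂ) H.scale = _ at e
    rw [hval, H.card_fixedBy_Q (mem_zpowers _) H.scale_ne_one] at e
    have hlin := H.degree_one_of_scale ν (by
      rw [CfsgLib.Blocks.apply_one_eq_charDegree, hd2]
      push_cast at e ⊢
      linear_combination -e)
    omega

end Linear

theorem exists_parts [Fintype (IrrCharacter G)] : ∃ U A, Parts H U A := by
  haveI := Fintype.ofFinite (stabilizer G (0 : ZMod p))
  set ρ := Cfsg.permRep ℂ G (OPair p) with hρ
  choose U hU using fun φ : IrrCharacter G => exists_nat_coef (isEnd_plusOp (G := G)) plusOp_mul_plusOp φ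
  choose A hA using fun φ : IrrCharacter G => exists_nat_coef (isEnd_minusOp (G := G)) minusOp_mul_minusOp φ
  have hp : ∀ φ : IrrCharacter G, (U φ : ℂ) =
      (coef ρ (1 : Module.End ℂ (OPair p → ℂ)) (φ : G → ℂ) + coef ρ (swapOp p) (φ : G → ℂ)) / 2 := fun φ => by
    rw [← hU, plusOp, coef, trFun_smul, trFun_add, classInner_smul_left, classInner_add_left, coef, coef]
    ring
  have hm : ∀ φ : IrrCharacter G, (A φ : ℂ) =
      (coef ρ (1 : Module.End ℂ (OPair p → ℂ)) (φ : G → ℂ) - coef ρ (swapOp p) (φ : G → ℂ)) / 2 := fun φ => by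
    rw [← hA, minusOp, coef, trFun_smul, trFun_sub, classInner_smul_left, classInner_sub_left, coef, coef]
    ring
  have h1t : coef ρ (1 : Module.End ℂ (OPair p → ℂ)) ((trivChar G : IrrCharacter G) : G → ℂ) = 1 := by
    rw [H.coef_one_pairs (IsIrr.isClassFunction (trivChar G).2),
      show (fun h : stabilizer G (0 : ZMod p) => (trivChar G : G → ℂ) h) =
        ((trivChar (stabilizer G (0 : ZMod p)) : IrrCharacter _) : _ → ℂ) from
        funext fun h => by rw [trivChar_apply, trivChar_apply],
      classInner_irr, classInner_irr, if_pos rfl, if_neg H.stabChar_ne_triv, add_zero]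
  have h1c : coef ρ (1 : Module.End ℂ (OPair p → ℂ)) (H.perm₁ : G → ℂ) = 2 := by
    rw [H.coef_one_pairs (IsIrr.isClassFunction H.perm₁.2),
      show (fun h : stabilizer G (0 : ZMod p) => (H.perm₁ : G → ℂ) h) =
        ((trivChar (stabilizer G (0 : ZMod p)) : IrrCharacter _) : _ → ℂ) +
          (H.stabChar : stabilizer G (0 : ZMod p) → ℂ) from
        funext fun h => by rw [Pi.add_apply, trivChar_apply, H.perm₁_apply, H.stabChar_apply]; ring,
      classInner_add_right, classInner_add_right, classInner_irr, classInner_irr, classInner_irr,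
      classInner_irr, if_pos rfl, if_pos rfl, if_neg H.stabChar_ne_triv, if_neg (Ne.symm H.stabChar_ne_triv)]
    norm_num
  refine ⟨U, A, hU, hA, ?_, ?_, ?_, ?_, fun φ h1 h2 hne => ?_⟩
  · apply Nat.cast_injective (R := ℂ); rw [hp, h1t, H.coef_swap_triv]; norm_num
  · apply Nat.cast_injective (R := ℂ); rw [hm, h1t, H.coef_swap_triv]; norm_num
  · apply Nat.cast_injective (R := ℂ); rw [hp, h1c, H.coef_swap_perm]; norm_num
  · apply Nat.cast_injective (R := ℂ); rw [hm, h1c, H.coef_swap_perm]; norm_num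
  · refine H.degree_of_constituent φ h1 h2 fun e => hne ?_
    have : ((U φ + A φ : ℕ) : ℂ) = 0 := by
      rw [Nat.cast_add, hp, hm, ← add_div, e]; ring
    exact_mod_cast this

end Hyp

end CfsgLib.Perm.ItoTwoQ
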