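import Cfsg.Agent.Lib.Perm.ItoTwoQ.ThreePiece

/-!
# A real exceptional family in the symmetric part

* `Hyp.exists_real_family`: in a triply but not quadruply transitive group of this kind the symmetric
  part of the pair module is built on a family of real characters, exceptional at the subgroup of
  order `q`.
-/

set_option autoImplicit false
set_option linter.all false

open scoped ComplexConjugate

namespace CfsgLib.Perm.ItoTwoQ

open Equiv MulAction Subgroup Cfsg CfsgLib.Char CfsgLib.Perm.CentralizerRing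
open scoped _root_.Classical

variable {p q : ℕ} [Fact p.Prime] {G : Subgroup (Equiv.Perm (ZMod p))}

/-- The multiplicities without the two large constituents. -/
noncomputable def Hyp.reduced (H : Hyp p q G) [Fintype G] (U : IrrCharacter G → ℕ)
    (φ : IrrCharacter G) : ℕ := if φ = trivChar G ∨ φ = H.perm₁ then 0 else U φ

namespace Hyp

variable (H : Hyp p q G) [Fintype G] [Fintype (IrrCharacter G)]
include H

theorem sum_reduced (U : IrrCharacter G → ℕ) {R : Type*} [CommSemiring R] (f : IrrCharacter G → R) :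
    ∑ φ, (U φ : R) * f φ = (U (trivChar G) : R) * f (trivChar G) + (U H.perm₁ : R) * f H.perm₁ +
      ∑ φ, (H.reduced U φ : R) * f φ := by
  rw [← Finset.add_sum_erase _ _ (Finset.mem_univ (trivChar G)),
    ← Finset.add_sum_erase _ _ (Finset.mem_erase.2 ⟨H.perm₁_ne_triv, Finset.mem_univ H.perm₁⟩),
    ← add_assoc]
  congr 1
  rw [← Finset.sum_subset (Finset.subset_univ ((Finset.univ.erase (trivChar G)).erase H.perm₁))]
  · refine Finset.sum_congr rfl fun φ hφ => ?_
    rw [reduced, if_neg]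
    simp only [Finset.mem_erase, Finset.mem_univ, and_true] at hφ
    tauto
  · intro φ _ hφ
    simp only [Finset.mem_erase, Finset.mem_univ, and_true, not_and, not_not] at hφ
    rw [reduced, if_pos (by tauto), Nat.cast_zero, zero_mul]

theorem trFun_parts_apply (g : G) :
    trFun (Cfsg.permRep ℂ G (OPair p)) (plusOp p) g =
        ((Nat.card (fixedBy (ZMod p) g) : ℂ) * ((Nat.card (fixedBy (ZMod p) g) : ℂ) - 1) +
          ((Nat.card (fixedBy (ZMod p) (g * g)) : ℂ) - (Nat.card (fixedBy (ZMod p) g) : ℂ))) / 2 ∧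
      trFun (Cfsg.permRep ℂ G (OPair p)) (minusOp p) g =
        ((Nat.card (fixedBy (ZMod p) g) : ℂ) * ((Nat.card (fixedBy (ZMod p) g) : ℂ) - 1) -
          ((Nat.card (fixedBy (ZMod p) (g * g)) : ℂ) - (Nat.card (fixedBy (ZMod p) g) : ℂ))) / 2 := by
  constructor <;>
    · first | rw [plusOp, trFun_smul, trFun_add] | rw [minusOp, trFun_smul, trFun_sub]
      simp only [Pi.smul_apply, Pi.add_apply, Pi.sub_apply, smul_eq_mul, H.trFun_one_apply,
        H.trFun_swap_apply]
      ring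

theorem trFun_parts_one :
    trFun (Cfsg.permRep ℂ G (OPair p)) (plusOp p) 1 = (p : ℂ) * q ∧
      trFun (Cfsg.permRep ℂ G (OPair p)) (minusOp p) 1 = (p : ℂ) * q := by
  have h1 : Nat.card (fixedBy (ZMod p) (1 : G)) = p := by
    rw [show fixedBy (ZMod p) (1 : G) = Set.univ from Set.ext fun x => by simp,
      Nat.card_coe_set_eq, Set.ncard_univ, Nat.card_zmod]
  obtain ⟨e1, e2⟩ := H.trFun_parts_apply 1
  rw [mul_one, h1] at e1 e2
  rw [e1, e2, show (p : ℂ) = 2 * q + 1 by rw [H.pq]; push_cast; rfl]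
  exact ⟨by ring, by ring⟩

theorem trFun_parts_P {x : G} (hx : x ∈ H.P) (hx1 : x ≠ 1) :
    trFun (Cfsg.permRep ℂ G (OPair p)) (plusOp p) x = 0 ∧
      trFun (Cfsg.permRep ℂ G (OPair p)) (minusOp p) x = 0 := by
  have hxx : x * x ≠ 1 := fun e => by
    have hd : orderOf x ∣ 2 := orderOf_dvd_of_pow_eq_one (by rw [pow_two, e])
    have hd' := Subgroup.orderOf_dvd_natCard _ hx
    rw [H.card_P] at hd'
    rcases (Nat.dvd_prime Fact.out).1 hd' with e1 | e1
    · exact hx1 (orderOf_eq_one_iff.1 e1)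
    · have := Nat.le_of_dvd two_pos (e1 ▸ hd)
      have := H.p23
      omega
  obtain ⟨e1, e2⟩ := H.trFun_parts_apply x
  rw [e1, e2, H.card_fixedBy_P hx hx1, H.card_fixedBy_P (mul_mem hx hx) hxx]
  norm_num

variable [Fintype H.P] [Fintype (IrrCharacter H.P)]

theorem fixDim_trivial : fixDim H.P (trivChar G) = 1 ∧ fixDim H.P H.perm₁ = 0 := by
  have hp0 : (p : ℂ) ≠ 0 := Nat.cast_ne_zero.2 (Fact.out : p.Prime).ne_zero
  constructor <;> apply Nat.cast_injective (R := ℂ) <;> rw [fixDim, ← amult_spec]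
  · rw [H.selfCentral_P.classInner_of_const (f := ((trivChar G : IrrCharacter G) : G → ℂ)) (v := 1)
      (fun x _ => trivChar_apply _), if_pos rfl, trivChar_apply]
    simp
  · rw [H.selfCentral_P.classInner_of_const (f := (H.perm₁ : G → ℂ)) (v := -1) (fun x hx => by
        rw [H.perm₁_apply, H.card_fixedBy_P x.2 (fun e => hx (Subtype.ext e)), Nat.cast_zero, zero_sub]),
      if_pos rfl, H.perm₁_one, sub_neg_eq_add,
      show (2 * (q : ℂ) + 1) = (p : ℂ) by rw [H.pq]; push_cast; rfl, div_self hp0]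
    norm_num

theorem piece {U : IrrCharacter G → ℕ} {D : Module.End ℂ (OPair p → ℂ)}
    (hD : IsEnd (Cfsg.permRep ℂ G (OPair p)) D) (hDD : D * D = D)
    (hU : ∀ φ : IrrCharacter G, coef (Cfsg.permRep ℂ G (OPair p)) D (φ : G → ℂ) = U φ)
    (h1 : trFun (Cfsg.permRep ℂ G (OPair p)) D 1 = (p : ℂ) * q)
    (hP : ∀ x ∈ H.P, x ≠ 1 → trFun (Cfsg.permRep ℂ G (OPair p)) D x = 0)
    (hrat : ∀ g, ∃ r : ℚ, trFun (Cfsg.permRep ℂ G (OPair p)) D g = (r : ℂ))
    (hdeg : ∀ φ : IrrCharacter G, φ ≠ trivChar G → φ ≠ H.perm₁ → U φ ≠ 0 →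
      2 * q - 1 ≤ charDegree (φ : G → ℂ) ∧ charDegree (φ : G → ℂ) ≠ 2 * q ∧
        charDegree (φ : G → ℂ) ≠ 2 * q + 1)
    (hc : U H.perm₁ = 1) (hle : U (trivChar G) ≤ 1) :
    Piece H (H.reduced U) (q - U (trivChar G)) (2 * ((U (trivChar G) : ℤ)) - 2) := by
  have hf : trFun (Cfsg.permRep ℂ G (OPair p)) D = ∑ φ : IrrCharacter G, (U φ : ℂ) • (φ : G → ℂ) := by
    funext g
    rw [trFun_eq_sum hD, Finset.sum_apply]
    exact Finset.sum_congr rfl fun φ _ => by rw [hU, Pi.smul_apply, smul_eq_mul]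
  have hfix : ∑ φ, U φ * fixDim H.P φ = q := by
    apply Nat.cast_injective (R := ℂ)
    unfold fixDim
    rw [← H.selfCentral_P.sum_mult_amult hf (trivChar H.P), H.selfCentral_P.classInner_of_const (v := 0)
      (fun x hx => hP x x.2 (fun e => hx (Subtype.ext e))), if_pos rfl, h1, sub_zero, add_zero,
      mul_div_assoc, mul_comm, div_mul_cancel₀ _ (Nat.cast_ne_zero.2 (Fact.out : p.Prime).ne_zero)]
  have hdd : ∑ φ, U φ * charDegree (φ : G → ℂ) = p * q := by
    have e := sum_mult_degree hf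
    rw [h1] at e
    exact_mod_cast e.symm
  obtain ⟨ht, hχ⟩ := H.fixDim_trivial
  have hdt : charDegree ((trivChar G : IrrCharacter G) : G → ℂ) = 1 := by
    have e : ((trivChar G : IrrCharacter G) : G → ℂ) 1 = 1 := trivChar_apply _
    rw [CfsgLib.Blocks.apply_one_eq_charDegree] at e
    exact_mod_cast e
  have hdc : charDegree (H.perm₁ : G → ℂ) = 2 * q := by
    have e := H.perm₁_one
    rw [CfsgLib.Blocks.apply_one_eq_charDegree] at e
    exact_mod_cast e
  refine ⟨?_, ?_, fun φ hφ => ?_, fun φ k hk => ?_⟩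
  · have e := H.sum_reduced U (fun φ => fixDim H.P φ)
    simp only [Nat.cast_id] at e
    rw [hfix, ht, hχ, hc] at e
    omega
  · have e := H.sum_reduced U (fun φ => defect H φ)
    have e0 : ∑ φ, (U φ : ℤ) * defect H φ = 0 := by
      simp only [defect, mul_sub, Finset.sum_sub_distrib, mul_left_comm _ (p : ℤ), ← Finset.mul_sum]
      rw [show ∑ φ, (U φ : ℤ) * (charDegree (φ : G → ℂ) : ℤ) = (p : ℤ) * q by exact_mod_cast hdd,
        show ∑ φ, (U φ : ℤ) * (fixDim H.P φ : ℤ) = (q : ℤ) by exact_mod_cast hfix, sub_self]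
    rw [e0, hc, defect, defect, ht, hχ, hdt, hdc] at e
    push_cast at e
    have hpZ : (p : ℤ) = 2 * (q : ℤ) + 1 := by exact_mod_cast H.pq
    linear_combination -e + (U (trivChar G) : ℤ) * hpZ
  · rw [reduced] at hφ
    split_ifs at hφ with hcase
    · exact absurd rfl hφ
    · exact hdeg φ (fun e => hcase (Or.inl e)) (fun e => hcase (Or.inr e)) hφ
  · have hpow : ∀ (φ : IrrCharacter G) (k : ℕ) (hk : k.Coprime (Nat.card G)), U (powConj φ hk) = U φ := by
      intro φ k hk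
      have e : coef (Cfsg.permRep ℂ G (OPair p)) D (powConj φ hk : G → ℂ) = U φ := by
        rw [coef, classInner_powConj φ hk fun g => apply_pow_of_rat (isCharacter_trFun hD hDD) hrat hk g]
        exact hU φ
      rw [hU] at e
      exact_mod_cast e
    have hinj : ∀ ψ : IrrCharacter G, (∀ g, (ψ : G → ℂ) (g ^ k) = (ψ : G → ℂ) g) →
        (powConj φ hk = ψ ↔ φ = ψ) := by
      intro ψ hψ
      constructor
      · intro e
        refine irr_ext fun g => ?_
        obtain ⟨h, rfl⟩ := (powCoprime hk.symm).surjective g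
        show (φ : G → ℂ) (h ^ k) = (ψ : G → ℂ) (h ^ k)
        rw [hψ, ← powConj_apply φ hk, e]
      · rintro rfl
        exact irr_ext fun g => by rw [powConj_apply, hψ]
    have hc1 : IsCharacter G ((H.perm₁ : IrrCharacter G) : G → ℂ) := IsIrr.isCharacter H.perm₁.2
    rw [reduced, reduced, hpow]
    exact if_congr (or_congr (hinj (trivChar G) fun g => by rw [trivChar_apply, trivChar_apply])
      (hinj H.perm₁ fun g => apply_pow_of_rat hc1 (fun g => ⟨(Nat.card (fixedBy (ZMod p) g) : ℚ) - 1, by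
        rw [H.perm₁_apply]; push_cast; rfl⟩) hk g)) rfl rfl

variable [Fintype H.Q] [Fintype (IrrCharacter H.Q)]

theorem exists_real_family :
    ∃ (φ : IrrCharacter G) (μ : IrrCharacter H.Q) (c : ℤ) (Θ : Finset (IrrCharacter G)),
      IsExc H.Q φ μ c ∧ φ ∈ Θ ∧ Θ.card * H.e = q - 1 ∧ 2 ≤ Θ.card ∧
      (∀ g, conj ((φ : G → ℂ) g) = (φ : G → ℂ) g) ∧
      (∀ θ ∈ Θ, ∀ g, ¬ q ∣ orderOf g → (θ : G → ℂ) g = (φ : G → ℂ) g) ∧
      ∀ g : G, 2 * ∑ θ ∈ Θ, (θ : G → ℂ) g = (Nat.card (fixedBy (ZMod p) g) : ℂ) ^ 2 +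
        (Nat.card (fixedBy (ZMod p) (g * g)) : ℂ) - 4 * (Nat.card (fixedBy (ZMod p) g) : ℂ) := by
  obtain ⟨U, A, d⟩ := H.exists_parts
  have hq := H.q11
  have hrp : ∀ g, ∃ r : ℚ, trFun (Cfsg.permRep ℂ G (OPair p)) (plusOp p) g = (r : ℂ) := fun g =>
    ⟨((Nat.card (fixedBy (ZMod p) g) : ℚ) * ((Nat.card (fixedBy (ZMod p) g) : ℚ) - 1) +
      ((Nat.card (fixedBy (ZMod p) (g * g)) : ℚ) - (Nat.card (fixedBy (ZMod p) g) : ℚ))) / 2, by
      rw [(H.trFun_parts_apply g).1]; push_cast; rfl⟩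
  have hrm : ∀ g, ∃ r : ℚ, trFun (Cfsg.permRep ℂ G (OPair p)) (minusOp p) g = (r : ℂ) := fun g =>
    ⟨((Nat.card (fixedBy (ZMod p) g) : ℚ) * ((Nat.card (fixedBy (ZMod p) g) : ℚ) - 1) -
      ((Nat.card (fixedBy (ZMod p) (g * g)) : ℚ) - (Nat.card (fixedBy (ZMod p) g) : ℚ))) / 2, by
      rw [(H.trFun_parts_apply g).2]; push_cast; rfl⟩
  have hU := H.piece isEnd_plusOp plusOp_mul_plusOp d.plus H.trFun_parts_one.1
    (fun x hx hx1 => (H.trFun_parts_P hx hx1).1) hrp
    (fun φ h1 h2 h3 => d.degree φ h1 h2 (by omega)) d.plus_perm (by rw [d.plus_triv])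
  have hA := H.piece isEnd_minusOp minusOp_mul_minusOp d.minus H.trFun_parts_one.2
    (fun x hx hx1 => (H.trFun_parts_P hx hx1).2) hrm
    (fun φ h1 h2 h3 => d.degree φ h1 h2 (by omega)) d.minus_perm (by rw [d.minus_triv]; omega)
  obtain ⟨hU1, hUs⟩ := hU.plus_shape (by rw [d.plus_triv]) (by rw [d.plus_triv]; rfl)
  obtain ⟨hA1, hAs⟩ := hA.minus_shape (by rw [d.minus_triv, Nat.sub_zero]) (by rw [d.minus_triv]; rfl)
  set X := H.reduced U with hX
  set Y := H.reduced A with hY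
  obtain ⟨l₀, hl₀⟩ : ∃ l : IrrCharacter H.P, l ≠ trivChar H.P := by
    by_contra hno
    push Not at hno
    have h1 := H.selfCentral_P.card_lchar
    rw [Fintype.card_eq_one_iff.2 ⟨trivChar H.P, hno⟩] at h1
    exact (Fact.out : p.Prime).one_lt.ne h1
  have hdisj : ∀ φ, X φ * Y φ = 0 := fun φ => by
    by_contra h0
    obtain ⟨hx, hy⟩ := mul_ne_zero_iff.1 h0
    obtain ⟨c, hc0, hc⟩ := (hA1 φ hy).2
    have e1 := (hU1 φ hx).2 l₀ hl₀
    rw [hc l₀ hl₀] at e1
    omega
  have hsq : ∀ (Z : IrrCharacter G → ℕ), (∀ φ, Z φ ≠ 0 → Z φ = 1) →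
      ∑ φ, Z φ * Z φ = (Finset.univ.filter fun φ => Z φ ≠ 0).card ∧
      ∑ φ, Z φ = (Finset.univ.filter fun φ => Z φ ≠ 0).card := fun Z hZ => by
    have hz : ∀ φ, Z φ = if Z φ ≠ 0 then 1 else 0 := fun φ => by
      split_ifs with h <;> [exact hZ φ h; omega]
    rw [Finset.card_filter]
    constructor <;> refine Finset.sum_congr rfl fun φ _ => ?_
    · conv_lhs => rw [hz φ]
      split_ifs <;> rfl
    · exact hz φ
  obtain ⟨hXX, hXs⟩ := hsq X fun φ h => (hU1 φ h).1
  obtain ⟨hYY, hYs⟩ := hsq Y fun φ h => (hA1 φ h).1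
  set r := (Finset.univ.filter fun φ => X φ ≠ 0).card with hr
  set s := (Finset.univ.filter fun φ => Y φ ≠ 0).card with hs
  -- the full sums
  have hsp : ∀ (f : IrrCharacter G → ℕ) (Z : IrrCharacter G → ℕ), ∑ φ, Z φ * f φ =
      Z (trivChar G) * f (trivChar G) + Z H.perm₁ * f H.perm₁ + ∑ φ, H.reduced Z φ * f φ := fun f Z => by
    have := H.sum_reduced Z f
    simpa only [Nat.cast_id] using this
  have hred : ∀ (Z : IrrCharacter G → ℕ) φ, H.reduced Z φ * Z φ = H.reduced Z φ * H.reduced Z φ := fun Z φ => by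
    rw [reduced]; split_ifs <;> simp
  have hUU : ∑ φ, U φ * U φ = 2 + r := by
    rw [hsp, d.plus_triv, d.plus_perm, Finset.sum_congr rfl fun φ _ => hred U φ, ← hX, hXX]
  have hAA : ∑ φ, A φ * A φ = 1 + s := by
    rw [hsp, d.minus_triv, d.minus_perm, Finset.sum_congr rfl fun φ _ => hred A φ, ← hY, hYY]
  have hUA : ∑ φ, U φ * A φ = 1 := by
    rw [hsp, d.plus_triv, d.minus_triv, d.plus_perm, d.minus_perm,
      Finset.sum_eq_zero (s := (Finset.univ : Finset (IrrCharacter G)))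
        (f := fun φ => H.reduced U φ * A φ) fun φ _ => by
          have := hdisj φ
          simp only [hX, hY, reduced] at this ⊢
          split_ifs at this ⊢
          · rw [zero_mul]
          · exact this]
    rfl
  have hle := d.part_le
  rw [hUU, hAA] at hle
  rcases hUs with ⟨φ, hφ⟩ | ⟨φ, μ, c, Θ, hexc, hmem, hcard, h2, hsupp, hreg⟩
  · exfalso
    have hr1 : r = 1 := by
      rw [hr, show (Finset.univ.filter fun ψ => X ψ ≠ 0) = {φ} from Finset.ext fun ψ => by simp [hφ ψ],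
        Finset.card_singleton]
    have h7 := d.seven_false
    have e : ∑ φ, (U φ + A φ) * (U φ + A φ) =
        ∑ φ, U φ * U φ + ∑ φ, A φ * A φ + 2 * ∑ φ, U φ * A φ := by
      rw [Finset.mul_sum, ← Finset.sum_add_distrib, ← Finset.sum_add_distrib]
      exact Finset.sum_congr rfl fun φ _ => by ring
    rw [e, hUU, hAA, hUA] at h7
    omega
  have hΘX : (Finset.univ.filter fun ψ => X ψ ≠ 0) = Θ := Finset.ext fun ψ => by simp [hsupp ψ]
  -- all constituents have indicator one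
  have hfs1 : ∀ ψ : IrrCharacter G, (fsInd (ψ : G → ℂ)).re ≤ 1 := fun ψ => by
    obtain ⟨n, ρ, hρ, e⟩ := ψ.2
    haveI := hρ
    rw [← e]
    rcases (fsInd_trichotomy ρ).1 with h | h | h <;> rw [h] <;> norm_num
  have hind := congrArg Complex.re d.indicator_sum
  rw [hUU, hAA, hUA, Complex.re_sum] at hind
  simp only [Complex.mul_re, Complex.natCast_re, Complex.natCast_im, zero_mul, sub_zero, Complex.sub_re,
    Complex.add_re, Complex.re_ofNat, Complex.im_ofNat] at hind
  have htot : ∑ ψ, (U ψ + A ψ) = 3 + r + s := by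
    rw [Finset.sum_add_distrib]
    have eU := hsp (fun _ => 1) U
    have eA := hsp (fun _ => 1) A
    simp only [mul_one] at eU eA
    rw [eU, eA, d.plus_triv, d.plus_perm, d.minus_triv, d.minus_perm, ← hX, ← hY, hXs, hYs]
    ring
  have hzero : ∑ ψ, ((U ψ + A ψ : ℕ) : ℝ) * (1 - (fsInd (ψ : G → ℂ)).re) = 0 := by
    rw [Finset.sum_congr rfl fun ψ _ => mul_one_sub _ _, Finset.sum_sub_distrib, hind,
      ← Nat.cast_sum, htot]
    push_cast
    ring
  have hφX := (hsupp φ).2 hmem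
  have hUφ : U φ + A φ ≠ 0 := by
    simp only [hX, reduced] at hφX
    split_ifs at hφX <;> omega
  have hφ1 : (fsInd (φ : G → ℂ)).re = 1 := by
    have e := (Finset.sum_eq_zero_iff_of_nonneg (fun ψ _ => mul_nonneg (Nat.cast_nonneg _)
      (sub_nonneg.2 (hfs1 ψ)))).1 hzero φ (Finset.mem_univ _)
    rcases mul_eq_zero.1 e with e1 | e1
    · exact absurd (Nat.cast_eq_zero.1 e1) hUφ
    · linarith
  refine ⟨φ, μ, c, Θ, hexc, hmem, hcard, h2, fun g => ?_, hreg, fun g => ?_⟩
  · obtain ⟨n, ρ, hρ, e⟩ := φ.2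
    haveI := hρ
    rw [← e] at hφ1 ⊢
    refine Complex.conj_eq_iff_im.2 (by_contra fun him => ?_)
    rw [((fsInd_trichotomy ρ).2).2 ⟨g, him⟩] at hφ1
    norm_num at hφ1
  · have e := congrFun d.trFun_plus g
    rw [(H.trFun_parts_apply g).1, Finset.sum_apply] at e
    simp only [Pi.smul_apply, smul_eq_mul] at e
    rw [H.sum_reduced U (fun ψ => (ψ : G → ℂ) g), d.plus_triv, d.plus_perm, trivChar_apply, H.perm₁_apply,
      ← Finset.sum_subset (Finset.subset_univ Θ) (fun ψ _ hne => by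
        rw [show H.reduced U ψ = 0 from by_contra fun hψ => hne ((hsupp ψ).1 hψ), Nat.cast_zero, zero_mul]),
      Finset.sum_congr rfl fun θ hθ => by
        rw [show H.reduced U θ = 1 from (hU1 θ ((hsupp θ).2 hθ)).1, Nat.cast_one, one_mul]] at e
    push_cast at e
    linear_combination -2 * e

end Hyp

end CfsgLib.Perm.ItoTwoQ
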