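import Cfsg.Agent.Lib.Perm.ItoTwoQ.ThreeRel
import Cfsg.Agent.Lib.Perm.ItoTwoQ.PartOne

/-!
# The shape of the two reduced parts of the pair module

* `Piece.plus_shape`, `Piece.minus_shape`: from the totals on the fixed spaces of the subgroup of order
  `p` and on the degrees, each reduced part is irreducible or is built on one exceptional family.
-/

set_option autoImplicit false
set_option linter.all false

open scoped ComplexConjugate

namespace CfsgLib.Perm.ItoTwoQ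

open Equiv MulAction Subgroup Cfsg CfsgLib.Char CfsgLib.Perm.CentralizerRing
open scoped _root_.Classical

theorem exists_unique_of_sum_eq_one {ι : Type*} [DecidableEq ι] {S : Finset ι} {f : ι → ℕ}
    (h : ∑ i ∈ S, f i = 1) : ∃ a ∈ S, f a = 1 ∧ ∀ b ∈ S, b ≠ a → f b = 0 := by
  obtain ⟨a, ha, hne⟩ := Finset.exists_ne_zero_of_sum_ne_zero (f := f) (s := S) (by omega)
  rw [← Finset.add_sum_erase S f ha] at h
  have hz : ∑ i ∈ S.erase a, f i = 0 := by omega
  exact ⟨a, ha, by omega, fun b hb hba => Finset.sum_eq_zero_iff.1 hz b (Finset.mem_erase.2 ⟨hba, hb⟩)⟩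

theorem eq_residue {q : ℕ} {n c k : ℤ} (h : (q : ℤ) ∣ n - c) (hn : 1 ≤ n) (hn' : n ≤ q) (hk : -(q : ℤ) < c)
    (hk' : c < (q : ℤ)) (he : k = if 1 ≤ c then c else c + q) : n = k := by
  obtain ⟨m, hm⟩ := h
  rcases (show m ≤ -1 ∨ m = 0 ∨ m = 1 ∨ 2 ≤ m by omega) with hm1 | rfl | rfl | hm1
  · have : (q : ℤ) * m ≤ (q : ℤ) * (-1) := mul_le_mul_of_nonneg_left hm1 (Int.natCast_nonneg q)
    split_ifs at he <;> omega
  · split_ifs at he <;> omega
  · split_ifs at he <;> omega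
  · have : (q : ℤ) * 2 ≤ (q : ℤ) * m := mul_le_mul_of_nonneg_left hm1 (Int.natCast_nonneg q)
    split_ifs at he <;> omega

variable {p q : ℕ} [Fact p.Prime] {G : Subgroup (Equiv.Perm (ZMod p))} [Fintype G]
  [Fintype (IrrCharacter G)]

/-- The defect of a character at the subgroup of order `p`. -/
noncomputable def defect (H : Hyp p q G) [Fintype H.P] (φ : IrrCharacter G) : ℤ :=
  (charDegree (φ : G → ℂ) : ℤ) - p * fixDim H.P φ

/-- A reduced part. -/
structure Piece (H : Hyp p q G) [Fintype H.P] (X : IrrCharacter G → ℕ) (T : ℕ) (κ : ℤ) : Prop where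
  fix : ∑ φ, X φ * fixDim H.P φ = T
  defect_sum : ∑ φ, (X φ : ℤ) * defect H φ = κ * q
  degree : ∀ φ : IrrCharacter G, X φ ≠ 0 →
    2 * q - 1 ≤ charDegree (φ : G → ℂ) ∧ charDegree (φ : G → ℂ) ≠ 2 * q ∧
      charDegree (φ : G → ℂ) ≠ 2 * q + 1
  pow : ∀ (φ : IrrCharacter G) (k : ℕ) (hk : k.Coprime (Nat.card G)), X (powConj φ hk) = X φ

namespace Piece

variable {H : Hyp p q G} [Fintype H.P] [Fintype (IrrCharacter H.P)] {X : IrrCharacter G → ℕ}
  {T : ℕ} {κ : ℤ}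

omit [Fintype (IrrCharacter G)] in
theorem defect_cases (φ : IrrCharacter G) :
    (∃ c : ℤ, (c = 0 ∨ c = 1 ∨ c = -1) ∧ IsConst H.P φ c ∧ defect H φ = 2 * q * c) ∨
      ∃ μ c, IsExc H.P φ μ c ∧ defect H φ = q * c := by
  have hpZ : (p : ℤ) = 2 * (q : ℤ) + 1 := by exact_mod_cast H.pq
  rcases H.selfCentral_P.dichotomy φ with ⟨c, hc, hC⟩ | ⟨μ, c, hX⟩
  · refine Or.inl ⟨c, hc, hC, ?_⟩
    rw [defect, H.selfCentral_P.degree_const hC]
    linear_combination c * hpZ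
  · refine Or.inr ⟨μ, c, hX, ?_⟩
    rw [defect, H.selfCentral_P.degree_exc hX, H.fusionIndex_P]
    ring

variable (d : Piece H X T κ)
include d

theorem sum_le (S : Finset (IrrCharacter G)) : ∑ φ ∈ S, X φ * fixDim H.P φ ≤ T := by
  rw [← d.fix]
  exact Finset.sum_le_sum_of_subset (Finset.subset_univ _)

theorem fixDim_pos {φ : IrrCharacter G} (h : X φ ≠ 0) : 1 ≤ fixDim H.P φ := by
  by_contra h0
  obtain ⟨h1, h2, h3⟩ := d.degree φ h
  have hn : fixDim H.P φ = 0 := by omega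
  have hq := H.q11
  rcases defect_cases (H := H) φ with ⟨c, hc, -, hd⟩ | ⟨μ, c, hX, hd⟩ <;>
    rw [defect, hn, Nat.cast_zero, mul_zero, sub_zero] at hd
  · rcases hc with rfl | rfl | rfl <;> omega
  · rcases hX.2.1 with rfl | rfl <;> omega

theorem fixDim_le {φ : IrrCharacter G} (h : X φ ≠ 0) : X φ * fixDim H.P φ ≤ T ∧ fixDim H.P φ ≤ T := by
  have h1 := d.sum_le {φ}
  rw [Finset.sum_singleton] at h1
  exact ⟨h1, (Nat.le_mul_of_pos_left _ (Nat.pos_of_ne_zero h)).trans h1⟩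

theorem defect_pos_of_one {φ : IrrCharacter G} (h : X φ ≠ 0) (hn : fixDim H.P φ = 1) :
    defect H φ = q ∨ defect H φ = 2 * q := by
  obtain ⟨h1, h2, h3⟩ := d.degree φ h
  have hpq := H.pq
  have hq := H.q11
  rcases defect_cases (H := H) φ with ⟨c, hc, -, hd⟩ | ⟨μ, c, hX, hd⟩
  · rw [hd]
    rw [defect, hn, Nat.cast_one, mul_one] at hd
    rcases hc with rfl | rfl | rfl <;> omega
  · rw [hd]
    rw [defect, hn, Nat.cast_one, mul_one] at hd
    rcases hX.2.1 with rfl | rfl <;> omega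

theorem exists_ne_one (hκ : κ ≤ 0) (hT : 1 ≤ T) : ∃ φ, X φ ≠ 0 ∧ fixDim H.P φ ≠ 1 := by
  by_contra hno
  push Not at hno
  have hq := H.q11
  obtain ⟨φ, -, hφ⟩ := Finset.exists_ne_zero_of_sum_ne_zero
    (show ∑ φ : IrrCharacter G, X φ * fixDim H.P φ ≠ 0 by rw [d.fix]; omega)
  have h0 : X φ ≠ 0 := left_ne_zero_of_mul hφ
  have hle : (X φ : ℤ) * defect H φ ≤ κ * q := by
    rw [← d.defect_sum]
    refine Finset.single_le_sum (f := fun ψ => (X ψ : ℤ) * defect H ψ) (fun ψ _ => ?_) (Finset.mem_univ φ)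
    rcases Nat.eq_zero_or_pos (X ψ) with e | e
    · simp [e]
    · rcases d.defect_pos_of_one (by omega) (hno ψ (by omega)) with e1 | e1 <;> rw [e1] <;> positivity
  have hpos : 0 < (X φ : ℤ) * defect H φ := by
    refine mul_pos (by exact_mod_cast Nat.pos_of_ne_zero h0) ?_
    rcases d.defect_pos_of_one h0 (hno φ h0) with e1 | e1 <;> rw [e1] <;> omega
  have : κ * (q : ℤ) ≤ 0 := mul_nonpos_of_nonpos_of_nonneg hκ (Int.natCast_nonneg q)
  omega

theorem cases_of_ne_one [Fintype H.Q] [Fintype (IrrCharacter H.Q)] (hT : T ≤ q) {φ : IrrCharacter G}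
    (h : X φ ≠ 0) (hn : fixDim H.P φ ≠ 1) :
    fixDim H.P φ = q ∨ fixDim H.P φ = q - 1 ∨
      ∃ (μ : IrrCharacter H.Q) (c : ℤ) (Θ : Finset (IrrCharacter G)), IsExc H.Q φ μ c ∧ φ ∈ Θ ∧
        Θ.card * H.e = q - 1 ∧ 2 ≤ Θ.card ∧ fixDim H.P φ = H.e ∧ X φ = 1 ∧
        ∀ θ ∈ Θ, X θ = 1 ∧ fixDim H.P θ = H.e ∧ defect H θ = defect H φ ∧
          (∀ x ∈ H.P, (θ : G → ℂ) x = (φ : G → ℂ) x) ∧
          ∀ g, ¬ q ∣ orderOf g → (θ : G → ℂ) g = (φ : G → ℂ) g := by
  haveI := Fact.mk H.qprime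
  have hq := H.q11
  have hn1 := d.fixDim_pos h
  have hn2 := (d.fixDim_le h).2
  set n := fixDim H.P φ with hnd
  obtain ⟨δ, hδ⟩ : ∃ δ : ℤ, defect H φ = q * δ := by
    rcases defect_cases (H := H) φ with ⟨c, -, -, hd⟩ | ⟨μ, c, -, hd⟩
    · exact ⟨2 * c, by rw [hd]; ring⟩
    · exact ⟨c, hd⟩
  have hdeg : (charDegree (φ : G → ℂ) : ℤ) = (2 * (q : ℤ) + 1) * n + q * δ := by
    rw [← hδ, defect, show (p : ℤ) = 2 * (q : ℤ) + 1 by exact_mod_cast H.pq]; ring
  rcases H.selfCentral_Q.dichotomy φ with ⟨c, hc, hC⟩ | ⟨μ, c, hX⟩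
  · have e := H.selfCentral_Q.degree_const hC
    rw [hdeg] at e
    have hdvd : (q : ℤ) ∣ (n : ℤ) - -c := ⟨(fixDim H.Q φ : ℤ) + c - 2 * n - δ, by linear_combination e⟩
    have := eq_residue hdvd (by omega) (by omega) (by omega) (by omega) rfl
    rcases hc with rfl | rfl | rfl <;> simp at this <;> omega
  · have e := H.selfCentral_Q.degree_exc hX
    rw [hdeg, ← Hyp.e] at e
    have hdvd : (q : ℤ) ∣ (n : ℤ) - (H.e : ℤ) * c :=
      ⟨(fixDim H.Q φ : ℤ) - 2 * n - δ, by linear_combination e⟩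
    obtain ⟨Θ, hmem, hcard, h2, hall⟩ := H.selfCentral_Q.exists_family hX
    rw [← Hyp.e] at hcard
    have he2 : 2 * H.e ≤ q - 1 := by rw [← hcard]; exact Nat.mul_le_mul_right _ h2
    have he := H.two_le_e
    have hres := eq_residue hdvd (by omega) (by omega) (by rcases hX.2.1 with rfl | rfl <;> omega)
      (by rcases hX.2.1 with rfl | rfl <;> omega) rfl
    have hfam : ∀ θ ∈ Θ, X θ = X φ ∧ fixDim H.P θ = n ∧ defect H θ = defect H φ ∧
        (∀ x ∈ H.P, (θ : G → ℂ) x = (φ : G → ℂ) x) ∧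
        ∀ g, ¬ q ∣ orderOf g → (θ : G → ℂ) g = (φ : G → ℂ) g := by
      intro θ hθ
      obtain ⟨-, k, hk, -, hθe, -, hreg⟩ := hall θ hθ
      have hag : ∀ x ∈ H.P, (θ : G → ℂ) x = (φ : G → ℂ) x := fun x hx => hreg x (H.q_not_dvd_P hx)
      have hfx : fixDim H.P θ = n := H.amult_eq_of_agree hag (trivChar H.P)
      have hv := hag 1 (one_mem _)
      rw [CfsgLib.Blocks.apply_one_eq_charDegree, CfsgLib.Blocks.apply_one_eq_charDegree, Nat.cast_inj] at hv
      exact ⟨by rw [hθe, d.pow], hfx, by rw [defect, defect, hfx, hv], hag, hreg⟩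
    have hbound : Θ.card * (X φ * n) ≤ T := by
      refine le_trans (le_of_eq ?_) (d.sum_le Θ)
      rw [Finset.sum_congr rfl fun θ hθ => by rw [(hfam θ hθ).1, (hfam θ hθ).2.1], Finset.sum_const,
        smul_eq_mul]
    have hXn : n ≤ X φ * n := Nat.le_mul_of_pos_left _ (Nat.pos_of_ne_zero h)
    have h2n : 2 * (X φ * n) ≤ Θ.card * (X φ * n) := Nat.mul_le_mul_right _ h2
    have hne : n = H.e := by
      rcases hX.2.1 with rfl | rfl
      · rw [if_pos (by omega)] at hres; omega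
      · rw [if_neg (by omega)] at hres; omega
    have hX1 : X φ = 1 := by
      by_contra h1
      have : Θ.card * (2 * H.e) ≤ Θ.card * (X φ * n) :=
        Nat.mul_le_mul_left _ (by rw [hne]; exact Nat.mul_le_mul_right _ (by omega))
      rw [mul_left_comm, hcard] at this
      omega
    exact Or.inr (Or.inr ⟨μ, c, Θ, hX, hmem, hcard, h2, hne, hX1,
      fun θ hθ => ⟨(hfam θ hθ).1.trans hX1, (hfam θ hθ).2.1.trans hne, (hfam θ hθ).2.2⟩⟩)

/-- Outside a set which exhausts the total, nothing is left. -/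
theorem eq_zero_of_full {S : Finset (IrrCharacter G)} (hS : ∑ φ ∈ S, X φ * fixDim H.P φ = T)
    {φ : IrrCharacter G} (hφ : φ ∉ S) : X φ = 0 := by
  by_contra h0
  have h := d.sum_le (insert φ S)
  rw [Finset.sum_insert hφ, hS] at h
  have := Nat.mul_le_mul (Nat.pos_of_ne_zero h0) (d.fixDim_pos h0)
  omega

theorem plus_shape [Fintype H.Q] [Fintype (IrrCharacter H.Q)] (hT : T = q - 1) (hκ : κ = 0) :
    (∀ φ, X φ ≠ 0 → X φ = 1 ∧ IsConst H.P φ 0) ∧
      ((∃ φ, ∀ ψ, X ψ ≠ 0 ↔ ψ = φ) ∨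
        ∃ (φ : IrrCharacter G) (μ : IrrCharacter H.Q) (c : ℤ) (Θ : Finset (IrrCharacter G)),
          IsExc H.Q φ μ c ∧ φ ∈ Θ ∧ Θ.card * H.e = q - 1 ∧ 2 ≤ Θ.card ∧ (∀ ψ, X ψ ≠ 0 ↔ ψ ∈ Θ) ∧
          ∀ θ ∈ Θ, ∀ g, ¬ q ∣ orderOf g → (θ : G → ℂ) g = (φ : G → ℂ) g) := by
  have hq := H.q11
  have hzero : ∀ φ, defect H φ = 0 → IsConst H.P φ 0 := fun φ h0 => by
    rcases defect_cases (H := H) φ with ⟨c, hc, hC, hd⟩ | ⟨μ, c, hX, hd⟩
    · rcases hc with rfl | rfl | rfl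
      · exact hC
      all_goals omega
    · rcases hX.2.1 with rfl | rfl <;> omega
  obtain ⟨φ, h0, hn⟩ := d.exists_ne_one (by omega) (by omega)
  rcases d.cases_of_ne_one (by omega) h0 hn with e | e | ⟨μ, c, Θ, hX, hmem, hcard, h2, hne, hX1, hall⟩
  · have := (d.fixDim_le h0).2
    omega
  · have h1 : X φ = 1 := by
      have := (d.fixDim_le h0).1
      rw [e, hT] at this
      have := Nat.le_of_mul_le_mul_right (this.trans_eq (one_mul _).symm) (by omega)
      omega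
    have hfull : ∑ ψ ∈ {φ}, X ψ * fixDim H.P ψ = T := by
      rw [Finset.sum_singleton, h1, e, hT, one_mul]
    have hsupp : ∀ ψ, X ψ ≠ 0 ↔ ψ = φ := fun ψ =>
      ⟨fun hψ => by_contra fun hne => hψ (d.eq_zero_of_full hfull (by simpa using hne)),
        fun e => e ▸ h0⟩
    have hd0 : defect H φ = 0 := by
      have h := d.defect_sum
      rw [Finset.sum_eq_single φ (fun ψ _ hne => by
        rw [by_contra fun hψ => hne ((hsupp ψ).1 hψ), Nat.cast_zero, zero_mul]) (by simp), h1, hκ,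
        Nat.cast_one, one_mul, zero_mul] at h
      exact h
    exact ⟨fun ψ hψ => (hsupp ψ).1 hψ ▸ ⟨h1, hzero φ hd0⟩, Or.inl ⟨φ, hsupp⟩⟩
  · have hfull : ∑ θ ∈ Θ, X θ * fixDim H.P θ = T := by
      rw [Finset.sum_congr rfl fun θ hθ => by rw [(hall θ hθ).1, (hall θ hθ).2.1, one_mul],
        Finset.sum_const, smul_eq_mul, hcard, hT]
    have hsupp : ∀ ψ, X ψ ≠ 0 ↔ ψ ∈ Θ := fun ψ =>
      ⟨fun hψ => by_contra fun hne => hψ (d.eq_zero_of_full hfull hne),
        fun hψ => by rw [(hall ψ hψ).1]; exact one_ne_zero⟩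
    have hd0 : defect H φ = 0 := by
      have h := d.defect_sum
      rw [← Finset.sum_subset (Finset.subset_univ Θ) (fun ψ _ hne => by
        rw [by_contra fun hψ => hne ((hsupp ψ).1 hψ), Nat.cast_zero, zero_mul]),
        Finset.sum_congr rfl fun θ hθ => by rw [(hall θ hθ).1, (hall θ hθ).2.2.1, Nat.cast_one, one_mul],
        Finset.sum_const, hκ, zero_mul] at h
      exact (smul_eq_zero.1 h).resolve_left (by omega)
    refine ⟨fun ψ hψ => ?_, Or.inr ⟨φ, μ, c, Θ, hX, hmem, hcard, h2, hsupp,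
      fun θ hθ => (hall θ hθ).2.2.2.2⟩⟩
    have hψΘ := (hsupp ψ).1 hψ
    exact ⟨(hall ψ hψΘ).1, hzero ψ ((hall ψ hψΘ).2.2.1.trans hd0)⟩

theorem minus_shape [Fintype H.Q] [Fintype (IrrCharacter H.Q)] (hT : T = q) (hκ : κ = -2) :
    (∀ φ, X φ ≠ 0 → X φ = 1 ∧ ∃ c : ℤ, c ≠ 0 ∧ IsConst H.P φ c) ∧
      ((Finset.univ.filter fun φ => X φ ≠ 0).card = 1 ∨
        (Finset.univ.filter fun φ => X φ ≠ 0).card = 3) := by
  have hq := H.q11
  have htwo : ∀ φ, defect H φ = -(2 * q : ℤ) ∨ defect H φ = (2 * q : ℤ) →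
      ∃ c : ℤ, c ≠ 0 ∧ IsConst H.P φ c := fun φ h0 => by
    rcases defect_cases (H := H) φ with ⟨c, hc, hC, hd⟩ | ⟨μ, c, hX, hd⟩
    · exact ⟨c, by rintro rfl; omega, hC⟩
    · rcases hX.2.1 with rfl | rfl <;> omega
  have hlow : ∀ φ, -(2 * q : ℤ) ≤ defect H φ := fun φ => by
    rcases defect_cases (H := H) φ with ⟨c, hc, -, hd⟩ | ⟨μ, c, hX, hd⟩
    · rcases hc with rfl | rfl | rfl <;> omega
    · rcases hX.2.1 with rfl | rfl <;> omega
  obtain ⟨φ, h0, hn⟩ := d.exists_ne_one (by omega) (by omega)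
  rcases d.cases_of_ne_one (by omega) h0 hn with e | e | ⟨μ, c, Θ, hX, hmem, hcard, h2, hne, hX1, hall⟩
  · have h1 : X φ = 1 := by
      have := (d.fixDim_le h0).1
      rw [e, hT] at this
      have := Nat.le_of_mul_le_mul_right (this.trans_eq (one_mul _).symm) (by omega)
      omega
    have hfull : ∑ ψ ∈ {φ}, X ψ * fixDim H.P ψ = T := by
      rw [Finset.sum_singleton, h1, e, hT, one_mul]
    have hsupp : ∀ ψ, X ψ ≠ 0 ↔ ψ = φ := fun ψ =>
      ⟨fun hψ => by_contra fun hne => hψ (d.eq_zero_of_full hfull (by simpa using hne)),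
        fun e => e ▸ h0⟩
    have hd2 : defect H φ = -(2 * q : ℤ) := by
      have h := d.defect_sum
      rw [Finset.sum_eq_single φ (fun ψ _ hne => by
        rw [by_contra fun hψ => hne ((hsupp ψ).1 hψ), Nat.cast_zero, zero_mul]) (by simp), h1, hκ,
        Nat.cast_one, one_mul] at h
      rw [h]; ring
    refine ⟨fun ψ hψ => (hsupp ψ).1 hψ ▸ ⟨h1, htwo φ (Or.inl hd2)⟩, Or.inl ?_⟩
    rw [show (Finset.univ.filter fun ψ => X ψ ≠ 0) = {φ} from Finset.ext fun ψ => by simp [hsupp ψ],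
      Finset.card_singleton]
  · exfalso
    have h1 : X φ = 1 := by
      by_contra hne
      have := (d.fixDim_le h0).1
      have h3 : 2 * (q - 1) ≤ X φ * fixDim H.P φ := by
        rw [e]; exact Nat.mul_le_mul_right _ (by omega)
      omega
    have h := d.fix
    rw [← Finset.add_sum_erase _ _ (Finset.mem_univ φ), h1, e, one_mul] at h
    obtain ⟨γ, hγ, hγ1, hγ0⟩ := exists_unique_of_sum_eq_one (f := fun ψ => X ψ * fixDim H.P ψ)
      (show ∑ ψ ∈ Finset.univ.erase φ, X ψ * fixDim H.P ψ = 1 by omega)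
    obtain ⟨hγX, hγn⟩ := mul_eq_one.1 hγ1
    have hd := d.defect_sum
    rw [← Finset.add_sum_erase _ _ (Finset.mem_univ φ), h1,
      Finset.sum_eq_single γ (fun ψ hψ hne => by
        rcases Nat.mul_eq_zero.1 (hγ0 ψ hψ hne) with e0 | e0
        · rw [e0, Nat.cast_zero, zero_mul]
        · by_contra hne0
          have : X ψ ≠ 0 := fun e0 => hne0 (by rw [e0, Nat.cast_zero, zero_mul])
          have := d.fixDim_pos this
          omega) (fun hn => absurd hγ hn), hγX, hκ, Nat.cast_one, one_mul, one_mul] at hd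
    have := hlow φ
    rcases d.defect_pos_of_one (by omega) hγn with e1 | e1 <;> omega
  · have hsum : ∑ θ ∈ Θ, X θ * fixDim H.P θ = q - 1 := by
      rw [Finset.sum_congr rfl fun θ hθ => by rw [(hall θ hθ).1, (hall θ hθ).2.1, one_mul],
        Finset.sum_const, smul_eq_mul, hcard]
    have h := d.fix
    rw [← Finset.sum_add_sum_compl Θ, hsum, hT] at h
    obtain ⟨γ, hγ, hγ1, -⟩ := exists_unique_of_sum_eq_one (f := fun ψ => X ψ * fixDim H.P ψ)
      (show ∑ ψ ∈ Θᶜ, X ψ * fixDim H.P ψ = 1 by omega)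
    obtain ⟨hγX, hγn⟩ := mul_eq_one.1 hγ1
    have hfull : ∑ ψ ∈ insert γ Θ, X ψ * fixDim H.P ψ = T := by
      rw [Finset.sum_insert (Finset.mem_compl.1 hγ), hsum, hγ1, hT]; omega
    have hsupp : ∀ ψ, X ψ ≠ 0 ↔ ψ ∈ insert γ Θ := fun ψ => by
      refine ⟨fun hψ => by_contra fun hne => hψ (d.eq_zero_of_full hfull hne), fun hψ => ?_⟩
      rcases Finset.mem_insert.1 hψ with rfl | hψ
      · omega
      · rw [(hall ψ hψ).1]; exact one_ne_zero
    have hd := d.defect_sum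
    rw [← Finset.sum_subset (Finset.subset_univ (insert γ Θ)) (fun ψ _ hne => by
        rw [by_contra fun hψ => hne ((hsupp ψ).1 hψ), Nat.cast_zero, zero_mul]),
      Finset.sum_insert (Finset.mem_compl.1 hγ), hγX,
      Finset.sum_congr rfl fun θ hθ => by rw [(hall θ hθ).1, (hall θ hθ).2.2.1, Nat.cast_one, one_mul],
      Finset.sum_const, hκ, Nat.cast_one, one_mul, nsmul_eq_mul] at hd
    have hγd := d.defect_pos_of_one (by omega) hγn
    have hne3 : Θ.card ≠ 3 := fun e3 => by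
      rw [e3] at hcard
      have := H.q_mod_three
      omega
    have hnotq : defect H φ ≠ -(q : ℤ) := by
      intro eq1
      rcases defect_cases (H := H) φ with ⟨c', hc, -, hd'⟩ | ⟨ν, c', hX', hd'⟩
      · rcases hc with rfl | rfl | rfl <;> omega
      obtain ⟨Φ, -, -, hΦ2, hΦ⟩ := H.selfCentral_P.exists_family hX'
      obtain ⟨θ', hθ', hne'⟩ := Finset.exists_mem_ne hΦ2 φ
      obtain ⟨hdiff, k, hk, -, hθe, hθn, -⟩ := hΦ θ' hθ'
      obtain ⟨x, hx, hxne⟩ := hdiff hne'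
      have hnot : θ' ∉ Θ := fun hin => hxne ((hall θ' hin).2.2.2.1 x hx)
      have hle := d.sum_le (insert θ' Θ)
      rw [Finset.sum_insert hnot, hsum, hθn, hθe, d.pow, hX1, hne, one_mul] at hle
      have := H.two_le_e
      omega
    have hf2 : Θ.card = 2 ∧ defect H φ = -(2 * q : ℤ) ∧ defect H γ = (2 * q : ℤ) := by
      have hneg : defect H φ = -(2 * q : ℤ) := by
        have hneg0 : defect H φ < 0 := by
          by_contra hge
          have : (0 : ℤ) ≤ (Θ.card : ℤ) * defect H φ := mul_nonneg (Int.natCast_nonneg _) (by omega)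
          omega
        rcases defect_cases (H := H) φ with ⟨c', hc, -, hd'⟩ | ⟨ν, c', hX', hd'⟩
        · rcases hc with rfl | rfl | rfl <;> omega
        · rcases hX'.2.1 with rfl | rfl <;> omega
      rw [hneg] at hd
      have hle2 : Θ.card ≤ 2 := by
        by_contra h3
        have : (3 : ℤ) * (2 * q) ≤ (Θ.card : ℤ) * (2 * q) :=
          mul_le_mul_of_nonneg_right (by omega) (by omega)
        rcases hγd with e1 | e1 <;> rw [e1] at hd <;> linarith [mul_neg (Θ.card : ℤ) (2 * q)]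
      have he2 : Θ.card = 2 := by omega
      rw [he2] at hd
      refine ⟨he2, hneg, ?_⟩
      push_cast at hd
      linarith
    refine ⟨fun ψ hψ => ?_, Or.inr ?_⟩
    · rcases Finset.mem_insert.1 ((hsupp ψ).1 hψ) with rfl | hψΘ
      · exact ⟨hγX, htwo _ (Or.inr hf2.2.2)⟩
      · exact ⟨(hall ψ hψΘ).1, htwo ψ (Or.inl ((hall ψ hψΘ).2.2.1.trans hf2.2.1))⟩
    · rw [show (Finset.univ.filter fun ψ => X ψ ≠ 0) = insert γ Θ from Finset.ext fun ψ => by
          simp only [Finset.mem_filter, Finset.mem_univ, true_and]; exact hsupp ψ,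
        Finset.card_insert_of_notMem (Finset.mem_compl.1 hγ), hf2.1]

end Piece

end CfsgLib.Perm.ItoTwoQ
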