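import Cfsg.Agent.Lib.Perm.ItoTwoQ.ThreeParts
import Cfsg.Agent.Lib.Char.Perm

/-!
# The three global relations between the symmetric and the alternating part

* `part_le`: the alternating part is not larger than the symmetric one.
* `indicator_sum`: the sum of the Frobenius-Schur indicators.
* `seven_false`: at least eight is the sum of the squared multiplicities.
-/

set_option autoImplicit false
set_option linter.all false

open scoped ComplexConjugate

namespace CfsgLib.Perm.ItoTwoQ

open Equiv MulAction Subgroup Cfsg CfsgLib.Char CfsgLib.Perm.CentralizerRing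
open scoped _root_.Classical

variable {p q : ℕ} [Fact p.Prime] {G : Subgroup (Equiv.Perm (ZMod p))} [Fintype G]
  [Fintype (IrrCharacter G)] {U A : IrrCharacter G → ℕ}

theorem classInner_sum_sum (a b : IrrCharacter G → ℕ) :
    classInner (∑ φ : IrrCharacter G, (a φ : ℂ) • (φ : G → ℂ)) (∑ φ : IrrCharacter G, (b φ : ℂ) • (φ : G → ℂ)) =
      ((∑ φ, a φ * b φ : ℕ) : ℂ) := by
  rw [classInner_sum_left, Nat.cast_sum]
  refine Finset.sum_congr rfl fun φ _ => ?_
  rw [classInner_smul_left, ← classInner_conj_symm, classInner_sum_irr, Complex.conj_natCast, Nat.cast_mul]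

namespace Parts

variable {H : Hyp p q G} (d : Parts H U A)
include d

theorem trFun_plus : trFun (Cfsg.permRep ℂ G (OPair p)) (plusOp p) =
    ∑ φ : IrrCharacter G, (U φ : ℂ) • (φ : G → ℂ) := by
  funext g
  rw [trFun_eq_sum isEnd_plusOp, Finset.sum_apply]
  exact Finset.sum_congr rfl fun φ _ => by rw [d.plus, Pi.smul_apply, smul_eq_mul]

theorem trFun_minus : trFun (Cfsg.permRep ℂ G (OPair p)) (minusOp p) =
    ∑ φ : IrrCharacter G, (A φ : ℂ) • (φ : G → ℂ) := by
  funext g
  rw [trFun_eq_sum isEnd_minusOp, Finset.sum_apply]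
  exact Finset.sum_congr rfl fun φ _ => by rw [d.minus, Pi.smul_apply, smul_eq_mul]

theorem trFun_one_eq : trFun (Cfsg.permRep ℂ G (OPair p)) (1 : Module.End ℂ (OPair p → ℂ)) =
    trFun (Cfsg.permRep ℂ G (OPair p)) (plusOp p) + trFun (Cfsg.permRep ℂ G (OPair p)) (minusOp p) := by
  rw [← trFun_add]
  congr 1
  rw [plusOp, minusOp]
  module

theorem trFun_swap_eq : trFun (Cfsg.permRep ℂ G (OPair p)) (swapOp p) =
    trFun (Cfsg.permRep ℂ G (OPair p)) (plusOp p) - trFun (Cfsg.permRep ℂ G (OPair p)) (minusOp p) := by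
  rw [← trFun_sub]
  congr 1
  rw [plusOp, minusOp]
  module

theorem one_eq_sum : trFun (Cfsg.permRep ℂ G (OPair p)) (1 : Module.End ℂ (OPair p → ℂ)) =
    ∑ φ : IrrCharacter G, ((U φ + A φ : ℕ) : ℂ) • (φ : G → ℂ) := by
  rw [d.trFun_one_eq, d.trFun_plus, d.trFun_minus, ← Finset.sum_add_distrib]
  exact Finset.sum_congr rfl fun φ _ => by rw [Nat.cast_add, add_smul]

omit d in
theorem permChar_pairs (g : G) :
    trFun (Cfsg.permRep ℂ G (OPair p)) (1 : Module.End ℂ (OPair p → ℂ)) g = permChar G (OPair p) g := by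
  rw [trFun_one, CfsgLib.Perm.CentralizerRing.permRep_character]
  rfl

theorem part_le : ∑ φ : IrrCharacter G, A φ * A φ ≤ ∑ φ : IrrCharacter G, U φ * U φ := by
  have hp : classInner (trFun (Cfsg.permRep ℂ G (OPair p)) (swapOp p))
      (trFun (Cfsg.permRep ℂ G (OPair p)) (1 : Module.End ℂ (OPair p → ℂ))) =
      ((Nat.card G : ℂ))⁻¹ * ((∑ g : G, (Finset.univ.filter fun v : OPair p => g • v = swapPair v).card *
        Nat.card (fixedBy (OPair p) g) : ℕ) : ℂ) := by
    rw [classInner, Nat.cast_sum]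
    congr 1
    refine Finset.sum_congr rfl fun g _ => ?_
    rw [H.trFun_swap_eq_card, permChar_pairs, permChar, Complex.conj_natCast, Nat.cast_mul]
  have he : classInner (trFun (Cfsg.permRep ℂ G (OPair p)) (swapOp p))
      (trFun (Cfsg.permRep ℂ G (OPair p)) (1 : Module.End ℂ (OPair p → ℂ))) =
      ((∑ φ, U φ * U φ : ℕ) : ℂ) - ((∑ φ, A φ * A φ : ℕ) : ℂ) := by
    rw [d.trFun_swap_eq, d.trFun_one_eq, classInner_sub_left, classInner_add_right, classInner_add_right,
      d.trFun_plus, d.trFun_minus]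
    rw [classInner_sum_sum, classInner_sum_sum, classInner_sum_sum, classInner_sum_sum,
      show ∑ φ, A φ * U φ = ∑ φ, U φ * A φ from Finset.sum_congr rfl fun φ _ => Nat.mul_comm _ _]
    ring
  rw [he] at hp
  have h2 := congrArg Complex.re hp
  rw [← Complex.ofReal_natCast (Nat.card G), ← Complex.ofReal_inv, Complex.re_ofReal_mul,
    Complex.sub_re, Complex.natCast_re, Complex.natCast_re, Complex.natCast_re] at h2
  have h3 : (0 : ℝ) ≤ ((Nat.card G : ℝ))⁻¹ * ((∑ g : G,
      (Finset.univ.filter fun v : OPair p => g • v = swapPair v).card * Nat.card (fixedBy (OPair p) g) : ℕ) : ℝ) := by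
    exact mul_nonneg (inv_nonneg.2 (Nat.cast_nonneg _)) (Nat.cast_nonneg _)
  exact_mod_cast sub_nonneg.1 (h2.symm ▸ h3)

theorem indicator_sum :
    ∑ φ : IrrCharacter G, ((U φ + A φ : ℕ) : ℂ) * fsInd (φ : G → ℂ) =
      2 + ((∑ φ, U φ * U φ : ℕ) : ℂ) + ((∑ φ, A φ * A φ : ℕ) : ℂ) - 2 * ((∑ φ, U φ * A φ : ℕ) : ℂ) := by
  set F : G → ℂ := fun g => (Nat.card (fixedBy (ZMod p) g) : ℂ) with hF
  set tw := trFun (Cfsg.permRep ℂ G (OPair p)) (swapOp p) with htw
  set T : G → ℂ := ((trivChar G : IrrCharacter G) : G → ℂ) with hT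
  have htr : ∀ g, conj (tw g) = tw g := fun g => by
    rw [htw, H.trFun_swap_eq_card, Complex.conj_natCast]
  have hone : (Nat.card G : ℂ)⁻¹ * ∑ g : G, F g * (F g - 1) = 1 := by
    have e : classInner (trFun (Cfsg.permRep ℂ G (OPair p)) (1 : Module.End ℂ (OPair p → ℂ))) T = 1 := by
      rw [d.one_eq_sum, hT, classInner_sum_irr (fun φ => ((U φ + A φ : ℕ) : ℂ)), d.plus_triv, d.minus_triv]
      norm_num
    simpa only [classInner, hT, trivChar_apply, map_one, mul_one, H.trFun_one_apply] using e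
  have htw1 : (Nat.card G : ℂ)⁻¹ * ∑ g : G, tw g = 1 := by
    simpa only [coef, classInner, trivChar_apply, map_one, mul_one] using H.coef_swap_triv
  have htwF : (Nat.card G : ℂ)⁻¹ * ∑ g : G, tw g * (F g - 1) = 0 := by
    simpa only [coef, classInner, H.perm₁_apply, map_sub, map_one, Complex.conj_natCast] using H.coef_swap_perm
  have htwtw : (Nat.card G : ℂ)⁻¹ * ∑ g : G, tw g * tw g =
      ((∑ φ, U φ * U φ : ℕ) : ℂ) + ((∑ φ, A φ * A φ : ℕ) : ℂ) - 2 * ((∑ φ, U φ * A φ : ℕ) : ℂ) := by
    have e : classInner tw tw = (Nat.card G : ℂ)⁻¹ * ∑ g : G, tw g * tw g := by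
      rw [classInner]
      congr 1
      exact Finset.sum_congr rfl fun g _ => by rw [htr]
    rw [← e, htw, d.trFun_swap_eq, classInner_sub_left, classInner_sub_right, classInner_sub_right,
      d.trFun_plus, d.trFun_minus]
    rw [classInner_sum_sum, classInner_sum_sum, classInner_sum_sum, classInner_sum_sum,
      show ∑ φ, A φ * U φ = ∑ φ, U φ * A φ from Finset.sum_congr rfl fun φ _ => Nat.mul_comm _ _]
    ring
  have hlhs : ∑ φ : IrrCharacter G, ((U φ + A φ : ℕ) : ℂ) * fsInd (φ : G → ℂ) =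
      (Nat.card G : ℂ)⁻¹ * ∑ g : G, trFun (Cfsg.permRep ℂ G (OPair p)) (1 : Module.End ℂ (OPair p → ℂ)) (g * g) := by
    rw [d.one_eq_sum]
    simp only [fsInd, Finset.sum_apply, Pi.smul_apply, smul_eq_mul]
    conv_rhs => rw [Finset.sum_comm, Finset.mul_sum]
    refine Finset.sum_congr rfl fun φ _ => ?_
    rw [← Finset.mul_sum]
    ring
  have hpt : ∀ g : G, trFun (Cfsg.permRep ℂ G (OPair p)) (1 : Module.End ℂ (OPair p → ℂ)) (g * g) =
      F g * (F g - 1) + 2 * (tw g * (F g - 1)) + tw g * tw g + tw g := fun g => by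
    have e : (Nat.card (fixedBy (ZMod p) (g * g)) : ℂ) = F g + tw g := by
      rw [htw, H.trFun_swap_apply, hF]; ring
    rw [H.trFun_one_apply, e]
    ring
  rw [hlhs, Finset.sum_congr rfl fun g _ => hpt g, Finset.sum_add_distrib, Finset.sum_add_distrib,
    Finset.sum_add_distrib, ← Finset.mul_sum, mul_add, mul_add, mul_add, hone, htw1, htwtw,
    mul_left_comm, htwF]
  ring

end Parts

/-- The seven pairs of indices with pairwise different coincidence patterns against `(0,1)`. -/
def sevenIdx : Fin 7 → Fin 4 × Fin 4 := ![(0,1), (1,0), (0,2), (1,2), (2,0), (2,1), (2,3)]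

theorem Parts.seven_false {H : Hyp p q G} (d : Parts H U A) :
    7 < ∑ φ : IrrCharacter G, (U φ + A φ) * (U φ + A φ) := by
  by_contra hle
  have horb : Nat.card (MulAction.orbitRel.Quotient G (OPair p × OPair p)) ≤ 7 := by
    have e := classInner_permChar_self (G := G) (X := OPair p)
    rw [← show trFun (Cfsg.permRep ℂ G (OPair p)) (1 : Module.End ℂ (OPair p → ℂ)) = permChar G (OPair p) from
      funext Parts.permChar_pairs, d.one_eq_sum, classInner_sum_sum, Nat.cast_inj] at e
    omega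
  apply H.not_four
  haveI : Nonempty (Fin 4 ↪ ZMod p) := by
    refine Function.Embedding.nonempty_of_card_le ?_
    rw [Fintype.card_fin, ZMod.card]
    have := H.p23
    omega
  obtain ⟨e₀⟩ := ‹Nonempty (Fin 4 ↪ ZMod p)›
  let pr : (Fin 4 ↪ ZMod p) → ∀ i j : Fin 4, i ≠ j → OPair p := fun e i j h =>
    ⟨(e i, e j), fun c => h (e.injective c)⟩
  let pat : OPair p × OPair p → Bool × Bool × Bool × Bool := fun v =>
    (decide (v.1.1.1 = v.2.1.1), decide (v.1.1.1 = v.2.1.2),
      decide (v.1.1.2 = v.2.1.1), decide (v.1.1.2 = v.2.1.2))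
  have hinv : ∀ (g : G) v, pat (g • v) = pat v := fun g v => by
    simp only [pat, Prod.smul_fst, Prod.smul_snd, smul_fst, smul_snd, smul_left_cancel_iff]
  let pat' : MulAction.orbitRel.Quotient G (OPair p × OPair p) → Bool × Bool × Bool × Bool :=
    Quotient.lift pat fun a b h => by
      obtain ⟨g, rfl⟩ := h
      exact hinv g b
  have hne : ∀ i : Fin 7, (sevenIdx i).1 ≠ (sevenIdx i).2 := by decide
  let j : Fin 7 → MulAction.orbitRel.Quotient G (OPair p × OPair p) := fun i =>
    Quotient.mk _ (pr e₀ 0 1 zero_ne_one, pr e₀ _ _ (hne i))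
  have hpj : ∀ i, pat' (j i) = (decide ((0 : Fin 4) = (sevenIdx i).1), decide ((0 : Fin 4) = (sevenIdx i).2),
      decide ((1 : Fin 4) = (sevenIdx i).1), decide ((1 : Fin 4) = (sevenIdx i).2)) := fun i => by
    show pat _ = _
    simp only [pat, pr, EmbeddingLike.apply_eq_iff_eq]
  have hji : Function.Injective j := by
    intro a b h
    have e := congrArg pat' h
    rw [hpj, hpj] at e
    clear h
    revert e
    revert a b
    decide
  have hjs : Function.Surjective j := by
    refine ((Nat.bijective_iff_injective_and_card j).2 ⟨hji, ?_⟩).2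
    rw [Nat.card_fin]
    have := Nat.card_le_card_of_injective j hji
    rw [Nat.card_fin] at this
    omega
  have hpi : Function.Injective pat' := fun a b h => by
    obtain ⟨x, rfl⟩ := hjs a
    obtain ⟨y, rfl⟩ := hjs b
    rw [hpj, hpj] at h
    congr 1
    revert h
    revert x y
    decide
  refine isMultiplyPretransitive_iff.2 fun e e' => ?_
  have hq : (Quotient.mk _ (pr e 0 1 (by decide), pr e 2 3 (by decide)) :
      MulAction.orbitRel.Quotient G (OPair p × OPair p)) =
      Quotient.mk _ (pr e' 0 1 (by decide), pr e' 2 3 (by decide)) := by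
    refine hpi ?_
    show pat _ = pat _
    simp only [pat, pr, EmbeddingLike.apply_eq_iff_eq]
  obtain ⟨g, hg⟩ := Quotient.exact hq.symm
  refine ⟨g, Function.Embedding.ext fun i => ?_⟩
  rw [Function.Embedding.smul_apply]
  have h0 := congrArg (fun v : OPair p × OPair p => v.1.1.1) hg
  have h1 := congrArg (fun v : OPair p × OPair p => v.1.1.2) hg
  have h2 := congrArg (fun v : OPair p × OPair p => v.2.1.1) hg
  have h3 := congrArg (fun v : OPair p × OPair p => v.2.1.2) hg
  fin_cases i
  exacts [h0, h1, h2, h3]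

end CfsgLib.Perm.ItoTwoQ
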