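import Cfsg.Agent.Lib.Perm.ItoTwoQ.Ops
import Cfsg.Agent.Lib.Perm.WielandtTwoP.Trace
import Cfsg.Agent.Lib.Char.Rationality
import Cfsg.Agent.Lib.RankThreeInv.Trace

/-!
# Operators given by matrices on a permutation module, and class functions summed over fixed points
-/

set_option autoImplicit false
set_option linter.all false

open scoped ComplexConjugate

namespace CfsgLib.Perm.ItoTwoQ

open MulAction Module CfsgLib.Char CfsgLib.Perm.CentralizerRing
open scoped _root_.Classical

variable {G : Type*} [Group G] {X : Type*} [Fintype X]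

/-- The operator of a matrix. -/
noncomputable def opM (M : X → X → ℂ) : Module.End ℂ (X → ℂ) where
  toFun f x := ∑ y, M x y * f y
  map_add' f f' := funext fun x => by
    simp only [Pi.add_apply, mul_add, Finset.sum_add_distrib]
  map_smul' c f := funext fun x => by
    simp only [Pi.smul_apply, smul_eq_mul, RingHom.id_apply, Finset.mul_sum]
    exact Finset.sum_congr rfl fun y _ => by ring

theorem opM_apply (M : X → X → ℂ) (f : X → ℂ) (x : X) : opM M f x = ∑ y, M x y * f y := rfl

/-- The product of two matrices. -/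
noncomputable def mulM (M N : X → X → ℂ) (x z : X) : ℂ := ∑ y, M x y * N y z

theorem opM_mul (M N : X → X → ℂ) : opM M * opM N = opM (mulM M N) := by
  refine LinearMap.ext fun f => funext fun x => ?_
  show opM M (opM N f) x = _
  simp only [opM_apply, mulM, Finset.mul_sum, Finset.sum_mul]
  rw [Finset.sum_comm]
  exact Finset.sum_congr rfl fun z _ => Finset.sum_congr rfl fun y _ => by ring

theorem opM_single (M : X → X → ℂ) (x y : X) : opM M (Pi.single y 1) x = M x y := by
  rw [opM_apply, Finset.sum_eq_single y (fun z _ hz => by rw [Pi.single_eq_of_ne hz, mul_zero])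
    (fun h => absurd (Finset.mem_univ _) h), Pi.single_eq_same, mul_one]

theorem trace_fun' (D : Module.End ℂ (X → ℂ)) :
    LinearMap.trace ℂ _ D = ∑ x, D (Pi.single x 1) x := by
  rw [LinearMap.trace_eq_matrix_trace ℂ (Pi.basisFun ℂ X), Matrix.trace]
  refine Finset.sum_congr rfl fun x _ => ?_
  simp [LinearMap.toMatrix_apply]

variable [MulAction G X]

theorem permRep_single (g : G) (x : X) :
    Cfsg.permRep ℂ G X g (Pi.single x 1) = Pi.single (g • x) 1 := by
  funext z
  show (Pi.single x (1 : ℂ) : X → ℂ) (g⁻¹ • z) = _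
  rw [Pi.single_apply, Pi.single_apply]
  exact if_congr inv_smul_eq_iff rfl rfl

theorem trace_opM_mul (M : X → X → ℂ) (g : G) :
    LinearMap.trace ℂ _ (opM M * Cfsg.permRep ℂ G X g) = ∑ x, M x (g • x) := by
  rw [trace_fun']
  refine Finset.sum_congr rfl fun x _ => ?_
  rw [Module.End.mul_apply, permRep_single, opM_single]

theorem isEnd_opM {M : X → X → ℂ} (h : ∀ (g : G) x y, M (g • x) (g • y) = M x y) :
    IsEnd (Cfsg.permRep ℂ G X) (opM M) := by
  intro g
  refine LinearMap.ext fun f => funext fun x => ?_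
  show ∑ y, M x y * f (g⁻¹ • y) = ∑ y, M (g⁻¹ • x) y * f y
  refine Fintype.sum_equiv (MulAction.toPerm g⁻¹) _ _ fun y => ?_
  rw [MulAction.toPerm_apply, h]

variable [Fintype G]

theorem trFun_opM (M : X → X → ℂ) (g : G) :
    trFun (Cfsg.permRep ℂ G X) (opM M) g = ∑ x, M x (g • x) := trace_opM_mul M g

/-- A class function summed over fixed points, against a class function. -/
theorem classInner_fixSum [IsPretransitive G X] (a : X) [Fintype (stabilizer G a)]
    {f : X → G → ℂ} (hf : ∀ (c g : G) (x : X), f (c • x) (c * g * c⁻¹) = f x g)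
    {φ : G → ℂ} (hφ : Cfsg.IsClassFunction G φ) :
    Cfsg.classInner (fun g => ∑ x, if g • x = x then f x g else 0) φ =
      Cfsg.classInner (fun h : stabilizer G a => f a h) (fun h => φ h) := by
  have hx : ∀ x, ∑ g : G, (if g • x = x then f x g else 0) * conj (φ g) =
      ∑ h : stabilizer G a, f a h * conj (φ h) := by
    intro x
    obtain ⟨c, rfl⟩ := exists_smul_eq G a x
    rw [← Equiv.sum_comp (MulAut.conj c).toEquiv, ← Finset.sum_filter_add_sum_filter_not _
      (fun g : G => g • a = a)]
    rw [Finset.sum_eq_zero (s := Finset.univ.filter fun g : G => ¬ g • a = a) fun g hg => ?_, add_zero]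
    swap
    · rw [if_neg, zero_mul]
      show ¬ (c * g * c⁻¹) • c • a = c • a
      rw [mul_smul, mul_smul, inv_smul_smul]
      exact fun e => (Finset.mem_filter.1 hg).2 (MulAction.injective c e)
    refine Finset.sum_bij' (fun g hg => (⟨g, mem_stabilizer_iff.2 (Finset.mem_filter.1 hg).2⟩ : stabilizer G a))
      (fun h _ => (h : G)) (fun _ _ => Finset.mem_univ _)
      (fun h _ => Finset.mem_filter.2 ⟨Finset.mem_univ _, h.2⟩) (fun _ _ => rfl) (fun _ _ => rfl)
      fun g hg => ?_
    show (if (c * g * c⁻¹) • c • a = c • a then f (c • a) (c * g * c⁻¹) else 0) *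
      conj (φ (c * g * c⁻¹)) = _
    rw [if_pos, hf, hφ g c]
    rw [mul_smul, mul_smul, inv_smul_smul, (Finset.mem_filter.1 hg).2]
  have hG : (Nat.card G : ℂ) = (Fintype.card X : ℂ) * (Nat.card (stabilizer G a) : ℂ) := by
    rw [← (stabilizer G a).index_mul_card, index_stabilizer_of_transitive, Nat.card_eq_fintype_card,
      Nat.cast_mul]
  haveI : Nonempty X := ⟨a⟩
  have hX : (Fintype.card X : ℂ) ≠ 0 := Nat.cast_ne_zero.2 Fintype.card_ne_zero
  simp only [Cfsg.classInner, Finset.sum_mul]
  rw [Finset.sum_comm, Finset.sum_congr rfl fun x _ => hx x, Finset.sum_const, Finset.card_univ,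
    nsmul_eq_mul, hG]
  field_simp

/-- A character with rational values takes the same value on powers prime to the group order. -/
theorem apply_pow_of_rat {φ : G → ℂ} (hφ : Cfsg.IsCharacter G φ)
    (hr : ∀ g, ∃ r : ℚ, φ g = (r : ℂ)) {k : ℕ} (hk : k.Coprime (Nat.card G)) (g : G) :
    φ (g ^ k) = φ g := by
  obtain ⟨n, ρ, rfl⟩ := hφ
  obtain ⟨r, hr⟩ := hr g
  rw [CfsgLib.CharRational.apply_pow_eq_of_eq_rat ρ g hr hk, hr]

section General

universe v

variable {W : Type v} [AddCommGroup W] [Module ℂ W] [FiniteDimensional ℂ W]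
  (ρ : Representation ℂ G W)

theorem trace_charSum_mul (χ : Cfsg.IrrCharacter G) (g : G) :
    (χ : G → ℂ) 1 * LinearMap.trace ℂ W (charSum ρ (χ : G → ℂ) * ρ g) =
      (Nat.card G : ℂ) * (Cfsg.classInner ρ.character (χ : G → ℂ) * (χ : G → ℂ) g) := by
  haveI := Fintype.ofFinite (Cfsg.IrrCharacter G)
  obtain ⟨m, hm⟩ := IsChar.exists_sum (G := G) (χ := ρ.character) (isCharacter_rep ρ)
  have h1 : LinearMap.trace ℂ W (charSum ρ (χ : G → ℂ) * ρ g) =
      ∑ ψ : Cfsg.IrrCharacter G, (m ψ : ℂ) * ∑ h, conj ((χ : G → ℂ) h) * (ψ : G → ℂ) (h * g) := by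
    simp only [charSum, Finset.sum_mul, map_sum, smul_mul_assoc, map_smul, smul_eq_mul]
    conv_rhs => simp only [Finset.mul_sum]
    rw [Finset.sum_comm]
    refine Finset.sum_congr rfl fun h _ => ?_
    have h2 : LinearMap.trace ℂ W (ρ h * ρ g) = ρ.character (h * g) := by
      show _ = LinearMap.trace ℂ W (ρ (h * g))
      rw [map_mul ρ]
    rw [h2, hm, Finset.sum_apply, Finset.mul_sum]
    refine Finset.sum_congr rfl fun ψ _ => ?_
    rw [Pi.smul_apply, smul_eq_mul]
    ring
  rw [h1, Finset.mul_sum, hm, classInner_sum_irr, Finset.sum_eq_single χ]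
  · rw [mul_left_comm, CfsgLib.Perm.WielandtTwoP.sum_conj_mul_shift, if_pos rfl]
    ring
  · intro ψ _ hψ
    rw [mul_left_comm, CfsgLib.Perm.WielandtTwoP.sum_conj_mul_shift, if_neg hψ, mul_zero]
  · exact fun h => absurd (Finset.mem_univ _) h

end General

end CfsgLib.Perm.ItoTwoQ
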