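import Cfsg.Agent.Lib.Perm.ItoTwoQ.Graph

/-!
# The scalings by squares acting on a link

* `trace_scale`: at an element of order `q` the small character is `-1`, and the links pair up.
* `no_eigen`: no nonzero function is in the bottom eigenspace together with its reflection.
-/

set_option autoImplicit false
set_option linter.all false

open scoped ComplexConjugate

namespace CfsgLib.Perm.ItoTwoQ

open Equiv MulAction Subgroup
open scoped _root_.Classical

variable {p q a : ℕ} [Fact p.Prime] {G : Subgroup (Equiv.Perm (ZMod p))}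
  {T : ZMod p → ZMod p → ZMod p → Prop} (H : Hyp p q G)

theorem ite_sum0 {ι : Type*} (P : Prop) [Decidable P] (s : Finset ι) (f : ι → ℂ) :
    (if P then ∑ i ∈ s, f i else 0) = ∑ i ∈ s, if P then f i else 0 := by
  split_ifs <;> simp

theorem sum_reflect {q : ℕ} (hq : 0 < q) (f : ℕ → ℂ) :
    ∑ i ∈ Finset.range q, f ((q - i) % q) = ∑ i ∈ Finset.range q, f i := by
  refine Finset.sum_nbij' (fun i => (q - i) % q) (fun i => (q - i) % q)
    (fun i _ => Finset.mem_coe.2 (Finset.mem_range.2 (Nat.mod_lt _ hq)))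
    (fun i _ => Finset.mem_coe.2 (Finset.mem_range.2 (Nat.mod_lt _ hq))) ?_ ?_ (fun i _ => rfl) <;>
  · intro i hi
    have hi' := Finset.mem_range.1 (Finset.mem_coe.1 hi)
    show (q - (q - i) % q) % q = i
    rcases Nat.eq_zero_or_pos i with rfl | hpos
    · simp
    · rw [Nat.mod_eq_of_lt (show q - i < q by omega), show q - (q - i) = i by omega, Nat.mod_eq_of_lt hi']

namespace Hyp

include H

theorem four_pow_q : (4 : ZMod p) ^ q = 1 := by
  rw [show q = p / 2 by have := H.pq; omega]
  exact (ZMod.euler_criterion p H.four_ne_zero).1 H.four_square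

theorem four_pow_mod (n : ℕ) : (4 : ZMod p) ^ (n % q) = 4 ^ n := by
  conv_rhs => rw [← Nat.mod_add_div n q, pow_add, pow_mul, H.four_pow_q, one_pow, mul_one]

theorem neg_one_not_square : ¬ IsSquare (-1 : ZMod p) := fun h => by
  have := (ZMod.exists_sq_eq_neg_one_iff (p := p)).1 h
  exact this H.p_mod

/-- The nonzero elements as signed powers of four. -/
theorem sum_nonzero (f : ZMod p → ℂ) :
    ∑ x ∈ Finset.univ.erase (0 : ZMod p), f x =
      ∑ j ∈ Finset.range q, (f (4 ^ j) + f (-(4 ^ j))) := by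
  have hinj : ∀ i < q, ∀ j < q, (4 : ZMod p) ^ i = 4 ^ j → i = j := by
    intro i hi j hj e
    rcases le_total i j with hle | hle
    · obtain ⟨k, rfl⟩ := Nat.exists_eq_add_of_le hle
      rw [pow_add] at e
      have h1 : (4 : ZMod p) ^ k = 1 :=
        (mul_right_eq_self₀.1 e.symm).resolve_right (pow_ne_zero _ H.four_ne_zero)
      by_contra hne
      exact H.four_pow_ne_one (fun hd => hne (by
        have := Nat.eq_zero_of_dvd_of_lt hd (by omega); omega)) h1
    · obtain ⟨k, rfl⟩ := Nat.exists_eq_add_of_le hle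
      rw [pow_add] at e
      have h1 : (4 : ZMod p) ^ k = 1 :=
        (mul_right_eq_self₀.1 e).resolve_right (pow_ne_zero _ H.four_ne_zero)
      by_contra hne
      exact H.four_pow_ne_one (fun hd => hne (by
        have := Nat.eq_zero_of_dvd_of_lt hd (by omega); omega)) h1
  have hneg : ∀ i j : ℕ, (4 : ZMod p) ^ i ≠ -(4 ^ j) := fun i j e => H.neg_one_not_square (by
    have h1 : (-1 : ZMod p) = 4 ^ i / 4 ^ j := by
      rw [eq_div_iff (pow_ne_zero _ H.four_ne_zero)]; linear_combination -e
    rw [h1]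
    exact (H.four_square.pow i).div (H.four_square.pow j))
  set A := (Finset.range q).image fun j => (4 : ZMod p) ^ j with hA
  set B := (Finset.range q).image fun j => -((4 : ZMod p) ^ j) with hB
  have hiA : Set.InjOn (fun j => (4 : ZMod p) ^ j) (Finset.range q) := fun i hi j hj e =>
    hinj i (Finset.mem_range.1 hi) j (Finset.mem_range.1 hj) e
  have hiB : Set.InjOn (fun j => -((4 : ZMod p) ^ j)) (Finset.range q) := fun i hi j hj e =>
    hinj i (Finset.mem_range.1 hi) j (Finset.mem_range.1 hj) (neg_injective e)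
  have hd : Disjoint A B := by
    rw [Finset.disjoint_left]
    intro x hx hx'
    simp only [hA, hB, Finset.mem_image] at hx hx'
    obtain ⟨i, -, rfl⟩ := hx
    obtain ⟨j, -, e⟩ := hx'
    exact hneg i j e.symm
  have hun : Finset.univ.erase (0 : ZMod p) = A ∪ B := by
    refine (Finset.eq_of_subset_of_card_le ?_ ?_).symm
    · intro x hx
      refine Finset.mem_erase.2 ⟨?_, Finset.mem_univ _⟩
      simp only [hA, hB, Finset.mem_union, Finset.mem_image] at hx
      rcases hx with ⟨i, -, rfl⟩ | ⟨i, -, rfl⟩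
      · exact pow_ne_zero _ H.four_ne_zero
      · exact neg_ne_zero.2 (pow_ne_zero _ H.four_ne_zero)
    · rw [Finset.card_union_of_disjoint hd, hA, hB, Finset.card_image_of_injOn hiA,
        Finset.card_image_of_injOn hiB, Finset.card_range, Finset.card_erase_of_mem (Finset.mem_univ _),
        Finset.card_univ, ZMod.card]
      have := H.pq
      omega
  rw [hun, Finset.sum_union hd, hA, hB, Finset.sum_image hiA, Finset.sum_image hiB,
    Finset.sum_add_distrib]

theorem tri_scale (gr : Graph p q a G T) (j : ℕ) (y z : ZMod p) :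
    T 0 (4 ^ j * y) (4 ^ j * z) ↔ T 0 y z := by
  have h := gr.inv (H.scale ^ j) 0 y z
  rwa [H.scale_pow_smul, H.scale_pow_smul, H.scale_pow_smul, mul_zero] at h

/-- At an element of order `q`. -/
theorem trace_scale (gr : Graph p q a G T) {j : ℕ} (hj : ¬ q ∣ j) :
    ((if T 0 1 (4 ^ j) then 1 else 0 : ℕ) + (if T 0 (-1) (-(4 ^ j)) then 1 else 0)) = 1 ∧
      (Finset.univ.filter fun x => T 0 x (H.scale ^ j • x)).card = q := by
  set v := ((if T 0 1 (4 ^ j) then 1 else 0 : ℕ) + (if T 0 (-1) (-(4 ^ j)) then 1 else 0)) with hv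
  have hcnt : (Finset.univ.filter fun x => T 0 x (H.scale ^ j • x)).card = q * v := by
    apply Nat.cast_injective (R := ℂ)
    rw [Finset.card_filter, Nat.cast_sum, ← Finset.add_sum_erase _ _ (Finset.mem_univ (0 : ZMod p)),
      H.sum_nonzero, if_neg (fun h => (gr.irr h).1 rfl), Nat.cast_zero, zero_add,
      Finset.sum_congr rfl (g := fun _ => (v : ℂ)) fun i _ => ?_, Finset.sum_const, Finset.card_range,
      nsmul_eq_mul, Nat.cast_mul]
    have e1 : T 0 (4 ^ i) (H.scale ^ j • (4 : ZMod p) ^ i) ↔ T 0 1 (4 ^ j) := by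
      rw [← H.tri_scale gr i 1, H.scale_pow_smul, mul_one, mul_comm ((4 : ZMod p) ^ j)]
    have e2 : T 0 (-(4 ^ i)) (H.scale ^ j • -((4 : ZMod p) ^ i)) ↔ T 0 (-1) (-(4 ^ j)) := by
      rw [← H.tri_scale gr i (-1) (-(4 ^ j)), H.scale_pow_smul,
        show (4 : ZMod p) ^ i * -1 = -(4 ^ i) by ring,
        show (4 : ZMod p) ^ j * -(4 : ZMod p) ^ i = 4 ^ i * -4 ^ j by ring]
    simp only [e1, e2, hv, Nat.cast_add]
  have hv1 : v = 1 := by
    obtain ⟨ψ₁, ψ₂, -, -, hψ⟩ := gr.chars
    set h : stabilizer G (0 : ZMod p) := ⟨H.scale ^ j, pow_mem H.scale_stabilizer j⟩ with hh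
    have hne : H.scale ^ j ≠ 1 := fun e => hj ((dvd_of_eq H.orderOf_scale.symm).trans
      (orderOf_dvd_iff_pow_eq_one.2 e))
    have h2 := (hψ h).2
    rw [H.card_fixedBy_Q (pow_mem (Subgroup.mem_zpowers _) j) hne, hcnt] at h2
    push_cast at h2
    have h3 : (2 * (a : ℂ) + 1) * ((ψ₂ : _ → ℂ) h + 1) = (q : ℂ) * (1 - (v : ℂ)) := by
      rw [gr.hq]; push_cast
      rw [gr.hq] at h2; push_cast at h2
      linear_combination h2
    haveI := Fintype.ofFinite (stabilizer G (0 : ZMod p))
    have hint : IsIntegral ℤ ((ψ₂ : _ → ℂ) h + 1) :=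
      ((CfsgLib.Char.IsChar.isIntegral (CfsgLib.Char.IsIrr.isCharacter ψ₂.2) h)).add isIntegral_one
    have hne' : (2 * (a : ℂ) + 1) ≠ 0 := by
      exact_mod_cast (Nat.succ_ne_zero (2 * a) : 2 * a + 1 ≠ 0)
    set r : ℚ := (q : ℚ) * (1 - (v : ℚ)) / (2 * a + 1) with hr
    have hα : (ψ₂ : _ → ℂ) h + 1 = (r : ℂ) := by
      rw [hr]; push_cast; rw [eq_div_iff hne']; linear_combination h3
    obtain ⟨z, hz⟩ := CfsgLib.RankThreeInv.exists_int_of_isIntegral (q := r) (hα ▸ hint)
    rw [hα, hz] at h3
    have h4 : (2 * (a : ℤ) + 1) * z = (q : ℤ) * (1 - v) := by exact_mod_cast h3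
    have hv2 : v ≤ 2 := by rw [hv]; split_ifs <;> omega
    by_contra hne1
    have hd : (2 * (a : ℤ) + 1) ∣ (q : ℤ) := by
      rcases (show v = 0 ∨ v = 2 by omega) with e | e <;> rw [e] at h4
      · exact ⟨z, by linear_combination -h4⟩
      · exact ⟨-z, by push_cast at h4; linear_combination h4⟩
    have hd2 : (2 * (a : ℤ) + 1) ∣ 1 := by
      have : (1 : ℤ) = 2 * q - (2 * a + 1) * (2 * a + 1) := by rw [gr.hq]; push_cast; ring
      have h9 := dvd_sub (hd.mul_left 2) (dvd_mul_right (2 * (a : ℤ) + 1) (2 * a + 1))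
      rwa [← this] at h9
    have := Int.le_of_dvd one_pos hd2
    have := gr.two_le
    omega
  exact ⟨hv1, by rw [hcnt, hv1, mul_one]⟩

/-- No nonzero function lies in the bottom eigenspace together with its reflection. -/
theorem no_eigen (gr : Graph p q a G T) (F : ZMod p → ℂ)
    (h1 : ∀ y, y ≠ 0 → ∑ z, (if T 0 y z then F z else 0) = -((a : ℂ) + 1) * F y)
    (h2 : ∀ y, y ≠ 0 → ∑ z, (if T 0 y z then F (-z) else 0) = -((a : ℂ) + 1) * F (-y)) :
    ∀ x, x ≠ 0 → F x = 0 := by
  have hq := H.qprime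
  set ζ := Complex.exp (2 * Real.pi * Complex.I / q) with hζdef
  have hζ : IsPrimitiveRoot ζ q := Complex.isPrimitiveRoot_exp q hq.ne_zero
  have hperiod : ∀ (k n : ℕ), ζ ^ (k * (n % q)) = ζ ^ (k * n) := by
    intro k n
    conv_rhs => rw [← Nat.mod_add_div n q, mul_add, pow_add, mul_left_comm, pow_mul ζ q, hζ.pow_eq_one,
      one_pow, mul_one]
  have hconj : ∀ i, i < q → ∀ k, conj (ζ ^ (k * i)) = ζ ^ (k * ((q - i) % q)) := by
    intro i hi k
    have hn : ‖ζ ^ (k * i)‖ = 1 := by rw [norm_pow, hζ.norm'_eq_one hq.ne_zero, one_pow]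
    rw [← Complex.inv_eq_conj hn, hperiod]
    refine inv_eq_of_mul_eq_one_right ?_
    rw [← pow_add, ← mul_add, show i + (q - i) = q by omega, mul_comm, pow_mul, hζ.pow_eq_one, one_pow]
  -- the weight components
  set c : ℕ → ℕ → ℂ := fun k i => ζ ^ (k * ((q - i) % q)) with hc
  let w : ℕ → ZMod p → ℂ := fun k d => ∑ j ∈ Finset.range q, ζ ^ (k * j) * F (4 ^ j * d)
  have hw : ∀ k i d, i < q → w k (4 ^ i * d) = c k i * w k d := by
    intro k i d hi
    have h3 : ∀ d, ζ ^ k * w k (4 * d) = w k d := by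
      intro d
      show ζ ^ k * ∑ j ∈ Finset.range q, ζ ^ (k * j) * F (4 ^ j * (4 * d)) = _
      rw [Finset.mul_sum, Finset.sum_congr rfl fun j _ => show ζ ^ k * (ζ ^ (k * j) * F (4 ^ j * (4 * d))) =
        ζ ^ (k * (j + 1)) * F (4 ^ (j + 1) * d) by ring_nf]
      have e := (Finset.sum_range_succ' (fun j => ζ ^ (k * j) * F (4 ^ j * d)) q).symm.trans
        (Finset.sum_range_succ _ q)
      simp only [mul_zero, pow_zero, one_mul] at e
      rw [H.four_pow_q, mul_comm k q, pow_mul, hζ.pow_eq_one, one_pow, one_mul, one_mul] at e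
      exact add_right_cancel e
    have h4 : ∀ i, ζ ^ (k * i) * w k (4 ^ i * d) = w k d := by
      intro i
      induction i with
      | zero => simp
      | succ i ih =>
        rw [mul_add, pow_add, mul_one, mul_assoc, pow_succ', mul_assoc, h3, ih]
    have h5 : ζ ^ (k * i) * c k i = 1 := by
      rw [hc]; dsimp only
      rw [hperiod, ← pow_add, ← mul_add, show i + (q - i) = q by omega, mul_comm, pow_mul,
        hζ.pow_eq_one, one_pow]
    calc w k (4 ^ i * d) = (ζ ^ (k * i) * c k i) * w k (4 ^ i * d) := by rw [h5, one_mul]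
      _ = c k i * (ζ ^ (k * i) * w k (4 ^ i * d)) := by ring
      _ = _ := by rw [h4]
  -- the equations for a component
  have heig : ∀ (Φ : ZMod p → ℂ), (∀ y, y ≠ 0 → ∑ z, (if T 0 y z then Φ z else 0) =
      -((a : ℂ) + 1) * Φ y) → ∀ (j : ℕ) y, y ≠ 0 →
      ∑ z, (if T 0 y z then Φ (4 ^ j * z) else 0) = -((a : ℂ) + 1) * Φ (4 ^ j * y) := by
    intro Φ hΦ j y hy
    rw [← hΦ _ (mul_ne_zero (pow_ne_zero j H.four_ne_zero) hy)]
    refine Fintype.sum_equiv (Equiv.mulLeft₀ _ (pow_ne_zero j H.four_ne_zero)) _ _ fun z => ?_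
    show _ = if T 0 (4 ^ j * y) (4 ^ j * z) then Φ (4 ^ j * z) else 0
    rw [if_congr (H.tri_scale gr j y z) rfl rfl]
  have hweig : ∀ k y, y ≠ 0 → (∑ z, (if T 0 y z then w k z else 0) = -((a : ℂ) + 1) * w k y) ∧
      (∑ z, (if T 0 y z then w k (-z) else 0) = -((a : ℂ) + 1) * w k (-y)) := by
    intro k y hy
    constructor
    · simp only [w, Finset.mul_sum, ← mul_assoc, ite_sum0]
      rw [Finset.sum_comm]
      refine Finset.sum_congr rfl fun j _ => ?_
      rw [mul_comm (-((a : ℂ) + 1)), mul_assoc, ← heig F h1 j y hy, Finset.mul_sum]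
      exact Finset.sum_congr rfl fun z _ => by rw [mul_ite, mul_zero]
    · simp only [w, Finset.mul_sum, ← mul_assoc, ite_sum0, mul_neg]
      rw [Finset.sum_comm]
      refine Finset.sum_congr rfl fun j _ => ?_
      rw [mul_comm (-((a : ℂ) + 1)), mul_assoc, ← heig (fun z => F (-z)) h2 j y hy, Finset.mul_sum]
      exact Finset.sum_congr rfl fun z _ => by rw [mul_ite, mul_zero]
  -- the two by two systems
  let co : ℕ → ZMod p → ZMod p → ℂ := fun k y d =>
    ∑ i ∈ Finset.range q, if T 0 y (4 ^ i * d) then c k i else 0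
  have hsys : ∀ k y, y ≠ 0 →
      co k y 1 * w k 1 + co k y (-1) * w k (-1) = -((a : ℂ) + 1) * w k y ∧
      co k y 1 * w k (-1) + co k y (-1) * w k 1 = -((a : ℂ) + 1) * w k (-y) := by
    intro k y hy
    constructor
    · rw [← (hweig k y hy).1, ← Finset.add_sum_erase _ _ (Finset.mem_univ (0 : ZMod p)),
        if_neg (fun h => (gr.irr h).2.1 rfl), zero_add, H.sum_nonzero, Finset.sum_add_distrib,
        Finset.sum_mul, Finset.sum_mul]
      congr 1 <;> refine Finset.sum_congr rfl fun i hi => ?_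
      · rw [ite_mul, zero_mul, mul_one, ← hw k i 1 (Finset.mem_range.1 hi), mul_one]
      · rw [ite_mul, zero_mul, mul_neg, mul_one, ← hw k i (-1) (Finset.mem_range.1 hi), mul_neg, mul_one]
    · rw [← (hweig k y hy).2, ← Finset.add_sum_erase _ _ (Finset.mem_univ (0 : ZMod p)),
        if_neg (fun h => (gr.irr h).2.1 rfl), zero_add, H.sum_nonzero, Finset.sum_add_distrib,
        Finset.sum_mul, Finset.sum_mul]
      congr 1 <;> refine Finset.sum_congr rfl fun i hi => ?_
      · rw [ite_mul, zero_mul, mul_one, ← hw k i (-1) (Finset.mem_range.1 hi), mul_neg, mul_one]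
      · rw [ite_mul, zero_mul, mul_neg, mul_one, ← hw k i 1 (Finset.mem_range.1 hi), mul_one, neg_neg]
  -- symmetry
  have hflip : ∀ (i : ℕ) (y d : ZMod p), i < q →
      (T 0 y (4 ^ ((q - i) % q) * d) ↔ T 0 d (4 ^ i * y)) := by
    intro i y d hi
    rw [← H.tri_scale gr i y, ← mul_assoc, ← pow_add]
    rw [show (4 : ZMod p) ^ (i + (q - i) % q) = 1 by
      rw [pow_add, H.four_pow_mod, ← pow_add, show i + (q - i) = q by omega, H.four_pow_q], one_mul]
    exact ⟨gr.sym23, gr.sym23⟩
  have hcconj : ∀ k y d, conj (co k y d) = co k d y := by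
    intro k y d
    show conj (∑ i ∈ Finset.range q, if T 0 y (4 ^ i * d) then c k i else 0) = _
    rw [map_sum, ← sum_reflect hq.pos]
    refine Finset.sum_congr rfl fun i hi => ?_
    have hi' := Finset.mem_range.1 hi
    simp only [apply_ite (starRingEnd ℂ), map_zero]
    refine if_congr (hflip i y d hi') ?_ rfl
    rw [hc]; dsimp only
    rw [hconj _ (Nat.mod_lt _ hq.pos), show (q - (q - i) % q) % q = i by
      rcases Nat.eq_zero_or_pos i with rfl | hpos
      · simp
      · rw [Nat.mod_eq_of_lt (show q - i < q by omega), show q - (q - i) = i by omega,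
          Nat.mod_eq_of_lt hi']]
  intro x hx
  -- it is enough that all components vanish
  suffices hall : ∀ k, k < q → w k 1 = 0 ∧ w k (-1) = 0 by
    have hz : ∀ d, (∀ k < q, w k d = 0) → F d = 0 := by
      intro d hd
      have e : ∑ k ∈ Finset.range q, w k d = (q : ℂ) * F d := by
        show ∑ k ∈ Finset.range q, ∑ j ∈ Finset.range q, ζ ^ (k * j) * F (4 ^ j * d) = _
        rw [Finset.sum_comm, Finset.sum_eq_single 0]
        · simp
        · intro j hj hj0
          rw [← Finset.sum_mul]
          have : ∑ k ∈ Finset.range q, ζ ^ (k * j) = 0 := by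
            simp only [mul_comm _ j, pow_mul]
            refine IsPrimitiveRoot.geom_sum_eq_zero ?_ hq.one_lt
            exact hζ.pow_of_coprime j ((hq.coprime_iff_not_dvd.2 fun hd =>
              hj0 (Nat.eq_zero_of_dvd_of_lt hd (Finset.mem_range.1 hj))).symm)
          rw [this, zero_mul]
        · exact fun h => absurd (Finset.mem_range.2 hq.pos) h
      rw [Finset.sum_eq_zero fun k hk => hd k (Finset.mem_range.1 hk)] at e
      exact (mul_eq_zero.1 e.symm).resolve_left (Nat.cast_ne_zero.2 hq.ne_zero)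
    obtain ⟨j, hj, hxj⟩ : ∃ j < q, x = 4 ^ j ∨ x = -(4 ^ j) := by
      by_contra hno
      push Not at hno
      have h3 := H.sum_nonzero fun y => if y = x then (1 : ℂ) else 0
      rw [Finset.sum_ite_eq', if_pos (Finset.mem_erase.2 ⟨hx, Finset.mem_univ _⟩),
        Finset.sum_eq_zero fun j hj => by
          rw [if_neg (Ne.symm (hno j (Finset.mem_range.1 hj)).1),
            if_neg (Ne.symm (hno j (Finset.mem_range.1 hj)).2), add_zero]] at h3
      exact one_ne_zero h3
    refine hz x fun k hk => ?_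
    rcases hxj with rfl | rfl
    · rw [← mul_one ((4 : ZMod p) ^ j), hw k j 1 hj, (hall k hk).1, mul_zero]
    · rw [← mul_neg_one, hw k j (-1) hj, (hall k hk).2, mul_zero]
  intro k hk
  set α := co k 1 1 with hα
  set γ := co k 1 (-1) with hγ
  set β := co k (-1) 1 with hβ
  set δ := co k (-1) (-1) with hδ
  obtain ⟨e1, e2⟩ := hsys k 1 one_ne_zero
  obtain ⟨e3, e4⟩ := hsys k (-1) (neg_ne_zero.2 one_ne_zero)
  rw [neg_neg] at e4
  rw [← hα, ← hγ] at e1 e2
  rw [← hβ, ← hδ] at e3 e4
  set s := w k 1 + w k (-1) with hs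
  set t := w k 1 - w k (-1) with ht
  suffices s = 0 ∧ t = 0 by
    obtain ⟨es, et⟩ := this
    rw [hs] at es
    rw [ht] at et
    exact ⟨by linear_combination (es + et) / 2, by linear_combination (es - et) / 2⟩
  have hs1 : (α + γ + a + 1) * s = 0 := by rw [hs]; linear_combination e1 + e2
  have hs2 : (δ + β + a + 1) * s = 0 := by rw [hs]; linear_combination e3 + e4
  have ht1 : (α - γ + a + 1) * t = 0 := by rw [ht]; linear_combination e1 - e2
  have ht2 : (δ - β + a + 1) * t = 0 := by rw [ht]; linear_combination e4 - e3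
  have cα : conj α = α := hcconj k 1 1
  have cδ : conj δ = δ := hcconj k (-1) (-1)
  have cβ : conj β = γ := hcconj k (-1) 1
  rcases Nat.eq_zero_or_pos k with hk0 | hk0
  · -- weight zero
    subst hk0
    have hc1 : ∀ i, c 0 i = 1 := fun i => by simp [hc]
    have hrow : α + γ = (a : ℂ) * (2 * a + 1) := by
      have h3 := gr.row 0 1 zero_ne_one
      have h4 : (((Finset.univ.filter fun z => T 0 1 z).card : ℕ) : ℂ) = α + γ := by
        rw [Finset.card_filter, Nat.cast_sum, ← Finset.add_sum_erase _ _ (Finset.mem_univ (0 : ZMod p)),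
          H.sum_nonzero, if_neg (fun h => (gr.irr h).2.1 rfl), Nat.cast_zero, zero_add,
          Finset.sum_add_distrib, hα, hγ]
        simp [co, hc1]
      rw [← h4, h3]
      push_cast; ring
    refine ⟨(mul_eq_zero.1 hs1).resolve_left ?_, (mul_eq_zero.1 ht1).resolve_left ?_⟩
    · rw [hrow]
      exact_mod_cast (Nat.succ_ne_zero (a * (2 * a + 1) + a) : a * (2 * a + 1) + a + 1 ≠ 0)
    · intro e
      obtain ⟨n, hn⟩ : ∃ n : ℕ, α = n := ⟨_, by
        rw [hα]; simp only [co, hc1, Finset.sum_boole]; rfl⟩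
      have h5 : 2 * (n : ℂ) + 1 = 2 * (a : ℂ) ^ 2 := by
        rw [hn] at e hrow; linear_combination e + hrow
      have h6 : 2 * n + 1 = 2 * a ^ 2 := by exact_mod_cast h5
      omega
  · -- the other weights
    have hprim : IsPrimitiveRoot (ζ ^ k) q := hζ.pow_of_coprime k
      ((hq.coprime_iff_not_dvd.2 fun hd => by
        have := Nat.le_of_dvd hk0 hd; omega).symm)
    have hsum : α + δ = -1 := by
      rw [hα, hδ]
      show (∑ i ∈ Finset.range q, if T 0 1 (4 ^ i * 1) then c k i else 0) +
        (∑ i ∈ Finset.range q, if T 0 (-1) (4 ^ i * -1) then c k i else 0) = -1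
      have h7 : ∑ i ∈ Finset.range q, c k i = 0 := by
        show ∑ i ∈ Finset.range q, ζ ^ (k * ((q - i) % q)) = 0
        rw [sum_reflect hq.pos (fun i => ζ ^ (k * i))]
        simp only [pow_mul]
        exact hprim.geom_sum_eq_zero hq.one_lt
      rw [← Finset.sum_add_distrib, show (-1 : ℂ) = (∑ i ∈ Finset.range q, c k i) +
        ∑ i ∈ Finset.range q, (if i = 0 then -1 else 0) by
          rw [h7, Finset.sum_ite_eq', if_pos (Finset.mem_range.2 hq.pos), zero_add],
        ← Finset.sum_add_distrib]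
      refine Finset.sum_congr rfl fun i hi => ?_
      rcases Nat.eq_zero_or_pos i with rfl | hpos
      · rw [if_pos rfl, if_neg (fun h => (gr.irr h).2.2 (by simp)),
          if_neg (fun h => (gr.irr h).2.2 (by simp))]
        simp [hc]
      · rw [if_neg (show i ≠ 0 by omega), add_zero]
        have h8 := (H.trace_scale gr (j := i) (fun hd => by
          have := Nat.le_of_dvd hpos hd; have := Finset.mem_range.1 hi; omega)).1
        rw [mul_one, mul_neg, mul_one]
        split_ifs with u1 u2 u2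
        · rw [if_pos u1, if_pos u2] at h8; omega
        · rw [add_zero]
        · rw [zero_add]
        · rw [if_neg u1, if_neg u2] at h8; omega
    have hhalf : ¬ (α = δ) := fun e => by
      rw [← e] at hsum
      have hint : IsIntegral ℤ α := by
        rw [hα]
        refine IsIntegral.sum _ fun i _ => ?_
        split_ifs
        · exact IsIntegral.pow (hζ.isIntegral hq.pos) _
        · exact isIntegral_zero
      have hr : α = ((-1 / 2 : ℚ) : ℂ) := by push_cast; linear_combination hsum / 2
      obtain ⟨z, hz⟩ := CfsgLib.RankThreeInv.exists_int_of_isIntegral (q := (-1 / 2 : ℚ)) (hr ▸ hint)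
      have h2z : (2 : ℤ) * z = -1 := by
        exact_mod_cast (show (2 : ℚ) * z = -1 by rw [← hz]; norm_num)
      omega
    have cγ : conj γ = β := by rw [← cβ, Complex.conj_conj]
    constructor
    · by_contra hne
      have e5 := (mul_eq_zero.1 hs1).resolve_right hne
      have e6 := (mul_eq_zero.1 hs2).resolve_right hne
      have e7 := congrArg conj e5
      simp only [map_add, map_natCast, map_one, map_zero, cα, cγ] at e7
      have e8 := congrArg conj e6
      simp only [map_add, map_natCast, map_one, map_zero, cδ, cβ] at e8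
      exact hhalf (by linear_combination (e5 - e6 + e7 - e8) / 2)
    · by_contra hne
      have e5 := (mul_eq_zero.1 ht1).resolve_right hne
      have e6 := (mul_eq_zero.1 ht2).resolve_right hne
      have e7 := congrArg conj e5
      simp only [map_add, map_sub, map_natCast, map_one, map_zero, cα, cγ] at e7
      have e8 := congrArg conj e6
      simp only [map_add, map_sub, map_natCast, map_one, map_zero, cδ, cβ] at e8
      exact hhalf (by linear_combination (e5 - e6 + e7 - e8) / 2)

end Hyp

end CfsgLib.Perm.ItoTwoQ
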